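import Cfsg.Agent.S3701

/-!
The group `3³ : S₄ ≤ A₉` (`S₄` the rotation group of the cube acting monomially).
-/

set_option autoImplicit false

namespace Cfsg.Agent.Char.Cube

open Cfsg Cfsg.Agent.Char Cfsg.Agent.Char.Euclid Subgroup Equiv

abbrev W := Perm (Fin 4)

/-- the six 4-cycles and three double transpositions -/
def X : Fin 9 → W :=
  ![swap 3 1 * swap 1 0 * swap 0 2, swap 3 2 * swap 2 0 * swap 0 1, swap 3 0 * swap 1 2,
    swap 3 2 * swap 2 1 * swap 1 0, swap 3 0 * swap 0 1 * swap 1 2, swap 3 1 * swap 0 2,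
    swap 3 0 * swap 0 2 * swap 2 1, swap 3 1 * swap 1 2 * swap 2 0, swap 3 2 * swap 0 1]

/-- position in the list `X` -/
def idx (p : W) : Fin 9 :=
  if p 3 = 1 then (if p 1 = 0 then 0 else if p 1 = 3 then 5 else 7)
  else if p 3 = 2 then (if p 2 = 0 then 1 else if p 2 = 1 then 3 else 8)
  else (if p 0 = 3 then 2 else if p 0 = 1 then 4 else 6)

theorem X_idx : ∀ (w : W) (i : Fin 9), X (idx (w * X i * w⁻¹)) = w * X i * w⁻¹ := by
  decide +kernel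

theorem idx_X : ∀ i, idx (X i) = i := by decide +kernel

/-- `S₄` on nine points -/
def κ0 : W →* Perm (Fin 9) :=
  MonoidHom.mk' (fun w => ⟨fun i => idx (w * X i * w⁻¹), fun i => idx (w⁻¹ * X i * w⁻¹⁻¹),
    fun i => by simp only [X_idx]; simp [mul_assoc, idx_X],
    fun i => by simp only [X_idx]; simp [mul_assoc, idx_X]⟩)
    (fun a b => Equiv.ext fun i => by
      change idx _ = idx (a * X (idx _) * a⁻¹)
      rw [X_idx]; simp [mul_assoc])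

/-- signed basis vectors -/
def bas : Fin 9 → V3 := ![v3 1 0 0, v3 2 0 0, 1, v3 0 1 0, v3 0 2 0, 1, v3 0 0 1, v3 0 0 2, 1]

/-- the monomial action -/
def act (w : W) (v : V3) : V3 :=
  bas (κ0 w 0) ^ v.toAdd.1.val * bas (κ0 w 3) ^ v.toAdd.2.1.val * bas (κ0 w 6) ^ v.toAdd.2.2.val

/-- a 3-cycle -/
def σ : W := swap 0 1 * swap 1 2

theorem split0 : Split S3701.φ0 κ0 act (Subgroup.closure ({Equiv.swap (0 : Fin 9) 1 * Equiv.swap 1 2,
    Equiv.swap (0 : Fin 9) 3 * Equiv.swap 3 6 * (Equiv.swap (1 : Fin 9) 4 * Equiv.swap 4 7) *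
      (Equiv.swap (2 : Fin 9) 5 * Equiv.swap 5 8), Equiv.swap (0 : Fin 9) 1 * Equiv.swap 3 4,
    Equiv.swap (0 : Fin 9) 3 * Equiv.swap 1 4 * Equiv.swap 2 5 * Equiv.swap 6 7} :
      Set (Equiv.Perm (Fin 9)))) := by
  set K := Subgroup.closure ({Equiv.swap (0 : Fin 9) 1 * Equiv.swap 1 2,
    Equiv.swap (0 : Fin 9) 3 * Equiv.swap 3 6 * (Equiv.swap (1 : Fin 9) 4 * Equiv.swap 4 7) *
      (Equiv.swap (2 : Fin 9) 5 * Equiv.swap 5 8), Equiv.swap (0 : Fin 9) 1 * Equiv.swap 3 4,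
    Equiv.swap (0 : Fin 9) 3 * Equiv.swap 1 4 * Equiv.swap 2 5 * Equiv.swap 6 7} :
      Set (Equiv.Perm (Fin 9))) with hK
  have e1 : S3701.φ0 (v3 1 0 0) = Equiv.swap (0 : Fin 9) 1 * Equiv.swap 1 2 := by decide +kernel
  have e2 : κ0 σ = Equiv.swap (0 : Fin 9) 3 * Equiv.swap 3 6 * (Equiv.swap (1 : Fin 9) 4 *
    Equiv.swap 4 7) * (Equiv.swap (2 : Fin 9) 5 * Equiv.swap 5 8) := by decide +kernel
  have e3 : κ0 (X 8) = Equiv.swap (0 : Fin 9) 1 * Equiv.swap 3 4 := by decide +kernel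
  have e4 : κ0 (swap 2 3) = Equiv.swap (0 : Fin 9) 3 * Equiv.swap 1 4 * Equiv.swap 2 5 *
    Equiv.swap 6 7 := by decide +kernel
  have m1 : S3701.φ0 (v3 1 0 0) ∈ K := e1 ▸ subset_closure (by simp)
  have m2 : κ0 σ ∈ K := e2 ▸ subset_closure (by simp)
  have m3 : κ0 (X 8) ∈ K := e3 ▸ subset_closure (by simp)
  have m4 : κ0 (swap 2 3) ∈ K := e4 ▸ subset_closure (by simp)
  have hc : ∀ w v, κ0 w * S3701.φ0 v * (κ0 w)⁻¹ = S3701.φ0 (act w v) := fun w v => by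
    have h : ∀ w, κ0 w * S3701.φ0 (v3 1 0 0) = S3701.φ0 (bas (κ0 w 0)) * κ0 w ∧
        κ0 w * S3701.φ0 (v3 0 1 0) = S3701.φ0 (bas (κ0 w 3)) * κ0 w ∧
        κ0 w * S3701.φ0 (v3 0 0 1) = S3701.φ0 (bas (κ0 w 6)) * κ0 w := by decide +kernel
    have hv : ∀ v : V3, v = v3 1 0 0 ^ v.toAdd.1.val * v3 0 1 0 ^ v.toAdd.2.1.val *
      v3 0 0 1 ^ v.toAdd.2.2.val := by decide +kernel
    obtain ⟨h1, h2, h3⟩ := h w
    rw [act]
    conv_lhs => rw [hv v]
    simp only [map_mul, map_pow, ← mul_inv_eq_iff_eq_mul.2 h1, ← mul_inv_eq_iff_eq_mul.2 h2,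
      ← mul_inv_eq_iff_eq_mul.2 h3, conj_pow, conj_mul]
  refine Split.of_closure S3701.split0.inj hc (by decide +kernel) ?_ (fun v => ?_) (fun w => ?_)
  · intro x hx
    simp only [Set.mem_insert_iff, Set.mem_singleton_iff] at hx
    rcases hx with rfl | rfl | rfl | rfl
    · exact ⟨v3 1 0 0, 1, by rw [e1]; simp⟩
    · exact ⟨1, σ, by rw [e2]; simp⟩
    · exact ⟨1, X 8, by rw [e3]; simp⟩
    · exact ⟨1, swap 2 3, by rw [e4]; simp⟩
  · have h1 : S3701.φ0 (act σ (v3 1 0 0)) ∈ K := hc _ _ ▸ mul_mem (mul_mem m2 m1) (inv_mem m2)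
    have h2 : S3701.φ0 (act σ (act σ (v3 1 0 0))) ∈ K :=
      hc _ _ ▸ mul_mem (mul_mem m2 h1) (inv_mem m2)
    have : ∀ v : V3, v = v3 1 0 0 ^ v.toAdd.1.val * act σ (v3 1 0 0) ^ v.toAdd.2.1.val *
      act σ (act σ (v3 1 0 0)) ^ v.toAdd.2.2.val := by decide +kernel
    rw [this v, map_mul, map_mul, map_pow, map_pow, map_pow]
    exact mul_mem (mul_mem (pow_mem m1 _) (pow_mem h1 _)) (pow_mem h2 _)
  · obtain ⟨i, j, k, l, rfl⟩ : ∃ (i : Fin 3) (j k l : Fin 2),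
        w = σ ^ i.1 * X 8 ^ j.1 * (σ * X 8 * σ⁻¹) ^ k.1 * swap 2 3 ^ l.1 := by
      revert w; decide +kernel
    simp only [map_mul, map_pow, map_inv]
    exact mul_mem (mul_mem (mul_mem (pow_mem m2 _) (pow_mem m3 _))
      (pow_mem (mul_mem (mul_mem m2 m3) (inv_mem m2)) _)) (pow_mem m4 _)

/-- the normal four-group -/
def ι : W2 →* W :=
  fourHom (a := X 8) (b := X 5) (by decide +kernel) (by decide +kernel)
    (by unfold Commute SemiconjBy; decide +kernel)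

theorem act_ι : ∀ w v, act (ι w) v = S3701.act w v := by decide +kernel

theorem mem_or : ∀ w : W, (∃ u, ι u = w) ∨ ∃ a b, a * w * a⁻¹ * (b * w * b⁻¹) = σ := by
  decide +kernel

theorem four_or : ∀ w : W, w ^ 4 = 1 ∨ ∃ a, a * w * a⁻¹ * w ≠ 1 ∧ (a * w * a⁻¹ * w) ^ 4 = 1 := by
  decide +kernel

/-- order of the stabiliser -/
def st (u : V3) : ℕ := (Finset.univ.filter fun w => act w u = u).card

theorem orb_x : ∀ v, st v = st (v3 1 0 0) → ∃ w, act w (v3 1 0 0) = v := by decide +kernel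

theorem orb_c : ∀ v, st v = st (v3 1 1 1) → ∃ w, act w (v3 1 1 1) = v := by decide +kernel

theorem stab_x : ∀ w, act w (v3 1 0 0) = v3 1 0 0 → w ^ 3 = 1 → w = 1 := by decide +kernel

theorem card_cent : ∀ i : ZMod 3, (Finset.univ.filter fun r : V3 × W => r.2 * σ = σ * r.2 ∧
    r.1 * act r.2 (v3 i 0 0) = v3 i 0 0 * act σ r.1).card = 9 := by decide +kernel

theorem not_conj : ∀ r : V3 × W, r.2 * σ = σ * r.2 →
    r.1 * act r.2 (v3 1 0 0) ≠ v3 2 0 0 * act σ r.1 := by decide +kernel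

theorem conj_sq : ∀ i : ZMod 3, ∃ r : V3 × W, r.2 * σ = σ * σ * r.2 ∧
    r.1 * act r.2 (v3 i 0 0) = v3 i 0 0 * act σ (v3 i 0 0) * act (σ * σ) r.1 := by decide +kernel

theorem cube : ∀ i : ZMod 3, v3 i 0 0 * act σ (v3 i 0 0) * act (σ * σ) (v3 i 0 0) = v3 i i i := by
  decide +kernel

theorem real : ∀ v, ∃ w, act w v = v⁻¹ := by decide +kernel

theorem act_σ_c : act σ (v3 1 1 1) = v3 1 1 1 := by decide +kernel

theorem span_x : ∀ v : V3, v = v3 1 0 0 ^ v.toAdd.1.val * act σ (v3 1 0 0) ^ v.toAdd.2.1.val *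
    act σ (act σ (v3 1 0 0)) ^ v.toAdd.2.2.val := by decide +kernel

end Cfsg.Agent.Char.Cube
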