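import Mathlib
import Cfsg.Agent.Char.BrauerLocal
import Cfsg.Agent.Char.ActIrr
import Cfsg.Agent.Char.Triple
import Cfsg.Agent.Char.Det
import Cfsg.Agent.Char.Zeros
import Cfsg.Agent.Char.ExtraspecialChar
import Cfsg.Agent.Transfer.PCompl

/-!
# Extending invariant characters through a supplement; reduction to elementary subgroups
-/

set_option autoImplicit false
set_option maxSynthPendingDepth 3

namespace Cfsg.Agent.Char

open Cfsg Cfsg.Agent.Char Subgroup
open scoped ComplexConjugate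

section Sum

variable {G : Type*} [Group G]

theorem sum_eq_sum_inf (E N : Subgroup G) [Fintype E] [Fintype ↥(E ⊓ N)] (F : E → ℂ)
    (hF : ∀ e : E, (e : G) ∉ N → F e = 0) : ∑ e : E, F e = ∑ d : ↥(E ⊓ N), F ⟨d, d.2.1⟩ := by
  classical
  symm
  refine Finset.sum_of_injOn (fun d : ↥(E ⊓ N) => (⟨d, d.2.1⟩ : E)) ?_ (by simp) ?_
    fun _ _ => rfl
  · intro a _ b _ h
    exact Subtype.ext (congrArg (fun x : E => (x : G)) h)
  · intro e _ he
    exact hF e fun h => he ⟨⟨e, e.2, h⟩, by simp, rfl⟩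

theorem card_inf_mul_index [Finite G] (E N : Subgroup G) [N.Normal] :
    Nat.card ↥(E ⊓ N) * N.index = Nat.card E * (E ⊔ N).index := by
  have h1 := relIndex_mul_index (le_sup_right : N ≤ E ⊔ N)
  rw [relIndex_sup_right, ← inf_relIndex_left] at h1
  have h2 := ((E ⊓ N).subgroupOf E).card_mul_index
  rw [Nat.card_congr (subgroupOfEquivOfLe (inf_le_left : E ⊓ N ≤ E)).toEquiv] at h2
  rw [← h1, ← h2, relIndex, mul_assoc]

variable [Fintype G]

theorem indFun_apply_of_invariant (N : Subgroup G) [hN : N.Normal] {η : N → ℂ}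
    (hinv : ∀ (g : G) (n : N), η ⟨g * n * g⁻¹, hN.conj_mem n n.2 g⟩ = η n) (n : N) :
    indFun N η n = N.index * η n := by
  rw [indFun_apply_of_normal]
  simp only [hinv, Finset.sum_const, Finset.card_univ, nsmul_eq_mul, ← Nat.card_eq_fintype_card]
  rw [← N.card_mul_index, Nat.cast_mul, mul_assoc, inv_mul_cancel_left₀ (card_ne_zero N)]

/-- Mackey's formula for the inner product with a function induced from an invariant function. -/
theorem classInner_indFun_indFun_of_invariant (E N : Subgroup G) [hN : N.Normal]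
    [Fintype ↥(E ⊓ N)] (ψ : E → ℂ) {η : N → ℂ}
    (hinv : ∀ (g : G) (n : N), η ⟨g * n * g⁻¹, hN.conj_mem n n.2 g⟩ = η n) :
    classInner (indFun E ψ) (indFun N η) = (E ⊔ N).index *
      classInner (fun d : ↥(E ⊓ N) => ψ ⟨d, d.2.1⟩) (fun d => η ⟨d, d.2.2⟩) := by
  have := Fintype.ofFinite E
  rw [classInner_indFun_left E ψ (isClassFunction_indFun N η), classInner_def, classInner_def,
    sum_eq_sum_inf E N _ fun e he => by rw [indFun_eq_zero_of_normal N η he]; simp]
  have h1 : ∀ d : ↥(E ⊓ N), indFun N η d = N.index * η ⟨d, d.2.2⟩ := fun d =>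
    indFun_apply_of_invariant N hinv ⟨d, d.2.2⟩
  simp only [h1, map_mul, map_natCast, mul_left_comm _ (N.index : ℂ), ← Finset.mul_sum]
  have h2 : (Nat.card ↥(E ⊓ N) : ℂ) * N.index = Nat.card E * (E ⊔ N).index := by
    exact_mod_cast card_inf_mul_index E N
  have h3 := card_ne_zero E
  have h4 := card_ne_zero ↥(E ⊓ N)
  have h5 : (N.index : ℂ) = Nat.card E * (E ⊔ N).index / Nat.card ↥(E ⊓ N) := by
    rw [← h2]; field_simp
  rw [h5]
  field_simp

end Sum

section Elementary

variable {G : Type*} [Group G]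

/-- If `E / D` is a `p`-group and `p` does not divide `[α β, β]`, some `E`-invariant irreducible
character of `D` has multiplicity prime to `p` in `β`. -/
theorem exists_invBy_not_dvd [Finite G] {p : ℕ} [hp : Fact p.Prime] {E D : Subgroup G}
    [Fintype D] (hDE : D ≤ E) (hE : E ≤ normalizer (D : Set G)) {k : ℕ}
    (hk : D.relIndex E = p ^ k) {α β : D → ℂ} (hα : IsCharacter D α) (hβ : IsCharacter D β)
    (hαE : InvBy E α) (hβE : InvBy E β) {c : ℕ} (hc : classInner (α * β) β = c) (hpc : ¬ p ∣ c) :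
    ∃ φ : IrrCharacter D, InvBy E φ.1 ∧ ∃ m : ℕ, ¬ p ∣ m ∧ classInner β φ.1 = m := by
  classical
  obtain ⟨Q⟩ : Nonempty (Sylow p E) := inferInstance
  set P := (Q : Subgroup E).map E.subtype with hP
  have hPE : P ≤ E := map_subtype_le _
  have hPD : P ≤ normalizer (D : Set G) := hPE.trans hE
  have hsup : P ⊔ D = E := by
    have h := congrArg (Subgroup.map E.subtype) (Transfer.sup_sylow_eq_top_of_index hk Q)
    rwa [Subgroup.map_sup, subgroupOf_map_subtype, inf_eq_left.2 hDE, ← MonoidHom.range_eq_map,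
      range_subtype, sup_comm] at h
  choose a ha using fun φ : IrrCharacter D => hβ.exists_nat_inner φ.2.isCharacter
  choose b hb using fun φ : IrrCharacter D => (hα.mul φ.2.isCharacter).exists_nat_inner hβ
  have h1 : c = ∑ φ, a φ * b φ := by
    have : α * β = ∑ φ : IrrCharacter D, (a φ : ℂ) • (α * φ.1) := by
      conv_lhs => rw [hβ.isClassFunction.eq_sum_irr, Finset.mul_sum]
      simp only [ha, mul_smul_comm]
    rw [this, classInner_sum_left] at hc
    simp only [classInner_smul_left, hb] at hc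
    exact_mod_cast hc.symm
  let _ : MulAction P (IrrCharacter D) := MulAction.compHom _ (inclusion hPD)
  have hfix : ∀ (γ : D → ℂ), InvBy E γ → ∀ (x : P) (d : D),
      γ (D.normalizerMonoidHom (inclusion hPD x)⁻¹ d) = γ d := fun γ hγ x d =>
    hγ _ (inv_mem (hPE x.2)) _ _ (by rw [coe_normalizerMonoidHom_inv, inv_inv]; rfl)
  have h2 := sum_eq_sum_fixed_zmod (Q.isPGroup'.map E.subtype)
    (fun φ : IrrCharacter D => ((a φ * b φ : ℕ) : ZMod p)) fun x φ => by
      have e0 : (x • φ).1 = fun d => φ.1 (D.normalizerMonoidHom (inclusion hPD x)⁻¹ d) := rfl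
      have e1 : a (x • φ) = a φ := by
        have := classInner_comp_mulEquiv (D.normalizerMonoidHom (inclusion hPD x)⁻¹) β φ.1
        simp only [hfix β hβE] at this
        rw [← Nat.cast_inj (R := ℂ), ← ha, ← ha, e0, this]
      have e2 : b (x • φ) = b φ := by
        have := classInner_comp_mulEquiv (D.normalizerMonoidHom (inclusion hPD x)⁻¹) (α * φ.1) β
        simp only [hfix β hβE, Pi.mul_apply, hfix α hαE] at this
        rw [← Nat.cast_inj (R := ℂ), ← hb, ← hb, e0, ← this]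
        rfl
      simp only [e1, e2]
  by_contra h
  push Not at h
  apply hpc
  rw [h1, ← ZMod.natCast_eq_zero_iff, Nat.cast_sum, h2]
  refine Finset.sum_eq_zero fun φ hφ => ?_
  rw [ZMod.natCast_eq_zero_iff]
  refine Dvd.dvd.mul_right ?_ _
  by_contra h3
  refine h φ ?_ _ h3 (ha φ)
  rw [← hsup]
  exact ((invBy_iff_smul hPD φ).2 (Finset.mem_filter.1 hφ).2).sup hPD le_normalizer
    (invBy_self φ.2.isClassFunction)

/-- Reduction of an invariant character of a normal subgroup of `p`-power index to a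
`p`-elementary supplement. -/
theorem exists_elementary_invariant [Finite G] {p : ℕ} (hp : p.Prime) (N : Subgroup G)
    [hN : N.Normal] {k : ℕ} (hk : N.index = p ^ k) {θ : N → ℂ} (hθ : IsIrrCharacter N θ)
    (hinv : ∀ (g : G) (n : N), θ ⟨g * n * g⁻¹, hN.conj_mem n n.2 g⟩ = θ n) :
    ∃ (E : Subgroup G) (φ : IrrCharacter ↥(E ⊓ N)), IsElementary p E ∧ E ⊔ N = ⊤ ∧
      InvBy E φ.1 ∧ ∃ m : ℕ, ¬ p ∣ m ∧ ∀ [Fintype ↥(E ⊓ N)],
        classInner (fun d : ↥(E ⊓ N) => θ ⟨d, d.2.2⟩) φ.1 = m := by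
  have := Fact.mk hp
  have := Fintype.ofFinite G
  have := Fintype.ofFinite N
  obtain ⟨m, hm, h⟩ := exists_const_mem_elemSpan G hp
  by_contra hne
  apply hm
  set η : N → ℂ := fun n => θ n * conj (θ n) with hη
  have hηinv : ∀ (g : G) (n : N), η ⟨g * n * g⁻¹, hN.conj_mem n n.2 g⟩ = η n := fun g n => by
    simp only [hη, hinv]
  let L : (G → ℂ) →+ ℂ := AddMonoidHom.mk' (fun f => classInner f (indFun N η))
    fun f g => classInner_add_left f g _
  have key : elemSpan G p ≤ ((AddSubgroup.zmultiples (p : ℂ)).comap L).toIntSubmodule := by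
    refine Submodule.span_le.2 ?_
    rintro _ ⟨E, ψ, hE, hψ, rfl⟩
    change classInner _ _ ∈ AddSubgroup.zmultiples (p : ℂ)
    have := Fintype.ofFinite ↥(E ⊓ N)
    have hα : IsCharacter _ (fun d : ↥(E ⊓ N) => ψ ⟨d, d.2.1⟩) := hψ.comp (inclusion inf_le_left)
    have hβ : IsCharacter _ (fun d : ↥(E ⊓ N) => θ ⟨d, d.2.2⟩) :=
      hθ.isCharacter.comp (inclusion inf_le_right)
    obtain ⟨c, hc⟩ := (hα.mul hβ).exists_nat_inner hβ
    have h1 : classInner (indFun E ψ) (indFun N η) = ((E ⊔ N).index * c : ℕ) := by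
      rw [classInner_indFun_indFun_of_invariant E N ψ hηinv, Nat.cast_mul, ← hc, classInner_def,
        classInner_def]
      simp only [hη, Pi.mul_apply, map_mul, Complex.conj_conj]
      congr 2
      exact Finset.sum_congr rfl fun d _ => by ring
    have h2 : p ∣ (E ⊔ N).index * c := by
      by_cases hEN : E ⊔ N = ⊤
      · refine Dvd.dvd.mul_left ?_ _
        by_contra hpc
        obtain ⟨j, -, hj⟩ := (Nat.dvd_prime_pow hp).1
          (hk ▸ relIndex_dvd_index_of_normal N E : N.relIndex E ∣ p ^ k)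
        rw [← inf_relIndex_left] at hj
        obtain ⟨φ, hφ, m, hm1, hm2⟩ := exists_invBy_not_dvd (p := p) inf_le_left
          (fun g hg => mem_normalizer_fintype fun d hd =>
            ⟨E.mul_mem (E.mul_mem hg hd.1) (E.inv_mem hg), hN.conj_mem d hd.2 g⟩) hj hα hβ
          (fun s hs g g' e => by
            rw [← hψ.isClassFunction ⟨g, g.2.1⟩ ⟨s, hs⟩]
            exact congrArg ψ (Subtype.ext e))
          (fun s hs g g' e => by
            rw [← hinv s ⟨g, g.2.2⟩]
            exact congrArg θ (Subtype.ext e)) hc hpc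
        exact hne ⟨E, φ, hE, hEN, hφ, m, hm1, fun {i} => (classInner_congr_fintype _ _ _ _).trans hm2⟩
      · obtain ⟨j, -, hj⟩ := (Nat.dvd_prime_pow hp).1
          (hk ▸ index_dvd_of_le le_sup_right : (E ⊔ N).index ∣ p ^ k)
        refine Dvd.dvd.mul_right (hj ▸ dvd_pow_self p ?_) _
        rintro rfl
        exact hEN (index_eq_one.1 hj)
    obtain ⟨l, hl⟩ := h2
    rw [h1, hl]
    exact ⟨l, by simp [mul_comm]⟩
  obtain ⟨l, hl⟩ := key h
  have h3 : L (fun _ => (m : ℂ)) = m := by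
    change classInner _ _ = _
    rw [classInner_indFun_right N η (isClassFunction_const _), classInner_def]
    have h4 := hθ.inner_self
    rw [classInner_def] at h4
    simp only [hη, map_mul, Complex.conj_conj, ← Finset.mul_sum, mul_comm (conj (θ _))]
    rw [mul_left_comm, h4, mul_one]
  refine ⟨l, ?_⟩
  have h5 : (m : ℂ) = p * l := by
    rw [← h3, ← hl]; simp [mul_comm]
  exact_mod_cast h5

end Elementary

section Extend

variable {G : Type*} [Group G] [Finite G]

/-- The determinant at an element acting as a scalar. -/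
theorem detHom_of_eq_mul {η : G → ℂ} (hη : IsCharacter G η) {d : ℕ} (hd : η 1 = d) {z : G} {ω : ℂ}
    (hω : ‖ω‖ = 1) (h : η z = ω * d) : (detHom η z : ℂ) = ω ^ d := by
  obtain ⟨n, ρ, rfl⟩ := hη
  rw [ρ.char_one] at hd
  have hd' : Module.finrank ℂ (Fin n → ℂ) = d := by exact_mod_cast hd
  obtain ⟨ω', hω'⟩ := (rep_norm_char_eq_iff ρ z).1 (by rw [h, norm_mul, hω, hd']; simp)
  rw [detHom_character, repDet_apply, hω', LinearMap.det_smul, LinearMap.det_id, mul_one, hd']
  rw [rep_char_of_eq_smul ρ z ω' hω', hd'] at h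
  rcases Nat.eq_zero_or_pos d with rfl | h0
  · simp
  · rw [mul_right_cancel₀ (Nat.cast_ne_zero.2 h0.ne') h]

/-- An invariant irreducible character `θ` of `N` extends to `G = E N` as soon as some character
of `E` meets `θ` on `E ⊓ N` with multiplicity prime to `|G : N|`. -/
theorem exists_extension_of_coprime_inner (N : Subgroup G) [hN : N.Normal] {θ : N → ℂ}
    (hθ : IsIrrCharacter N θ)
    (hinv : ∀ (g : G) (n : N), θ ⟨g * n * g⁻¹, hN.conj_mem n n.2 g⟩ = θ n)
    (E : Subgroup G) (hE : E ⊔ N = ⊤) [Fintype ↥(E ⊓ N)] {φ : E → ℂ} (hφ : IsCharacter E φ)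
    {m : ℕ} (hm : classInner (fun d : ↥(E ⊓ N) => θ ⟨d, d.2.2⟩) (fun d => φ ⟨d, d.2.1⟩) = m)
    (hcop : m.Coprime N.index) : ∃ χ : G → ℂ, IsIrrCharacter G χ ∧ ∀ n : N, χ n = θ n := by
  classical
  obtain ⟨Γ, _, _, π, s, θ', h⟩ := exists_isTripleLift N hθ hinv
  have hs := h.normal_range
  set E' := E.comap π with hE'
  set D' := s.range.subgroupOf E' with hD'
  have := Fintype.ofFinite D'
  let f : E' →* E := (π.comp E'.subtype).codRestrict E fun x => x.2
  have hψ : IsCharacter E' ((fun x : E' => θ' x) * fun x => conj (φ (f x))) :=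
    (h.irr.isCharacter.restrict E').mul (hφ.comp f).conj
  have hη := hψ.cosetAvg D'
  set η : E' → ℂ := fun x => (Nat.card D' : ℂ)⁻¹ *
    ∑ n : D', ((fun x : E' => θ' x) * fun x => conj (φ (f x))) (x * n) with hηdef
  let e : ↥(E ⊓ N) ≃ D' := Equiv.ofBijective
    (fun d => ⟨⟨s ⟨d, d.2.2⟩, by rw [hE', mem_comap, h.sec]; exact d.2.1⟩, ⟨_, rfl⟩⟩) (by
      constructor
      · intro a b hab
        have := h.s_injective (congrArg (fun x : D' => ((x : E') : Γ)) hab)
        exact Subtype.ext (congrArg (fun x : N => (x : G)) this)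
      · rintro ⟨⟨x, hx⟩, n, hn⟩
        have hn' : s n = x := hn
        have hx' : π x ∈ E := hx
        rw [← hn', h.sec] at hx'
        exact ⟨⟨n, hx', n.2⟩, Subtype.ext (Subtype.ext hn')⟩)
  have hη1 : η 1 = m := by
    rw [← hm, classInner_def, Nat.card_congr e, hηdef]
    simp only [one_mul, Pi.mul_apply]
    rw [← Equiv.sum_comp e]
    congr 1
    refine Finset.sum_congr rfl fun d _ => ?_
    congr 1
    · exact h.apply_sec _
    · exact congrArg (fun x => conj (φ x)) (Subtype.ext (h.sec _))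
  have hηD : ∀ d : D', η d = 1 * m := fun d => by
    rw [one_mul, ← hη1, hηdef]
    simp only [one_mul]
    congr 1
    exact Equiv.sum_comp (Equiv.mulLeft d)
      (fun n : D' => ((fun x : E' => θ' x) * fun x => conj (φ (f x))) n)
  have h0 := h.irr.one_ne_zero
  have hω : ∀ z ∈ π.ker, ‖θ' z / θ' 1‖ = 1 := fun z hz => by
    rw [norm_div, norm_eq_of_mem_center h.irr (h.ker_le hz), div_self (norm_ne_zero_iff.2 h0)]
  have hmul : ∀ z ∈ π.ker, ∀ γ, θ' (z * γ) = θ' z / θ' 1 * θ' γ := fun z hz γ => by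
    rw [div_mul_eq_mul_div, ← irr_one_mul_apply_central_mul h.irr (h.ker_le hz),
      mul_div_cancel_left₀ _ h0]
  have hkE : π.ker ≤ E' := fun z hz => by rw [hE', mem_comap, MonoidHom.mem_ker.1 hz]; simp
  have hηZ : ∀ z (hz : z ∈ π.ker), η ⟨z, hkE hz⟩ = θ' z / θ' 1 * m := fun z hz => by
    rw [← hη1, hηdef]
    simp only [one_mul, Pi.mul_apply, map_mul f, coe_mul, hmul z hz,
      show f ⟨z, hkE hz⟩ = 1 from Subtype.ext hz, mul_assoc, ← Finset.mul_sum]
    ring
  let q : E' →* Γ ⧸ s.range := (QuotientGroup.mk' s.range).comp E'.subtype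
  have hq : Function.Surjective q := by
    intro x
    obtain ⟨γ, rfl⟩ := QuotientGroup.mk_surjective x
    have h1 : π γ ∈ E ⊔ N := hE ▸ mem_top _
    obtain ⟨a, ha, n, hn, h2⟩ := mem_sup_of_normal_right.1 h1
    refine ⟨⟨γ * (s ⟨n, hn⟩)⁻¹, ?_⟩, ?_⟩
    · rw [hE', mem_comap, map_mul, map_inv, h.sec, ← h2]
      simpa using ha
    · change ((γ * (s ⟨n, hn⟩)⁻¹ : Γ) : Γ ⧸ s.range) = γ
      rw [QuotientGroup.eq]
      exact ⟨⟨n, hn⟩, by group⟩
  have hker : q.ker ≤ (detHom η).ker := fun x hx => by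
    rw [MonoidHom.mem_ker, Units.ext_iff, detHom_of_eq_mul hη hη1 norm_one
      (hηD ⟨x, (QuotientGroup.eq_one_iff (x : Γ)).1 hx⟩)]
    simp
  let ν : Γ →* ℂˣ := (q.liftOfSurjective hq ⟨_, hker⟩).comp (QuotientGroup.mk' s.range)
  have hν1 : ∀ n, ν (s n) = 1 := fun n => by
    change q.liftOfSurjective hq ⟨_, hker⟩ (s n : Γ ⧸ s.range) = 1
    rw [(QuotientGroup.eq_one_iff (N := s.range) _).2 ⟨n, rfl⟩, map_one]
  have hν2 : ∀ z ∈ π.ker, (ν z : ℂ) = (θ' z / θ' 1) ^ m := fun z hz => by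
    have h1 : q.liftOfSurjective hq ⟨_, hker⟩ (q ⟨z, hkE hz⟩) = detHom η ⟨z, hkE hz⟩ :=
      q.liftOfRightInverse_comp_apply _ _ _ _
    rw [← detHom_of_eq_mul hη hη1 (hω z hz) (hηZ z hz), ← h1]
    rfl
  have hpow : ∀ z ∈ π.ker, (θ' z / θ' 1) ^ N.index = 1 := fun z hz => by
    have h1 : ∀ j : ℕ, θ' (z ^ j) = (θ' z / θ' 1) ^ j * θ' 1 := fun j => by
      induction j with
      | zero => simp
      | succ j ih => rw [pow_succ', hmul z hz, ih]; ring
    have h2 : z ^ N.index = 1 :=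
      orderOf_dvd_iff_pow_eq_one.1 ((π.ker.orderOf_dvd_natCard hz).trans h.card_ker)
    have h3 := h1 N.index
    rw [h2] at h3
    exact mul_right_cancel₀ h0 (h3.symm.trans (one_mul _).symm)
  obtain ⟨a, b, hab⟩ := Nat.isCoprime_iff_coprime.2 hcop
  obtain ⟨χ, -, h1, h2⟩ := exists_deflation_of_surjective π h.surj
    (h.irr.mul_linear (ν ^ (-a))).isCharacter fun z hz => by
      have h3 : θ' z / θ' 1 ≠ 0 := norm_ne_zero_iff.1 (by rw [hω z hz]; exact one_ne_zero)
      have h4 : (θ' z / θ' 1) ^ (a * m) = θ' z / θ' 1 := by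
        conv_rhs => rw [← zpow_one (θ' z / θ' 1), ← hab, zpow_add₀ h3, mul_comm b, zpow_mul _ _ b,
          zpow_natCast, hpow z hz, one_zpow, mul_one]
      simp only [map_one, Units.val_one, mul_one, MonoidHom.zpow_apply, Units.val_zpow_eq_zpow_val,
        hν2 z hz]
      rw [← zpow_natCast, ← zpow_mul, mul_neg, zpow_neg, mul_comm (m : ℤ), h4]
      have h5 : θ' z ≠ 0 := fun h6 => h3 (by rw [h6, zero_div])
      field_simp
  refine ⟨χ, h2 (h.irr.mul_linear _), fun n => ?_⟩
  rw [← h.sec n, h1, h.apply_sec, MonoidHom.zpow_apply, hν1]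
  simp

omit [Finite G] in
/-- A linear character of `E ⊓ N` extends to `E` when `E' ⊓ N = 1`. -/
theorem exists_linear_extension_inf (E N : Subgroup G)
    (h : ∀ y : E, y ∈ commutator E → (y : G) ∈ N → y = 1) {φ : ↥(E ⊓ N) → ℂ}
    (hφ : IsIrrCharacter _ φ) :
    ∃ μ : E →* ℂˣ, ∀ d : ↥(E ⊓ N), (μ ⟨d, d.2.1⟩ : ℂ) = φ d := by
  let f : ↥(E ⊓ N) →* Abelianization E := Abelianization.of.comp (inclusion inf_le_left)
  have hf : Function.Injective f := by
    rw [injective_iff_map_eq_one]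
    intro d hd
    exact Subtype.ext (congrArg (fun x : E => (x : G))
      (h ⟨d, d.2.1⟩ ((QuotientGroup.eq_one_iff _).1 hd) d.2.2))
  have hc : ∀ a b : ↥(E ⊓ N), a * b = b * a := fun a b => hf (by rw [map_mul, map_mul, mul_comm])
  obtain ⟨lam, rfl⟩ := hφ.exists_linear_of_comm hc
  let _ : CommGroup ↥(E ⊓ N) := { (inferInstance : Group ↥(E ⊓ N)) with mul_comm := hc }
  obtain ⟨μ, hμ⟩ := exists_hom_extend_units f hf lam
  exact ⟨μ.comp Abelianization.of, fun d => congrArg Units.val (hμ d)⟩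

/-- If `|G : N|` is a power of `p` and `P' ⊓ N = 1` for a Sylow `p`-subgroup `P`, every invariant
irreducible character of `N` extends to `G`. -/
theorem exists_extension_of_commutator_inf {p : ℕ} [hp : Fact p.Prime] (N : Subgroup G)
    [hN : N.Normal] {k : ℕ} (hk : N.index = p ^ k) (P : Sylow p G)
    (hP : ∀ y : (P : Subgroup G), y ∈ commutator (P : Subgroup G) → (y : G) ∈ N → y = 1)
    {θ : N → ℂ} (hθ : IsIrrCharacter N θ)
    (hinv : ∀ (g : G) (n : N), θ ⟨g * n * g⁻¹, hN.conj_mem n n.2 g⟩ = θ n) :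
    ∃ χ : G → ℂ, IsIrrCharacter G χ ∧ ∀ n : N, χ n = θ n := by
  obtain ⟨E, φ, ⟨x, hx, -, j, hj⟩, hEN, -, m, hm1, hm2⟩ :=
    exists_elementary_invariant hp.out N hk hθ hinv
  have := Fintype.ofFinite ↥(E ⊓ N)
  obtain ⟨Q⟩ : Nonempty (Sylow p E) := inferInstance
  obtain ⟨R, hR⟩ := (Q.isPGroup'.map E.subtype).exists_le_sylow
  obtain ⟨g, hg⟩ := MulAction.exists_smul_eq G R P
  have hxn : (zpowers x).Normal := ⟨fun y hy a => by
    rwa [mem_center_iff.1 (zpowers_le.2 hx hy) a, mul_inv_cancel_right]⟩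
  let c : E →* G := (MulAut.conj g).toMonoidHom.comp E.subtype
  have h1 : (Q : Subgroup E).map c ≤ P := by
    rintro _ ⟨y, hy, rfl⟩
    rw [← hg]
    exact ⟨y, hR ⟨y, hy, rfl⟩, rfl⟩
  have h2 : commutator E ≤ ⁅(Q : Subgroup E), (Q : Subgroup E)⁆ := by
    have h3 := Transfer.sup_sylow_eq_top_of_index hj Q
    rw [_root_.commutator_def, commutator_le]
    intro a _ b _
    obtain ⟨u, hu, a, ha, rfl⟩ := mem_sup_of_normal_left.1 (h3 ▸ mem_top a)
    obtain ⟨v, hv, b, hb, rfl⟩ := mem_sup_of_normal_left.1 (h3 ▸ mem_top b)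
    have hu' := mem_center_iff.1 (zpowers_le.2 hx hu)
    have hv' := mem_center_iff.1 (zpowers_le.2 hx hv)
    convert commutator_mem_commutator ha hb using 1
    simp only [commutatorElement_def, mul_inv_rev]
    calc u * a * (v * b) * (a⁻¹ * u⁻¹) * (b⁻¹ * v⁻¹)
        = u * (a * (v * b) * a⁻¹) * u⁻¹ * b⁻¹ * v⁻¹ := by group
      _ = (a * v) * (b * a⁻¹ * b⁻¹) * v⁻¹ := by rw [← hu']; group
      _ = v * (a * b * a⁻¹ * b⁻¹) * v⁻¹ := by rw [hv' a]; group
      _ = _ := by rw [← hv']; group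
  obtain ⟨μ, hμ⟩ := exists_linear_extension_inf E N (fun y hy hyN => by
    have h3 : c y ∈ ⁅(P : Subgroup G), (P : Subgroup G)⁆ := by
      refine commutator_mono h1 h1 ?_
      rw [← map_commutator]
      exact ⟨y, h2 hy, rfl⟩
    rw [← map_subtype_commutator] at h3
    obtain ⟨w, hw, hw'⟩ := h3
    have h4 := hP w hw (hw' ▸ hN.conj_mem _ hyN g : (P : Subgroup G).subtype w ∈ N)
    rw [h4, map_one] at hw'
    exact Subtype.ext ((MulAut.conj g).injective (hw'.symm.trans (map_one _).symm))) φ.2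
  refine exists_extension_of_coprime_inner N hθ hinv E hEN (isCharacter_hom μ) (m := m) ?_ ?_
  · simp only [hμ, hm2]
  · rw [hk]
    exact Nat.Coprime.pow_right _ ((Nat.Prime.coprime_iff_not_dvd hp.out).2 hm1).symm

end Extend

end Cfsg.Agent.Char
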