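import Mathlib
import Cfsg.Agent.Char.PPrimeDeg
import Cfsg.Agent.Char.LocalExt
import Cfsg.Agent.Char.GoingDown
import Cfsg.Agent.Char.RealClifford
import Cfsg.Agent.Char.Triple
import Cfsg.Agent.PLocal.AmbSyl
import Cfsg.Agent.S0888

/-! Ambient tools: counting along relations, the Clifford correspondence between subgroups of
an ambient group, extensions of characters (`IsRes`, `HasExt`). -/

set_option autoImplicit false
open Cfsg Subgroup
open scoped ComplexConjugate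

namespace Cfsg.Agent.Char
open Cfsg.Agent.Char Cfsg.Agent.PLocal.Amb

section Count

theorem card_eq_of_rel {A B : Type*} (R : A → B → Prop) (h1 : ∀ a, ∃ b, R a b)
    (h2 : ∀ a b b', R a b → R a b' → b = b') (h3 : ∀ b, ∃ a, R a b)
    (h4 : ∀ a a' b, R a b → R a' b → a = a') : Nat.card A = Nat.card B := by
  choose f hf using h1
  refine Nat.card_congr (Equiv.ofBijective f ⟨fun a a' e => h4 a a' _ (hf a) (e ▸ hf a'),
    fun b => ?_⟩)
  obtain ⟨a, ha⟩ := h3 b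
  exact ⟨a, h2 a _ _ (hf a) ha⟩

theorem card_eq_of_orbits {A B X : Type*} (r : Setoid X) (RA : A → X → Prop) (RB : B → X → Prop)
    (hA : ∀ a, ∃ x, RA a x) (hA' : ∀ a x y, RA a x → (RA a y ↔ r x y))
    (hB : ∀ b, ∃ x, RB b x) (hB' : ∀ b x y, RB b x → (RB b y ↔ r x y))
    [Finite A] [Finite B]
    (h : ∀ x, Nat.card {a // RA a x} = Nat.card {b // RB b x}) : Nat.card A = Nat.card B := by
  classical
  choose f hf using hA
  choose g hg using hB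
  refine Nat.card_congr (Equiv.ofFiberEquiv (f := fun a => Quotient.mk r (f a))
    (g := fun b => Quotient.mk r (g b)) fun q => ?_)
  refine (Equiv.subtypeEquivRight (q := fun a => RA a q.out) fun a => ?_).trans
    ((Finite.card_eq.1 (h q.out)).some.trans
      (Equiv.subtypeEquivRight (p := fun b => RB b q.out) fun b => ?_))
  · rw [hA' a _ _ (hf a), ← Quotient.eq, Quotient.out_eq]
  · rw [hB' b _ _ (hg b), ← Quotient.eq, Quotient.out_eq]

end Count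

variable {Γ : Type*} [Group Γ]

section Grp
variable {K H : Subgroup Γ}

theorem relIndex_sup_amb (h : H ≤ 𝐍[K]) : K.relIndex (K ⊔ H) = K.relIndex H := by
  have hG : K ⊔ H ≤ 𝐍[K] := sup_le le_normalizer h
  haveI hn : (K.subgroupOf (K ⊔ H)).Normal := normal_subgroupOf' hG
  have h1 : (K.subgroupOf (K ⊔ H)) ⊔ (H.subgroupOf (K ⊔ H)) = ⊤ := by
    rw [← subgroupOf_sup le_sup_left le_sup_right, subgroupOf_self]
  rw [← relIndex_subgroupOf (le_sup_right : H ≤ K ⊔ H), relIndex, ← relIndex_top_right, ← h1,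
    relIndex_sup_left]

theorem pow_relIndex_mem_amb (h : H ≤ 𝐍[K]) {x : Γ} (hx : x ∈ H) : x ^ K.relIndex H ∈ K := by
  haveI hn : (K.subgroupOf H).Normal := normal_subgroupOf' h
  exact (K.subgroupOf H).pow_index_mem ⟨x, hx⟩

theorem mem_of_pow_coprime {x : Γ} {a b : ℕ} (hab : a.Coprime b) (ha : x ^ a ∈ K)
    (hb : x ^ b ∈ K) : x ∈ K := by
  have h := Nat.isCoprime_iff_coprime.2 hab
  obtain ⟨u, v, huv⟩ := h
  have : x = (x ^ a) ^ u * (x ^ b) ^ v := by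
    rw [← zpow_natCast, ← zpow_natCast, ← zpow_mul, ← zpow_mul, ← zpow_add, mul_comm (a : ℤ),
      mul_comm (b : ℤ), huv, zpow_one]
  rw [this]
  exact mul_mem (zpow_mem ha _) (zpow_mem hb _)

theorem exists_pow_mem_of_mem_sup {p : ℕ} {P : Subgroup Γ} (hP : IsPGroup p P) (hPK : P ≤ 𝐍[K])
    {x : Γ} (hx : x ∈ K ⊔ P) : ∃ k, x ^ p ^ k ∈ K := by
  obtain ⟨a, ha, b, hb, rfl⟩ := (mem_sup_of_le_normalizer_left hPK).1 hx
  obtain ⟨k, hk⟩ := isPGroup_iff.1 hP b hb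
  have key : ∀ n : ℕ, (a * b) ^ n * (b ^ n)⁻¹ ∈ K := by
    intro n
    induction n with
    | zero => simp
    | succ n ih =>
      have : (a * b) ^ (n + 1) * (b ^ (n + 1))⁻¹ =
          a * (b * ((a * b) ^ n * (b ^ n)⁻¹) * b⁻¹) := by
        rw [pow_succ', pow_succ']; group
      rw [this]
      exact mul_mem ha (conj_mem_of_mem_normalizer (hPK hb) ih)
  exact ⟨k, by simpa [hk] using key (p ^ k)⟩

/-- `(L ⊔ P) ⊓ X ≤ L` if `X/L` is a `p'`-group -/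
theorem mem_of_mem_sup_of_not_dvd {p : ℕ} [hp : Fact p.Prime] {L P X : Subgroup Γ}
    (hP : IsPGroup p P) (hPL : P ≤ 𝐍[L]) (hX : X ≤ 𝐍[L]) (hpX : ¬ p ∣ L.relIndex X) {x : Γ}
    (h1 : x ∈ L ⊔ P) (h2 : x ∈ X) : x ∈ L := by
  obtain ⟨k, hk⟩ := exists_pow_mem_of_mem_sup hP hPL h1
  exact mem_of_pow_coprime ((hp.out.coprime_iff_not_dvd.2 hpX).pow_left k) hk
    (pow_relIndex_mem_amb hX h2)

theorem normalizer_relCent' {N G S Y : Subgroup Γ} (hG : G ≤ 𝐍[N]) (hYG : Y ≤ 𝐍[G])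
    (hYN : Y ≤ 𝐍[N]) (hYS : Y ≤ 𝐍[S]) : Y ≤ 𝐍[relCent N G hG S] := by
  refine le_normalizer_iff_cj.2 fun y hy => cj_le_iff_forall.2 fun g hg => ?_
  refine ⟨conj_mem_of_mem_normalizer (hYG hy) hg.1, fun x hx => ?_⟩
  have := conj_mem_of_mem_normalizer (hYN hy)
    (hg.2 _ (inv_conj_mem_of_mem_normalizer (hYS hy) hx))
  convert this using 1
  group

/-- a linear character of `V₁` trivial on `M ⊓ V₁` extends to `V = M V₁`, trivially on `M` -/
theorem exists_hom_ext_sup {M V₁ V : Subgroup Γ} (hMV : M ≤ V) (h1 : V₁ ≤ V) (hV : V ≤ 𝐍[M])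
    (hsup : V ≤ M ⊔ V₁) (μ : V₁ →* ℂˣ) (hμ : ∀ v : V₁, (v : Γ) ∈ M → μ v = 1) :
    ∃ lam : V →* ℂˣ, (∀ v : V, (v : Γ) ∈ M → lam v = 1) ∧
      ∀ v : V₁, lam (inclusion h1 v) = μ v := by
  haveI hn : (M.subgroupOf V).Normal := normal_subgroupOf' hV
  let f : V₁ →* V ⧸ M.subgroupOf V := (QuotientGroup.mk' _).comp (inclusion h1)
  have hf : Function.Surjective f := by
    intro q
    obtain ⟨v, rfl⟩ := QuotientGroup.mk'_surjective _ q
    obtain ⟨a, ha, b, hb, e⟩ := (mem_sup_of_le_normalizer_left (h1.trans hV)).1 (hsup v.2)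
    refine ⟨⟨b, hb⟩, ?_⟩
    have : v = ⟨a, hMV ha⟩ * inclusion h1 ⟨b, hb⟩ := Subtype.ext e
    rw [this, map_mul, (QuotientGroup.eq_one_iff (N := M.subgroupOf V) ⟨a, hMV ha⟩).2 ha |>
      (show QuotientGroup.mk' (M.subgroupOf V) ⟨a, hMV ha⟩ = 1 from ·), one_mul]
    rfl
  have hk : f.ker ≤ μ.ker := fun v hv =>
    hμ v ((QuotientGroup.eq_one_iff (N := M.subgroupOf V) (inclusion h1 v)).1 hv)
  let g := f.liftOfRightInverse (Function.surjInv hf) (Function.rightInverse_surjInv hf) ⟨μ, hk⟩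
  refine ⟨g.comp (QuotientGroup.mk' _), fun v hv => ?_, fun v => ?_⟩
  · rw [MonoidHom.comp_apply, (QuotientGroup.eq_one_iff (N := M.subgroupOf V) v).2 hv |>
      (show QuotientGroup.mk' (M.subgroupOf V) v = 1 from ·), map_one]
  · exact f.liftOfRightInverse_comp_apply _ (Function.rightInverse_surjInv hf) ⟨μ, hk⟩ v

end Grp

section Ext
variable {K H V : Subgroup Γ}

/-- `χ` restricts to `θ` -/
def IsRes (χ : H → ℂ) (θ : K → ℂ) : Prop := ∀ (k : K) (hk : (k : Γ) ∈ H), χ ⟨k, hk⟩ = θ k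

/-- `θ` extends to `H` -/
def HasExt (θ : K → ℂ) (H : Subgroup Γ) : Prop := ∃ χ : IrrCharacter H, IsRes χ.1 θ

theorem isRes_iff (h : K ≤ H) {χ : H → ℂ} {θ : K → ℂ} :
    IsRes χ θ ↔ ∀ k : K, χ ⟨k, h k.2⟩ = θ k := ⟨fun e k => e k _, fun e k _ => e k⟩

theorem IsRes.eq (h : K ≤ H) {χ : H → ℂ} {θ : K → ℂ} (e : IsRes χ θ) :
    (fun k : K => χ ⟨k, h k.2⟩) = θ := funext fun k => e k _

theorem isRes_restrict (h : K ≤ H) (χ : H → ℂ) : IsRes χ (fun k : K => χ ⟨k, h k.2⟩) :=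
  fun _ _ => rfl

theorem IsRes.trans (h : K ≤ V) {χ : H → ℂ} {η : V → ℂ} {θ : K → ℂ} (e : IsRes χ η)
    (e' : IsRes η θ) : IsRes χ θ := fun k hk => (e ⟨k, h k.2⟩ hk).trans (e' k _)

theorem IsRes.of_restrict (h : V ≤ H) {χ : H → ℂ} {θ : K → ℂ} (e : IsRes χ θ) :
    IsRes (fun v : V => χ ⟨v, h v.2⟩) θ := fun k _ => e k _

theorem IsRes.charDegree_eq {χ : H → ℂ} {θ : K → ℂ} (e : IsRes χ θ) :
    charDegree χ = charDegree θ := charDegree_congr_one (e 1 (one_mem H))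

theorem IsRes.invBy (h : K ≤ H) {χ : H → ℂ} {θ : K → ℂ} (e : IsRes χ θ) {S : Subgroup Γ}
    (hχ : InvBy S χ) : InvBy S θ := e.eq h ▸ hχ.restrict h

variable [Finite Γ]

theorem IsRes.nmult_eq_one (h : K ≤ H) {χ : IrrCharacter H} {θ : IrrCharacter K}
    (e : IsRes χ.1 θ.1) : nmult h χ.1 θ.1 = 1 := nmult_eq_one_of_extends h χ θ fun k => e k _

theorem IsRes.nmult_eq {L : Subgroup Γ} (h : K ≤ H) (h' : L ≤ K) {χ : H → ℂ} {θ : K → ℂ}
    (e : IsRes χ θ) (ξ : L → ℂ) : nmult (h'.trans h) χ ξ = nmult h' θ ξ := by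
  rw [← e.eq h]
  rfl

theorem IsRes.isIrr_restrict (hK : K ≤ V) (h : V ≤ H) {χ : H → ℂ} (hχ : IsCharacter H χ)
    {θ : K → ℂ} (hθ : IsIrrCharacter K θ) (e : IsRes χ θ) :
    IsIrrCharacter V (fun v : V => χ ⟨v, h v.2⟩) :=
  isIrr_of_comp_isIrr (hχ.comp (inclusion h)) (inclusion hK) (by
    rw [← e.eq (hK.trans h)] at hθ; exact hθ)

theorem HasExt.mono (hK : K ≤ V) (h : V ≤ H) {θ : IrrCharacter K} (e : HasExt θ.1 H) :
    HasExt θ.1 V := by
  obtain ⟨χ, hχ⟩ := e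
  exact ⟨⟨_, hχ.isIrr_restrict hK h χ.2.isCharacter θ.2⟩, hχ.of_restrict h⟩

theorem HasExt.trans (hK : K ≤ V) {η : V → ℂ} {θ : K → ℂ} (e : HasExt η H) (e' : IsRes η θ) :
    HasExt θ H := by
  obtain ⟨χ, hχ⟩ := e
  exact ⟨χ, hχ.trans hK e'⟩

theorem hasExt_self (θ : IrrCharacter K) : HasExt θ.1 K := ⟨θ, fun _ _ => rfl⟩

theorem isRes_of_nmult_of_le (h : K ≤ H) {χ : IrrCharacter H} {θ : IrrCharacter K}
    (h1 : nmult h χ.1 θ.1 ≠ 0) (h2 : charDegree χ.1 ≤ charDegree θ.1) : IsRes χ.1 θ.1 := by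
  letI : Fintype K := Fintype.ofFinite K
  have h3 := (nmult_ne_zero_iff h χ θ).1 h1
  have h4 := charDegree_eq_sum_nmult h χ.2.isCharacter
  have h5 : nmult h χ.1 θ.1 * charDegree θ.1 ≤ charDegree χ.1 :=
    h4 ▸ Finset.single_le_sum (f := fun ξ : IrrCharacter K => nmult h χ.1 ξ.1 * charDegree ξ.1)
      (fun _ _ => Nat.zero_le _) (Finset.mem_univ θ)
  have h6 : charDegree χ.1 = charDegree θ.1 :=
    le_antisymm h2 ((Nat.le_mul_of_pos_left _ (Nat.pos_of_ne_zero h1)).trans h5)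
  have := (χ.2.isCharacter.comp (inclusion h)).eq_of_inner_ne_zero_of_one_eq θ.2 h3 (by
    change χ.1 1 = _
    rw [← coe_charDegree_irr, ← coe_charDegree_irr, h6])
  exact fun k _ => congrFun this k

/-- an invariant character extends over a cyclic quotient -/
theorem hasExt_sup_zpowers {a : Γ} (ha : a ∈ 𝐍[V]) (χ : IrrCharacter V)
    (hχ : InvBy (zpowers a) χ.1) : HasExt χ.1 (V ⊔ zpowers a) := by
  obtain ⟨η, h1, h2⟩ := (isCyc_inclusion ha).exists_ext χ.2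
    (fun g g' e => hχ a (mem_zpowers a) g g' (congrArg Subtype.val e))
  exact ⟨⟨η, h1⟩, fun k _ => h2 k⟩

/-- degrees over an invariant character -/
theorem exists_deg_of_invBy (h : K ≤ H) (hH : H ≤ 𝐍[K]) (χ : IrrCharacter H) (θ : IrrCharacter K)
    (hθ : InvBy H θ.1) (h1 : nmult h χ.1 θ.1 ≠ 0) :
    charDegree χ.1 = nmult h χ.1 θ.1 * charDegree θ.1 ∧ nmult h χ.1 θ.1 ∣ K.relIndex H := by
  letI : Fintype (K.subgroupOf H) := Fintype.ofFinite _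
  haveI hn : (K.subgroupOf H).Normal := normal_subgroupOf' hH
  have e1 : charDegree χ.1 = nmult h χ.1 θ.1 * charDegree θ.1 := by
    rw [charDegree_eq_sum_nmult h χ.2.isCharacter]
    refine Finset.sum_eq_single θ (fun ξ _ hξ => ?_) (fun h => absurd (Finset.mem_univ _) h)
    rw [mul_eq_zero]; left
    by_contra h2
    obtain ⟨x, hx⟩ := exists_smul_eq_of_nmult h hH χ θ ξ h1 h2
    exact hξ (hx ▸ hθ.smul_eq x.2)
  obtain ⟨e, h2, h3⟩ := exists_deg_eq_mul_dvd_index_of_invariant (K.subgroupOf H)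
    (isIrr_subgroupOf h θ.2) (fun g n => hθ g g.2 _ _ rfl) χ.2
    (by rw [← coe_nmult_subgroupOf h χ.2.isCharacter θ.2.isCharacter]; exact_mod_cast h1)
  refine ⟨e1, ?_⟩
  have h4 : (charDegree χ.1 : ℂ) = e * charDegree θ.1 := by
    rw [coe_charDegree_irr, coe_charDegree_irr]; exact h2
  have h5 : charDegree χ.1 = e * charDegree θ.1 := by exact_mod_cast h4
  have h6 : 0 < charDegree θ.1 := charDegree_irr_pos θ
  rwa [Nat.eq_of_mul_eq_mul_right h6 (e1.symm.trans h5)]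

/-- degrees over any character of a normal subgroup -/
theorem exists_deg_of_normal (h : K ≤ H) (hH : H ≤ 𝐍[K]) (χ : IrrCharacter H) (θ : IrrCharacter K)
    (h1 : nmult h χ.1 θ.1 ≠ 0) :
    ∃ e, charDegree χ.1 = e * charDegree θ.1 ∧ e ∣ K.relIndex H := by
  letI : Fintype (K.subgroupOf H) := Fintype.ofFinite _
  haveI hn : (K.subgroupOf H).Normal := normal_subgroupOf' hH
  obtain ⟨e, h2, h3⟩ := exists_deg_eq_mul_dvd_index (K.subgroupOf H)
    (isIrr_subgroupOf h θ.2) χ.2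
    (by rw [← coe_nmult_subgroupOf h χ.2.isCharacter θ.2.isCharacter]; exact_mod_cast h1)
  have h4 : (charDegree χ.1 : ℂ) = e * charDegree θ.1 := by
    rw [coe_charDegree_irr, coe_charDegree_irr]; exact h2
  exact ⟨e, by exact_mod_cast h4, h3⟩

/-- a constituent below an invariant character -/
theorem eq_of_nmult_of_invBy (h : K ≤ H) (hH : H ≤ 𝐍[K]) (χ : IrrCharacter H)
    {θ ξ : IrrCharacter K} (hθ : InvBy H θ.1) (h1 : nmult h χ.1 θ.1 ≠ 0)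
    (h2 : nmult h χ.1 ξ.1 ≠ 0) : ξ = θ := by
  obtain ⟨x, hx⟩ := exists_smul_eq_of_nmult h hH χ θ ξ h1 h2
  exact hx ▸ hθ.smul_eq x.2

theorem nmult_below_of_invBy (hK : K ≤ V) (h : V ≤ H) (hH : H ≤ 𝐍[K]) (χ : IrrCharacter H)
    (η : IrrCharacter V) {θ : IrrCharacter K} (hθ : InvBy H θ.1)
    (h1 : nmult (hK.trans h) χ.1 θ.1 ≠ 0) (h2 : nmult h χ.1 η.1 ≠ 0) : nmult hK η.1 θ.1 ≠ 0 := by
  obtain ⟨ξ, hξ⟩ := exists_nmult_ne_zero_below hK η
  rwa [← eq_of_nmult_of_invBy (hK.trans h) hH χ hθ h1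
    (nmult_trans_ne_zero h hK χ.2.isCharacter η ξ.2.isCharacter h2 hξ)]

/-- extension from a supplement with coprime multiplicity -/
theorem hasExt_of_coprime_nmult {E D : Subgroup Γ} (h : K ≤ H) (hH : H ≤ 𝐍[K]) (hE : E ≤ H)
    (hsup : H ≤ K ⊔ E) (hD : D = K ⊓ E) (hDK : D ≤ K) (θ : IrrCharacter K) (hθ : InvBy H θ.1)
    (φ : IrrCharacter D) (hφ : HasExt φ.1 E) (hc : (nmult hDK θ.1 φ.1).Coprime (K.relIndex H)) :
    HasExt θ.1 H := by
  subst hD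
  obtain ⟨ψ, hψ⟩ := hφ
  haveI hn : (K.subgroupOf H).Normal := normal_subgroupOf' hH
  letI : Fintype ↥(E.subgroupOf H ⊓ K.subgroupOf H) := Fintype.ofFinite _
  letI : Fintype ↥(K ⊓ E) := Fintype.ofFinite _
  let e : ↥(E.subgroupOf H ⊓ K.subgroupOf H) ≃* ↥(K ⊓ E) :=
    { toFun := fun x => ⟨x.1.1, x.2.2, x.2.1⟩
      invFun := fun x => ⟨⟨x.1, h x.2.1⟩, x.2.2, x.2.1⟩
      left_inv := fun _ => rfl
      right_inv := fun _ => rfl
      map_mul' := fun _ _ => rfl }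
  obtain ⟨χ, h1, h2⟩ := exists_extension_of_coprime_inner (K.subgroupOf H)
    (isIrr_subgroupOf h θ.2) (fun g n => hθ g g.2 _ _ rfl) (E.subgroupOf H)
    (by rw [← subgroupOf_sup hE h, subgroupOf_eq_top, sup_comm]; exact hsup)
    (φ := fun x => ψ.1 ⟨x.1.1, x.2⟩) (isIrr_subgroupOf hE ψ.2).isCharacter
    (m := nmult hDK θ.1 φ.1) (by
      rw [coe_nmult_irr hDK θ φ, ← classInner_comp_mulEquiv e]
      congr 1
      funext x
      exact hψ (e x) _) hc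
  exact ⟨⟨χ, h1⟩, fun k hk => h2 ⟨⟨k, hk⟩, k.2⟩⟩

/-- extension from the Sylow subgroups -/
theorem hasExt_of_sylow (h : K ≤ H) (hH : H ≤ 𝐍[K]) (θ : IrrCharacter K) (hθ : InvBy H θ.1)
    (hs : ∀ q : ℕ, q.Prime → ∃ Q : Subgroup Γ, IsPGroup q Q ∧ Q ≤ H ∧ ¬ q ∣ (K ⊔ Q).relIndex H ∧
      HasExt θ.1 (K ⊔ Q)) : HasExt θ.1 H := by
  haveI hn : (K.subgroupOf H).Normal := normal_subgroupOf' hH
  obtain ⟨χ, h1, h2⟩ := S0888.result (K.subgroupOf H) _ (isIrr_subgroupOf h θ.2)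
    (fun g n => hθ g g.2 _ _ rfl) fun q hq => by
      haveI := Fact.mk hq
      obtain ⟨Q, hQ, hQH, hi, η, hη⟩ := hs q hq
      have hle : K ⊔ Q ≤ H := sup_le h hQH
      obtain ⟨k, hk⟩ := relIndex_sup_eq_pow hQ (hQH.trans hH)
      exact ⟨(K ⊔ Q).subgroupOf H, fun x hx => mem_sup_left hx, _,
        (hq.coprime_iff_not_dvd.2 hi).symm, ⟨k, by rw [relIndex_subgroupOf hle, hk]⟩,
        isIrr_subgroupOf hle η.2, fun n => hη ⟨n.1.1, n.2⟩ _⟩
  exact ⟨⟨χ, h1⟩, fun k hk => h2 ⟨⟨k, hk⟩, k.2⟩⟩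

theorem nmult_linPerm (h : K ≤ H) (χ : IrrCharacter H) (θ : IrrCharacter K) (lam : H →* ℂˣ) :
    nmult h (linPerm H lam χ).1 (linPerm K (lam.comp (inclusion h)) θ).1 = nmult h χ.1 θ.1 := by
  letI : Fintype K := Fintype.ofFinite K
  refine nmult_eq_of h ?_
  rw [coe_nmult_irr, classInner_def, classInner_def]
  congr 1
  refine Finset.sum_congr rfl fun k _ => ?_
  have h1 : ((lam ⟨k, h k.2⟩ : ℂˣ) : ℂ) * conj ((lam ⟨k, h k.2⟩ : ℂˣ) : ℂ) = 1 := by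
    rw [← (isCharacter_hom lam).map_inv, ← Units.val_mul, ← map_mul, mul_inv_cancel, map_one,
      Units.val_one]
  simp only [linPerm_apply, map_mul]
  change _ * (_ * conj ((lam ⟨k, h k.2⟩ : ℂˣ) : ℂ)) = _
  linear_combination (χ.1 ⟨k, h k.2⟩ * conj (θ.1 k)) * h1

theorem InvBy.linPerm {S : Subgroup Γ} {χ : IrrCharacter H} (hχ : InvBy S χ.1) (lam : H →* ℂˣ)
    (hl : ∀ v : H, (v : Γ) ∈ K → lam v = 1) (hS : ∀ x ∈ S, ∀ v ∈ H, x * v * x⁻¹ * v⁻¹ ∈ K) :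
    InvBy S (linPerm H lam χ).1 := by
  intro s hs g g' e
  rw [linPerm_apply, linPerm_apply, hχ s hs g g' e]
  have := hl (g' * g⁻¹) (by rw [coe_mul, e]; exact hS s hs g g.2)
  rw [map_mul, map_inv, mul_inv_eq_one] at this
  rw [this]

theorem IsRes.eq_one_of_linPerm (h : K ≤ H) (hH : H ≤ 𝐍[K]) {χ : IrrCharacter H}
    {θ : IrrCharacter K} (e : IsRes χ.1 θ.1) (lam : H →* ℂˣ)
    (hl : ∀ v : H, (v : Γ) ∈ K → lam v = 1) (h1 : linPerm H lam χ = χ) : lam = 1 := by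
  letI : Fintype H := Fintype.ofFinite H
  haveI hn : (K.subgroupOf H).Normal := normal_subgroupOf' hH
  have h2 : IsIrrCharacter (K.subgroupOf H) (fun n => χ.1 n) := by
    have := isIrr_subgroupOf h θ.2
    convert this using 2 with n
    exact e ⟨n.1.1, n.2⟩ _
  have := gallagher_inj χ.2.isCharacter h2 (isIrrCharacter_hom lam)
    (fun n => by rw [hl n.1 n.2, map_one]) (isIrrCharacter_hom 1) (fun n => rfl) (by
      funext g
      have := congrFun (congrArg Subtype.val h1) g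
      rw [linPerm_apply] at this
      simp [mul_comm, this])
  exact hom_coe_inj this

theorem exists_isRes_of_linPerm (h : K ≤ H) (hH : H ≤ 𝐍[K]) (hab : ⁅H, H⁆ ≤ K)
    (χ : IrrCharacter H) (h1 : ∀ lam : H →* ℂˣ, (∀ v : H, (v : Γ) ∈ K → lam v = 1) →
      linPerm H lam χ = χ → lam = 1) : ∃ θ : IrrCharacter K, IsRes χ.1 θ.1 := by
  haveI hn : (K.subgroupOf H).Normal := normal_subgroupOf' hH
  have h2 := isIrr_restrict_of_forall_hom_mul_ne (K.subgroupOf H) (by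
      rw [_root_.commutator_def, commutator_le]
      exact fun a _ b _ => hab (commutator_mem_commutator a.2 b.2)) χ.2
    fun μ h3 h4 => h1 μ h3 (Subtype.ext (funext h4))
  exact ⟨⟨_, h2.comp_mulEquiv (subgroupOfEquivOfLe h).symm⟩, fun _ _ => rfl⟩

theorem exists_linPerm_of_isRes (h : K ≤ H) (hH : H ≤ 𝐍[K]) {χ ψ : IrrCharacter H}
    {θ : IrrCharacter K} (e : IsRes χ.1 θ.1) (e' : IsRes ψ.1 θ.1) :
    ∃ lam : H →* ℂˣ, (∀ v : H, (v : Γ) ∈ K → lam v = 1) ∧ ψ = linPerm H lam χ := by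
  letI : Fintype H := Fintype.ofFinite H
  haveI hn : (K.subgroupOf H).Normal := normal_subgroupOf' hH
  have h2 : IsIrrCharacter (K.subgroupOf H) (fun n => χ.1 n) := by
    have := isIrr_subgroupOf h θ.2
    convert this using 2 with n
    exact e ⟨n.1.1, n.2⟩ _
  obtain ⟨μ, h3, h4⟩ := exists_hom_mul_of_extends χ.2.isCharacter h2 ψ.2.isCharacter
    (fun n => (e' ⟨n.1.1, n.2⟩ _).trans (e ⟨n.1.1, n.2⟩ _).symm)
  exact ⟨μ, h3, Subtype.ext (h4.trans (funext fun g => mul_comm _ _))⟩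

theorem nmult_irrConj (h : K ≤ H) (χ : IrrCharacter H) (θ : IrrCharacter K) :
    nmult h (irrConj χ).1 (irrConj θ).1 = nmult h χ.1 θ.1 := nmult_conj h χ θ

end Ext

section Clifford
variable [Finite Γ] {L T H : Subgroup Γ} (hLT : L ≤ T) (hTH : T ≤ H) (hH : H ≤ 𝐍[L])
  {ν : IrrCharacter L} (hT : H ⊓ invSubgroup ν.1 ≤ T)
include hH hT

theorem clifford_amb [Fintype H] (χ : IrrCharacter H) (ψ : IrrCharacter T)
    (h1 : nmult hLT ψ.1 ν.1 ≠ 0) (h2 : nmult hTH χ.1 ψ.1 ≠ 0) :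
    indFun (T.subgroupOf H) (fun x => ψ.1 ⟨x.1.1, x.2⟩) = χ.1 ∧
      ∀ ψ' : IrrCharacter T, nmult hLT ψ'.1 ν.1 ≠ 0 → nmult hTH χ.1 ψ'.1 ≠ 0 → ψ' = ψ := by
  haveI hn : (L.subgroupOf H).Normal := normal_subgroupOf' hH
  letI : Fintype (L.subgroupOf H) := Fintype.ofFinite _
  letI : Fintype (T.subgroupOf H) := Fintype.ofFinite _
  letI : Fintype L := Fintype.ofFinite _
  have hle : L.subgroupOf H ≤ T.subgroupOf H := fun x hx => hLT hx
  have hI : inertia (L.subgroupOf H) (fun x => ν.1 ⟨x.1.1, x.2⟩) ≤ T.subgroupOf H := by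
    intro g hg
    refine hT ⟨g.2, hH g.2, fun a b e => ?_⟩
    have := (mem_inertia' _).1 hg ⟨⟨a, hLT.trans hTH a.2⟩, a.2⟩
    refine Eq.trans ?_ this
    exact congrArg ν.1 (Subtype.ext e)
  have key : ∀ ψ : IrrCharacter T, nmult hLT ψ.1 ν.1 ≠ 0 →
      classInner (fun n : L.subgroupOf H => (fun x : T.subgroupOf H => ψ.1 ⟨x.1.1, x.2⟩)
        ⟨n, hle n.2⟩) (fun x => ν.1 ⟨x.1.1, x.2⟩) ≠ 0 := fun ψ h => by
    have := classInner_subgroupOf (hLT.trans hTH) (fun n : L => ψ.1 ⟨n, hLT n.2⟩) ν.1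
    exact this ▸ (nmult_ne_zero_iff hLT ψ ν).1 h
  have key2 : ∀ ψ : IrrCharacter T, nmult hTH χ.1 ψ.1 ≠ 0 →
      classInner (fun t : T.subgroupOf H => χ.1 t) (fun x => ψ.1 ⟨x.1.1, x.2⟩) ≠ 0 := fun ψ h => by
    rw [← coe_nmult_subgroupOf hTH χ.2.isCharacter ψ.2.isCharacter]; exact_mod_cast h
  have e := (clifford_corr_eq hle (isIrr_subgroupOf hTH ψ.2)
    (isIrr_subgroupOf (hLT.trans hTH) ν.2) hI (key ψ h1) χ.2 (key2 ψ h2)).1
  refine ⟨e, fun ψ' h3 h4 => ?_⟩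
  have := clifford_corr_unique hle (isIrr_subgroupOf hTH ψ.2) (isIrr_subgroupOf hTH ψ'.2)
    (isIrr_subgroupOf (hLT.trans hTH) ν.2) hI (key ψ h1) (key ψ' h3) (by rw [e]; exact key2 ψ' h4)
  exact Subtype.ext (funext fun t => (congrFun this ⟨⟨t, hTH t.2⟩, t.2⟩).symm)

theorem clifford_amb_uniq (χ : IrrCharacter H) {ψ ψ' : IrrCharacter T}
    (h1 : nmult hLT ψ.1 ν.1 ≠ 0) (h2 : nmult hTH χ.1 ψ.1 ≠ 0)
    (h3 : nmult hLT ψ'.1 ν.1 ≠ 0) (h4 : nmult hTH χ.1 ψ'.1 ≠ 0) : ψ = ψ' :=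
  letI := Fintype.ofFinite H
  ((clifford_amb hLT hTH hH hT χ ψ h1 h2).2 ψ' h3 h4).symm

theorem clifford_amb_inj {χ χ' : IrrCharacter H} (ψ : IrrCharacter T)
    (h1 : nmult hLT ψ.1 ν.1 ≠ 0) (h2 : nmult hTH χ.1 ψ.1 ≠ 0) (h3 : nmult hTH χ'.1 ψ.1 ≠ 0) :
    χ = χ' :=
  letI := Fintype.ofFinite H
  Subtype.ext ((clifford_amb hLT hTH hH hT χ ψ h1 h2).1.symm.trans
    (clifford_amb hLT hTH hH hT χ' ψ h1 h3).1)

theorem clifford_amb_degree (χ : IrrCharacter H) (ψ : IrrCharacter T)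
    (h1 : nmult hLT ψ.1 ν.1 ≠ 0) (h2 : nmult hTH χ.1 ψ.1 ≠ 0) :
    charDegree χ.1 = T.relIndex H * charDegree ψ.1 := by
  letI := Fintype.ofFinite H
  have := congrFun (clifford_amb hLT hTH hH hT χ ψ h1 h2).1 1
  rw [indFun_one] at this
  have h3 : (charDegree χ.1 : ℂ) = T.relIndex H * charDegree ψ.1 := by
    rw [coe_charDegree_irr, coe_charDegree_irr, ← this]; rfl
  exact_mod_cast h3

end Clifford

end Cfsg.Agent.Char
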