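import Mathlib
import Cfsg.Agent.Char.AmbExt

/-! Gallagher's count of the irreducible characters over an invariant character by good
classes, its transfer to a supplement, and the restriction bijection. -/

set_option autoImplicit false
open Cfsg Subgroup
open scoped ComplexConjugate

namespace Cfsg.Agent.Char
open Cfsg.Agent.Char Cfsg.Agent.PLocal.Amb

theorem sum_cin {K G : Type*} [Group K] [Group G] [Fintype K] [Fintype G] (i : K →* G)
    (f h : G → ℂ) : ∑ g, cin i f h g = Nat.card G * classInner f h := by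
  simp only [cin, classInner_def]
  rw [← Finset.mul_sum, Finset.sum_comm]
  have : ∀ k : K, ∑ g, f (i k * g) * conj (h (i k * g)) = ∑ g, f g * conj (h g) := fun k =>
    Fintype.sum_equiv (Equiv.mulLeft (i k)) _ _ fun _ => rfl
  simp only [this, Finset.sum_const, Finset.card_univ, nsmul_eq_mul]
  rw [← Nat.card_eq_fintype_card]
  have h1 := card_ne_zero K
  have h2 := card_ne_zero G
  field_simp

variable {Γ : Type*} [Group Γ]

section Grp
variable {K G N : Subgroup Γ}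

theorem card_mul_relIndex_amb (h : K ≤ G) : Nat.card K * K.relIndex G = Nat.card G := by
  rw [← (K.subgroupOf G).card_mul_index, Nat.card_congr (subgroupOfEquivOfLe h).toEquiv]
  rfl

theorem commutator_sup_two_le {D : Subgroup Γ} {a b : Γ} (ha : a ∈ 𝐍[D]) (hb : b ∈ 𝐍[D])
    (h : b * a * b⁻¹ * a⁻¹ ∈ D) :
    ⁅D ⊔ zpowers a ⊔ zpowers b, D ⊔ zpowers a ⊔ zpowers b⁆ ≤ D := by
  have hA : D ⊔ zpowers a ⊔ zpowers b ≤ 𝐍[D] :=
    sup_le (sup_le le_normalizer (zpowers_le.2 ha)) (zpowers_le.2 hb)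
  have key : ∀ y ∈ 𝐍[D], y * a * y⁻¹ * a⁻¹ ∈ D → y * b * y⁻¹ * b⁻¹ ∈ D →
      D ⊔ zpowers a ⊔ zpowers b ≤ relCent D 𝐍[D] le_rfl {y} := fun y hy h1 h2 =>
    sup_le (sup_le (le_relCent _ le_normalizer (by simpa using hy))
      (zpowers_le.2 ⟨ha, by simpa using h1⟩)) (zpowers_le.2 ⟨hb, by simpa using h2⟩)
  rw [commutator_le]
  intro x hx y hy
  exact (key x (hA hx) (comm_mem_symm ((key a ha (by simp) (comm_mem_symm h) hx).2 a rfl))
    (comm_mem_symm ((key b hb h (by simp) hx).2 b rfl)) hy).2 x rfl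

theorem commutator_sup_zpowers_le {a : Γ} (ha : a ∈ 𝐍[K]) :
    ⁅K ⊔ zpowers a, K ⊔ zpowers a⁆ ≤ K := by
  have := commutator_sup_two_le ha ha (by simp)
  rwa [sup_assoc, sup_idem] at this

theorem sup_zpowers_mul {k g : Γ} (hk : k ∈ K) : K ⊔ zpowers (k * g) = K ⊔ zpowers g := by
  refine le_antisymm (sup_le le_sup_left (zpowers_le.2 ?_)) (sup_le le_sup_left (zpowers_le.2 ?_))
  · exact mul_mem (mem_sup_left hk) (mem_sup_right (mem_zpowers g))
  · have : g = k⁻¹ * (k * g) := by group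
    rw [this]
    exact mul_mem (mem_sup_left (inv_mem hk)) (mem_sup_right (by rw [← this]; exact mem_zpowers _))

theorem mem_normalizer_of_commutator_le {A V : Subgroup Γ} (h : ⁅A, A⁆ ≤ V) (hV : V ≤ A) :
    A ≤ 𝐍[V] := by
  refine le_normalizer_iff_cj.2 fun a ha => cj_le_iff_forall.2 fun v hv => ?_
  have := mul_mem (h (commutator_mem_commutator ha (hV hv))) hv
  rwa [commutatorElement_def, inv_mul_cancel_right] at this

/-- averaging a function constant on the cosets of `K` over a supplement -/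
theorem avg_supplement [Fintype G] [Fintype N] (hKG : K ≤ G) (hG : G ≤ 𝐍[K]) (hN : N ≤ G)
    (hsup : G ≤ K ⊔ N) (F : G → ℂ) (hF : ∀ (k : K) (g : G), F (inclusion hKG k * g) = F g) :
    (Nat.card G : ℂ) * ∑ n : N, F (inclusion hN n) = Nat.card N * ∑ g, F g := by
  classical
  haveI hn : (K.subgroupOf G).Normal := normal_subgroupOf' hG
  letI : Fintype (G ⧸ K.subgroupOf G) := Fintype.ofFinite _
  let π := QuotientGroup.mk' (K.subgroupOf G)
  have hF' : ∀ g : G, F (π g).out = F g := fun g => by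
    obtain ⟨k, hk⟩ := QuotientGroup.mk_out_eq_mul (K.subgroupOf G) g
    have : g * (k : G) = inclusion hKG ⟨g * k * g⁻¹, conj_mem_of_mem_normalizer (hG g.2) k.2⟩ * g :=
      Subtype.ext (by simp)
    rw [show (π g).out = g * k from hk, this, hF]
  have hs : Function.Surjective (π.comp (inclusion hN)) := by
    intro q
    obtain ⟨v, rfl⟩ := QuotientGroup.mk'_surjective _ q
    obtain ⟨a, ha, b, hb, e⟩ := (mem_sup_of_le_normalizer_left (hN.trans hG)).1 (hsup v.2)
    refine ⟨⟨b, hb⟩, ?_⟩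
    have : v = ⟨a, hKG ha⟩ * inclusion hN ⟨b, hb⟩ := Subtype.ext e
    rw [this, map_mul, (QuotientGroup.eq_one_iff (N := K.subgroupOf G) ⟨a, hKG ha⟩).2 ha |>
      (show QuotientGroup.mk' (K.subgroupOf G) ⟨a, hKG ha⟩ = 1 from ·), one_mul]
    rfl
  have e1 := classInner_comp_surjective π (QuotientGroup.mk'_surjective _) (fun q => F q.out)
    (fun _ => 1)
  have e2 := classInner_comp_surjective _ hs (fun q => F q.out) (fun _ => 1)
  rw [← e1, classInner_one_right, classInner_one_right] at e2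
  simp only [MonoidHom.comp_apply, hF'] at e2
  have h1 := card_ne_zero N
  have h2 := card_ne_zero G
  field_simp at e2
  linear_combination e2

end Grp

variable [Finite Γ] {K G N D : Subgroup Γ}

/-- `g` is `θ`-good in `G` -/
def GoodFor (θ : K → ℂ) (G : Subgroup Γ) (g : Γ) : Prop :=
  ∀ h ∈ G, h * g * h⁻¹ * g⁻¹ ∈ K → HasExt θ (K ⊔ zpowers g ⊔ zpowers h)

section Coset
variable (hKG : K ≤ G) (hG : G ≤ 𝐍[K]) {θ : IrrCharacter K} (hθ : InvBy G θ.1) {g : Γ}
  (hg : g ∈ G) {α : IrrCharacter ↥(K ⊔ zpowers g)} (hα : IsRes α.1 θ.1)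
include hG hθ hg hα

theorem exists_coset_mul (χ : IrrCharacter G) (h : nmult hKG χ.1 θ.1 ≠ 0) :
    ∃ c : ℂ, ∀ (y : ↥(K ⊔ zpowers g)) (hy : (y : Γ) ∈ G), (y : Γ) * g⁻¹ ∈ K →
      χ.1 ⟨y, hy⟩ = c * α.1 y := by
  have hle : K ⊔ zpowers g ≤ G := sup_le hKG (zpowers_le.2 hg)
  have key : ∀ η : IrrCharacter ↥(K ⊔ zpowers g), ∃ c : ℂ, nmult hle χ.1 η.1 ≠ 0 →
      ∀ y : ↥(K ⊔ zpowers g), (y : Γ) * g⁻¹ ∈ K → η.1 y = c * α.1 y := by
    intro η
    by_cases h1 : nmult hle χ.1 η.1 = 0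
    · exact ⟨0, fun h => absurd h1 h⟩
    obtain ⟨lam, h2, h3⟩ := exists_linear_of_over le_sup_left (hle.trans hG)
      (commutator_sup_zpowers_le (hG hg)) α η θ (by rw [hα.nmult_eq_one]; exact one_ne_zero)
      (nmult_below_of_invBy le_sup_left hle hG χ η hθ h h1)
    refine ⟨lam ⟨g, mem_sup_right (mem_zpowers g)⟩, fun _ y hy => ?_⟩
    have : y = inclusion le_sup_left ⟨_, hy⟩ * ⟨g, mem_sup_right (mem_zpowers g)⟩ :=
      Subtype.ext (by simp)
    have h4 : lam y = lam ⟨g, mem_sup_right (mem_zpowers g)⟩ := by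
      rw [this, map_mul, h2, one_mul]
    rw [h3, h4, mul_comm]
  choose c hc using key
  refine ⟨∑ η, nmult hle χ.1 η.1 * c η, fun y hy hy' => ?_⟩
  rw [restrict_eq_sum_nmult hle χ.2.isCharacter y, Finset.sum_mul]
  refine Finset.sum_congr rfl fun η _ => ?_
  by_cases h1 : nmult hle χ.1 η.1 = 0
  · simp [h1]
  · rw [hc η h1 y hy', mul_assoc]

theorem coset_eq_zero_of_not_good (hn : ¬ GoodFor θ.1 G g) (χ : IrrCharacter G)
    (h : nmult hKG χ.1 θ.1 ≠ 0) (y : G) (hy : (y : Γ) * g⁻¹ ∈ K) : χ.1 y = 0 := by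
  obtain ⟨c, hc⟩ := exists_coset_mul hKG hG hθ hg hα χ h
  have hle : K ⊔ zpowers g ≤ G := sup_le hKG (zpowers_le.2 hg)
  simp only [GoodFor, not_forall] at hn
  obtain ⟨x, hx, h1, h2⟩ := hn
  have hxn : x ∈ 𝐍[K ⊔ zpowers g] :=
    mem_normalizer_of_commutator_le ((commutator_sup_two_le (hG hg) (hG hx) h1).trans le_sup_left)
      le_sup_left (mem_sup_right (mem_zpowers x))
  obtain ⟨lam, h3, h4⟩ := exists_linPerm_of_isRes le_sup_left (hle.trans hG) hα
    (ψ := (⟨x, hxn⟩ : 𝐍[K ⊔ zpowers g]) • α) (fun k hk => by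
      have hk' := inv_conj_mem_of_mem_normalizer (hG hx) k.2
      rw [irr_smul_apply_of_eq (g := ⟨x⁻¹ * k * x, mem_sup_left hk'⟩) _ α (by simp [mul_assoc]),
        hα ⟨_, hk'⟩]
      exact (hθ x hx _ _ (by simp [mul_assoc])).symm)
  have h5 : lam ⟨g, mem_sup_right (mem_zpowers g)⟩ ≠ 1 := by
    intro h5
    have h6 : lam = 1 := by
      have : (K ⊔ zpowers g) ≤ lam.ker.map (K ⊔ zpowers g).subtype :=
        sup_le (fun k hk => ⟨⟨k, mem_sup_left hk⟩, h3 _ hk, rfl⟩) (zpowers_le.2 ⟨_, h5, rfl⟩)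
      ext1 v
      obtain ⟨w, hw, e⟩ := this v.2
      rwa [← Subtype.ext e]
    rw [h6, map_one, Equiv.Perm.one_apply] at h4
    exact h2 ((hasExt_sup_zpowers hxn α ((invBy_zpowers hxn).2
      ((irr_smul_eq_iff _ α).1 h4))).trans le_sup_left hα)
  have hy1 : (y : Γ) ∈ K ⊔ zpowers g := by
    have : (y : Γ) = y * g⁻¹ * g := by group
    rw [this]
    exact mul_mem (mem_sup_left hy) (mem_sup_right (mem_zpowers g))
  have hy2 : x * y * x⁻¹ * g⁻¹ ∈ K := by
    have := mul_mem (conj_mem_of_mem_normalizer (hG hx) hy) h1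
    convert this using 1
    group
  have hy3 : x * y * x⁻¹ ∈ K ⊔ zpowers g := conj_mem_of_mem_normalizer hxn hy1
  have e1 := hc ⟨y, hy1⟩ y.2 hy
  have e2 := hc ⟨_, hy3⟩ (hle hy3) hy2
  have e3 : χ.1 ⟨_, hle hy3⟩ = χ.1 y := χ.2.isClassFunction y ⟨x, hx⟩
  have e4 := irr_smul_apply_of_eq (⟨x, hxn⟩ : 𝐍[K ⊔ zpowers g]) α (g := ⟨y, hy1⟩)
    (g' := ⟨_, hy3⟩) rfl
  rw [h4, linPerm_apply] at e4
  have e5 : lam ⟨_, hy3⟩ = lam ⟨g, mem_sup_right (mem_zpowers g)⟩ := by
    have : (⟨_, hy3⟩ : ↥(K ⊔ zpowers g)) =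
        ⟨_, mem_sup_left hy2⟩ * ⟨g, mem_sup_right (mem_zpowers g)⟩ := Subtype.ext (by simp)
    rw [this, map_mul, h3 _ hy2, one_mul]
  rw [e5] at e4
  have e6 : χ.1 y * ((lam ⟨g, mem_sup_right (mem_zpowers g)⟩ : ℂˣ) - 1) = 0 := by
    change χ.1 y = _ at e1
    linear_combination (lam ⟨g, mem_sup_right (mem_zpowers g)⟩ : ℂ) * (e2 - e3) + c * e4 - e1
  rcases mul_eq_zero.1 e6 with h | h
  · exact h
  · exact absurd (Units.ext (sub_eq_zero.1 h)) h5

omit hθ in
include hKG in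
theorem coset_invBy_of_good (hgood : GoodFor θ.1 G g) {x : Γ} (hx : x ∈ G)
    (h1 : x * g * x⁻¹ * g⁻¹ ∈ K) (y y' : ↥(K ⊔ zpowers g)) (e : (y' : Γ) = x * y * x⁻¹) :
    α.1 y' = α.1 y := by
  obtain ⟨ψ, hψ⟩ := hgood x hx h1
  have hle : K ⊔ zpowers g ≤ G := sup_le hKG (zpowers_le.2 hg)
  obtain ⟨lam, h3, h4⟩ := exists_linPerm_of_isRes le_sup_left (hle.trans hG)
    (χ := ⟨_, hψ.isIrr_restrict le_sup_left le_sup_left ψ.2.isCharacter θ.2⟩)
    (hψ.of_restrict le_sup_left) hα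
  rw [h4]
  refine InvBy.linPerm (K := K) (S := K ⊔ zpowers g ⊔ zpowers x) ?_ lam h3 ?_ x
    (mem_sup_right (mem_zpowers x)) y y' e
  · exact (invBy_self ψ.2.isClassFunction).restrict le_sup_left
  · intro a ha v hv
    exact commutator_sup_two_le (hG hg) (hG hx) h1 (commutator_mem_commutator ha (mem_sup_left hv))

end Coset

open Classical in
theorem sum_cin_over [Fintype G] [Fintype K] (hKG : K ≤ G) (hG : G ≤ 𝐍[K]) {θ : IrrCharacter K}
    (hθ : InvBy G θ.1) (g : G) :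
    Nat.card K * ∑ χ : IrrCharacter G with nmult hKG χ.1 θ.1 ≠ 0,
      cin (inclusion hKG) χ.1 χ.1 g =
      ∑ x : G, if GoodFor θ.1 G g ∧ (x : Γ) * g * (x : Γ)⁻¹ * (g : Γ)⁻¹ ∈ K then (1 : ℂ) else 0 := by
  obtain ⟨α, hα⟩ := hasExt_sup_zpowers (hG g.2) θ (hθ.mono (zpowers_le.2 g.2))
  by_cases hgood : GoodFor θ.1 G g
  swap
  · simp only [hgood, false_and, if_false, Finset.sum_const_zero]
    rw [Finset.sum_eq_zero, mul_zero]
    intro χ hχ
    have : (fun k : K => χ.1 (inclusion hKG k * g)) = 0 := funext fun k =>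
      coset_eq_zero_of_not_good hKG hG hθ g.2 hα hgood χ (Finset.mem_filter.1 hχ).2 _ (by simp)
    rw [cin, this, classInner_zero_left]
  have hle : K ⊔ zpowers (g : Γ) ≤ G := sup_le hKG (zpowers_le.2 g.2)
  have hn : (inclusion (le_sup_left : K ≤ K ⊔ zpowers (g : Γ))).range.Normal :=
    (isCyc_inclusion (hG g.2)).normal
  let t : ↥(K ⊔ zpowers (g : Γ)) := ⟨g, mem_sup_right (mem_zpowers _)⟩
  let A : K → ℂ := fun k => α.1 (inclusion le_sup_left k * t)
  have hA : classInner A A = 1 := cin_self_of_irr _ (inclusion_injective _) hn α.2.isCharacter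
    (by rw [← hα.eq le_sup_left] at hθ; have := θ.2; rwa [← hα.eq le_sup_left] at this) t
  have hmem : ∀ y : Γ, y * (g : Γ)⁻¹ ∈ K → y ∈ K ⊔ zpowers (g : Γ) := fun y hy => by
    have : y = y * (g : Γ)⁻¹ * g := by group
    rw [this]
    exact mul_mem (mem_sup_left hy) t.2
  let β : G → ℂ := fun y => if h : (y : Γ) * (g : Γ)⁻¹ ∈ K then α.1 ⟨y, hmem y h⟩ else 0
  have hβ : ∀ F : G → ℂ, (Nat.card G : ℂ) * classInner β F =
      Nat.card K * classInner A (fun k => F (inclusion hKG k * g)) := by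
    intro F
    rw [← sum_mul_conj_eq, ← sum_mul_conj_eq]
    refine (Fintype.sum_of_injective (fun k : K => inclusion hKG k * g)
      ((mul_left_injective g).comp (inclusion_injective hKG)) _ _ (fun y hy => ?_) fun k => ?_).symm
    · rw [show β y = 0 from dif_neg fun h => hy ⟨⟨_, h⟩, Subtype.ext (by simp)⟩, zero_mul]
    · rw [show β (inclusion hKG k * g) = A k from dif_pos (by simp)]
  have hβA : (fun k => β (inclusion hKG k * g)) = A := funext fun k => dif_pos (by simp)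
  let f : G → ℂ := ∑ x : G, fun y => β (x * y * x⁻¹)
  have hf : IsClassFunction G f := by
    intro y a
    simp only [f, Finset.sum_apply]
    exact Fintype.sum_equiv (Equiv.mulRight a) _ _ fun x => by simp [mul_assoc]
  have e1 : ∀ χ : IrrCharacter G, classInner f χ.1 = Nat.card G * classInner β χ.1 := by
    intro χ
    rw [classInner_sum_left, Finset.sum_congr rfl (g := fun _ => classInner β χ.1)]
    · simp
    · intro x _
      rw [← classInner_comp_mulEquiv (MulAut.conj x) β]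
      congr 1
      funext y
      exact (χ.2.isClassFunction y x).symm
  have e2 : classInner f β = ∑ x : G, (if (x : Γ) * g * (x : Γ)⁻¹ * (g : Γ)⁻¹ ∈ K then 1 else 0) *
      classInner β β := by
    rw [classInner_sum_left]
    refine Finset.sum_congr rfl fun x _ => ?_
    have hiff : ∀ y : Γ, y * (g : Γ)⁻¹ ∈ K →
        ((x : Γ) * y * (x : Γ)⁻¹ * (g : Γ)⁻¹ ∈ K ↔ (x : Γ) * g * (x : Γ)⁻¹ * (g : Γ)⁻¹ ∈ K) := by
      intro y hy
      have : (x : Γ) * y * (x : Γ)⁻¹ * (g : Γ)⁻¹ = x * (y * (g : Γ)⁻¹) * (x : Γ)⁻¹ *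
        ((x : Γ) * g * (x : Γ)⁻¹ * (g : Γ)⁻¹) := by group
      rw [this, K.mul_mem_cancel_left (conj_mem_of_mem_normalizer (hG x.2) hy)]
    split_ifs with hx
    · rw [one_mul]
      congr 1
      funext y
      by_cases hy : (y : Γ) * (g : Γ)⁻¹ ∈ K
      · have hy' : ((x * y * x⁻¹ : G) : Γ) * (g : Γ)⁻¹ ∈ K := (hiff y hy).2 hx
        rw [show β y = _ from dif_pos hy, show β (x * y * x⁻¹) = _ from dif_pos hy']
        exact coset_invBy_of_good hKG hG g.2 hα hgood x.2 hx _ _ rfl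
      · rw [show β y = 0 from dif_neg hy]
        refine dif_neg fun h => hy ?_
        have := inv_conj_mem_of_mem_normalizer (hG x.2) (mul_mem h (inv_mem hx))
        convert this using 1
        simp [mul_assoc]
    · rw [zero_mul, classInner_def, Finset.sum_eq_zero, mul_zero]
      intro y _
      by_cases hy : (y : Γ) * (g : Γ)⁻¹ ∈ K
      · rw [show β (x * y * x⁻¹) = 0 from dif_neg fun h => hx ((hiff y hy).1 h), zero_mul]
      · rw [show β y = 0 from dif_neg hy, map_zero, mul_zero]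
  have e3 : ∀ χ : IrrCharacter G, classInner A (fun k => χ.1 (inclusion hKG k * g)) *
      conj (classInner A (fun k => χ.1 (inclusion hKG k * g))) =
      if nmult hKG χ.1 θ.1 ≠ 0 then cin (inclusion hKG) χ.1 χ.1 g else 0 := by
    intro χ
    split_ifs with h
    · obtain ⟨c, hc⟩ := exists_coset_mul hKG hG hθ g.2 hα χ h
      have : (fun k => χ.1 (inclusion hKG k * g)) = c • A := funext fun k =>
        hc (inclusion le_sup_left k * t) (inclusion hKG k * g).2 (by simp [t])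
      rw [cin, this, classInner_smul_left, classInner_smul_right, hA]
      simp [mul_comm]
    · rw [not_not] at h
      have := cin_eq_zero_of_inner _ (inclusion_injective _) hn α.2.isCharacter
        (χ.2.isCharacter.comp (inclusion hle)) (by
          rw [← classInner_conj_symm, map_eq_zero]
          have h1 := coe_nmult_irr hKG χ θ
          rw [h, ← hα.eq le_sup_left] at h1
          exact_mod_cast h1.symm) t
      rw [show classInner A (fun k => χ.1 (inclusion hKG k * g)) = 0 from this, zero_mul]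
  have e4 := hf.inner_eq_sum β
  simp only [e1] at e4
  rw [e2, ← Finset.sum_mul] at e4
  have e5 := hβ β
  rw [hβA, hA] at e5
  have hK := card_ne_zero K
  have hG0 := card_ne_zero G
  have e6 : ∑ χ : IrrCharacter G, Nat.card G * classInner β χ.1 * conj (classInner β χ.1) =
      (Nat.card K) ^ 2 / Nat.card G * ∑ χ : IrrCharacter G with nmult hKG χ.1 θ.1 ≠ 0,
        cin (inclusion hKG) χ.1 χ.1 g := by
    rw [Finset.sum_filter, Finset.mul_sum]
    refine Finset.sum_congr rfl fun χ _ => ?_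
    have : classInner β χ.1 = Nat.card K / Nat.card G *
        classInner A (fun k => χ.1 (inclusion hKG k * g)) := by
      field_simp
      linear_combination hβ χ.1
    rw [← e3, this]
    simp only [map_mul, map_div₀, map_natCast]
    field_simp
  rw [e6, show classInner β β = Nat.card K / Nat.card G by field_simp; linear_combination e5] at e4
  simp only [hgood, true_and]
  field_simp at e4
  linear_combination -e4

open Classical in
/-- Gallagher's count -/
theorem card_over_eq_sum_good [Fintype G] (hKG : K ≤ G) (hG : G ≤ 𝐍[K]) {θ : IrrCharacter K}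
    (hθ : InvBy G θ.1) :
    (Nat.card {χ : IrrCharacter G // nmult hKG χ.1 θ.1 ≠ 0} * Nat.card K * Nat.card G : ℂ) =
      ∑ g : G, ∑ x : G,
        if GoodFor θ.1 G g ∧ (x : Γ) * g * (x : Γ)⁻¹ * (g : Γ)⁻¹ ∈ K then (1 : ℂ) else 0 := by
  letI : Fintype K := Fintype.ofFinite K
  simp only [← sum_cin_over hKG hG hθ]
  rw [← Finset.mul_sum, Finset.sum_comm]
  have : ∀ χ : IrrCharacter G, classInner χ.1 χ.1 = 1 := fun χ => χ.2.inner_self
  simp only [sum_cin, this, Finset.sum_const, nsmul_eq_mul]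
  rw [Nat.card_eq_fintype_card, Fintype.card_subtype]
  ring

omit [Finite Γ] in
theorem goodFor_mul (hG : G ≤ 𝐍[K]) (θ : K → ℂ) {k g : Γ} (hk : k ∈ K) :
    GoodFor θ G (k * g) ↔ GoodFor θ G g := by
  unfold GoodFor
  rw [sup_zpowers_mul hk]
  refine forall₂_congr fun x hx => imp_congr_left ?_
  have : x * (k * g) * x⁻¹ * (k * g)⁻¹ = x * k * x⁻¹ * (x * g * x⁻¹ * g⁻¹) * k⁻¹ := by group
  rw [this, K.mul_mem_cancel_right (inv_mem hk),
    K.mul_mem_cancel_left (conj_mem_of_mem_normalizer (hG hx) hk)]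

/-- transfer of the number of characters over an invariant character to a supplement -/
theorem card_over_eq_of_hasExt_iff (hKG : K ≤ G) (hG : G ≤ 𝐍[K]) (hN : N ≤ G) (hsup : G ≤ K ⊔ N)
    (hD : D = K ⊓ N) (hDN : D ≤ N) {θ : IrrCharacter K} (hθ : InvBy G θ.1) {φ : IrrCharacter D}
    (hφ : InvBy N φ.1)
    (h : ∀ A, D ≤ A → A ≤ N → ⁅A, A⁆ ≤ D → (HasExt θ.1 (K ⊔ A) ↔ HasExt φ.1 A)) :
    Nat.card {χ : IrrCharacter G // nmult hKG χ.1 θ.1 ≠ 0} =
      Nat.card {ψ : IrrCharacter N // nmult hDN ψ.1 φ.1 ≠ 0} := by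
  classical
  letI : Fintype G := Fintype.ofFinite G
  letI : Fintype N := Fintype.ofFinite N
  have hND : N ≤ 𝐍[D] := hD ▸ le_normalizer_inf (hN.trans hG) le_normalizer
  have hDK : D ≤ K := hD ▸ inf_le_left
  have e1 := card_over_eq_sum_good hKG hG hθ
  have e2 := card_over_eq_sum_good hDN hND hφ
  have hc : ∀ {x k g : Γ}, k ∈ K → x ∈ G → g ∈ G →
      ((k * x) * g * (k * x)⁻¹ * g⁻¹ ∈ K ↔ x * g * x⁻¹ * g⁻¹ ∈ K) := fun {x k g} hk hx hg => by
    have : (k * x) * g * (k * x)⁻¹ * g⁻¹ = k * (x * g * x⁻¹ * g⁻¹) * (g * k⁻¹ * g⁻¹) := by group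
    rw [this, K.mul_mem_cancel_right (conj_mem_of_mem_normalizer (hG hg) (inv_mem hk)),
      K.mul_mem_cancel_left hk]
  have hcD : ∀ {a b : Γ}, a ∈ N → b ∈ N → (b * a * b⁻¹ * a⁻¹ ∈ K ↔ b * a * b⁻¹ * a⁻¹ ∈ D) :=
    fun {a b} ha hb => by
      rw [hD]
      exact ⟨fun h => ⟨h, N.mul_mem (N.mul_mem (N.mul_mem hb ha) (N.inv_mem hb)) (N.inv_mem ha)⟩,
        fun h => h.1⟩
  have hext : ∀ {a b : Γ}, a ∈ N → b ∈ N → b * a * b⁻¹ * a⁻¹ ∈ D →
      (HasExt θ.1 (K ⊔ zpowers a ⊔ zpowers b) ↔ HasExt φ.1 (D ⊔ zpowers a ⊔ zpowers b)) :=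
    fun {a b} ha hb hab => by
      rw [← h _ (le_sup_left.trans le_sup_left)
        (sup_le (sup_le hDN (zpowers_le.2 ha)) (zpowers_le.2 hb))
        (commutator_sup_two_le (hND ha) (hND hb) hab), ← sup_assoc, ← sup_assoc,
        sup_eq_left.2 hDK]
  have hgood : ∀ a ∈ N, GoodFor θ.1 G a ↔ GoodFor φ.1 N a := by
    intro a ha
    constructor
    · intro h1 b hb hab
      exact (hext ha hb hab).1 (h1 b (hN hb) (hDK hab))
    · intro h1 x hx hxa
      obtain ⟨k, hk, b, hb, rfl⟩ := (mem_sup_of_le_normalizer_left (hN.trans hG)).1 (hsup hx)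
      have hab := (hcD ha hb).1 ((hc hk (hN hb) (hN ha)).1 hxa)
      rw [sup_right_comm, sup_zpowers_mul hk, sup_right_comm]
      exact (hext ha hb hab).2 (h1 b hb hab)
  have e3 := avg_supplement hKG hG hN hsup (fun g : G => ∑ x : G,
    if GoodFor θ.1 G g ∧ (x : Γ) * g * (x : Γ)⁻¹ * (g : Γ)⁻¹ ∈ K then (1 : ℂ) else 0) (by
      intro k g
      refine Finset.sum_congr rfl fun x _ => if_congr (and_congr (goodFor_mul hG _ k.2) ?_) rfl rfl
      exact ⟨fun h => comm_mem_symm ((hc k.2 g.2 x.2).1 (comm_mem_symm h)),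
        fun h => comm_mem_symm ((hc k.2 g.2 x.2).2 (comm_mem_symm h))⟩)
  have e4 : ∀ a : N, (Nat.card N : ℂ) * ∑ x : G, (if GoodFor θ.1 G (inclusion hN a) ∧
      (x : Γ) * (inclusion hN a) * (x : Γ)⁻¹ * ((inclusion hN a : G) : Γ)⁻¹ ∈ K then (1 : ℂ) else 0) =
      Nat.card G * ∑ b : N, if GoodFor φ.1 N a ∧ (b : Γ) * a * (b : Γ)⁻¹ * (a : Γ)⁻¹ ∈ D
        then (1 : ℂ) else 0 := by
    intro a
    rw [← avg_supplement hKG hG hN hsup]
    · congr 1
      exact Finset.sum_congr rfl fun b _ => if_congr (and_congr (hgood a a.2) (hcD a.2 b.2)) rfl rfl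
    · intro k x
      exact if_congr (and_congr Iff.rfl (hc k.2 x.2 (hN a.2))) rfl rfl
  have e5 := congrArg (fun z => (Nat.card N : ℂ) * z) e3
  rw [mul_left_comm, Finset.mul_sum] at e5
  simp only [e4] at e5
  rw [← Finset.mul_sum, ← e1, ← e2] at e5
  have e6 : Nat.card K * Nat.card N = Nat.card D * Nat.card G := by
    have h1 := relIndex_sup_amb (hN.trans hG)
    rw [le_antisymm (sup_le hKG hN) hsup, ← inf_relIndex_right K N, ← hD] at h1
    rw [← card_mul_relIndex_amb hKG, ← card_mul_relIndex_amb hDN, h1]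
    ring
  have e7 : (Nat.card K * Nat.card N : ℂ) = Nat.card D * Nat.card G := by exact_mod_cast e6
  have h1 := card_ne_zero K
  have h2 := card_ne_zero G
  have h3 := card_ne_zero N
  have : (Nat.card {χ : IrrCharacter G // nmult hKG χ.1 θ.1 ≠ 0} : ℂ) =
      Nat.card {ψ : IrrCharacter N // nmult hDN ψ.1 φ.1 ≠ 0} := by
    apply mul_left_cancel₀ (mul_ne_zero (mul_ne_zero h1 h2) (mul_ne_zero h3 h3))
    linear_combination -e5 - (Nat.card {ψ : IrrCharacter N // nmult hDN ψ.1 φ.1 ≠ 0} : ℂ) *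
      Nat.card G * Nat.card N * e7
  exact_mod_cast this

/-- restriction to a supplement preserves inner products over an invariant character whose
restriction stays irreducible -/
theorem classInner_restrict_supplement [Fintype G] [Fintype N] (hKG : K ≤ G) (hG : G ≤ 𝐍[K])
    (hN : N ≤ G) (hsup : G ≤ K ⊔ N) (hD : D = K ⊓ N) {θ : IrrCharacter K} (hθ : InvBy G θ.1)
    {φ : IrrCharacter D} (hφ : IsRes θ.1 φ.1) (χ ξ : IrrCharacter G)
    (h1 : nmult hKG χ.1 θ.1 ≠ 0) (h2 : nmult hKG ξ.1 θ.1 ≠ 0) :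
    classInner (fun n : N => χ.1 ⟨n, hN n.2⟩) (fun n : N => ξ.1 ⟨n, hN n.2⟩) =
      classInner χ.1 ξ.1 := by
  letI : Fintype K := Fintype.ofFinite K
  letI : Fintype D := Fintype.ofFinite D
  have hND : N ≤ 𝐍[D] := hD ▸ le_normalizer_inf (hN.trans hG) le_normalizer
  have hDK : D ≤ K := hD ▸ inf_le_left
  have hDN : D ≤ N := hD ▸ inf_le_right
  have e1 := avg_supplement hKG hG hN hsup (cin (inclusion hKG) χ.1 ξ.1)
    (cin_mul_left _ _ _)
  have e2 : ∀ n : N, cin (inclusion hKG) χ.1 ξ.1 (inclusion hN n) =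
      cin (inclusion hDN) (fun n : N => χ.1 ⟨n, hN n.2⟩) (fun n : N => ξ.1 ⟨n, hN n.2⟩) n := by
    intro g
    have hg := hN g.2
    obtain ⟨α, hα⟩ := hasExt_sup_zpowers (hG hg) θ (hθ.mono (zpowers_le.2 hg))
    obtain ⟨c, hc⟩ := exists_coset_mul hKG hG hθ hg hα χ h1
    obtain ⟨d, hd⟩ := exists_coset_mul hKG hG hθ hg hα ξ h2
    let t : ↥(K ⊔ zpowers (g : Γ)) := ⟨g, mem_sup_right (mem_zpowers _)⟩
    let A : K → ℂ := fun k => α.1 (inclusion le_sup_left k * t)
    have hA : classInner A A = 1 := cin_self_of_irr _ (inclusion_injective _)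
      (isCyc_inclusion (hG hg)).normal α.2.isCharacter
      (by have := θ.2; rwa [← hα.eq le_sup_left] at this) t
    have hA' : classInner (fun k => A (inclusion hDK k)) (fun k => A (inclusion hDK k)) = 1 :=
      cin_self_of_irr _ (inclusion_injective _) (isCyc_inclusion (hND g.2)).normal
        (α.2.isCharacter.comp (inclusion (sup_le_sup_right hDK _)))
        (by have := φ.2; rwa [← (hα.trans hDK hφ).eq (hDK.trans le_sup_left)] at this)
        ⟨g, mem_sup_right (mem_zpowers _)⟩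
    have h3 : (fun k => χ.1 (inclusion hKG k * inclusion hN g)) = c • A := funext fun k =>
      hc (inclusion le_sup_left k * t) (inclusion hKG k * inclusion hN g).2 (by simp [t])
    have h4 : (fun k => ξ.1 (inclusion hKG k * inclusion hN g)) = d • A := funext fun k =>
      hd (inclusion le_sup_left k * t) (inclusion hKG k * inclusion hN g).2 (by simp [t])
    have h5 : (fun k : D => χ.1 ⟨(inclusion hDN k * g : N), hN (inclusion hDN k * g).2⟩) =
        c • fun k => A (inclusion hDK k) := funext fun k => congrFun h3 (inclusion hDK k)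
    have h6 : (fun k : D => ξ.1 ⟨(inclusion hDN k * g : N), hN (inclusion hDN k * g).2⟩) =
        d • fun k => A (inclusion hDK k) := funext fun k => congrFun h4 (inclusion hDK k)
    rw [cin, cin, h3, h4, h5, h6]
    simp only [classInner_smul_left, classInner_smul_right, hA, hA']
  simp only [e2, sum_cin] at e1
  apply mul_left_cancel₀ (mul_ne_zero (card_ne_zero G) (card_ne_zero N))
  linear_combination e1

theorem isIrr_restrict_supplement (hKG : K ≤ G) (hG : G ≤ 𝐍[K])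
    (hN : N ≤ G) (hsup : G ≤ K ⊔ N) (hD : D = K ⊓ N) {θ : IrrCharacter K} (hθ : InvBy G θ.1)
    {φ : IrrCharacter D} (hφ : IsRes θ.1 φ.1) (χ : IrrCharacter G)
    (h1 : nmult hKG χ.1 θ.1 ≠ 0) : IsIrrCharacter N (fun n : N => χ.1 ⟨n, hN n.2⟩) := by
  letI : Fintype G := Fintype.ofFinite G
  letI : Fintype N := Fintype.ofFinite N
  refine (χ.2.isCharacter.comp (inclusion hN)).isIrr_of_inner_self ?_
  exact (classInner_restrict_supplement hKG hG hN hsup hD hθ hφ χ χ h1 h1).trans χ.2.inner_self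

theorem eq_of_isRes_supplement (hKG : K ≤ G) (hG : G ≤ 𝐍[K])
    (hN : N ≤ G) (hsup : G ≤ K ⊔ N) (hD : D = K ⊓ N) {θ : IrrCharacter K} (hθ : InvBy G θ.1)
    {φ : IrrCharacter D} (hφ : IsRes θ.1 φ.1) {χ ξ : IrrCharacter G}
    (h1 : nmult hKG χ.1 θ.1 ≠ 0) (h2 : nmult hKG ξ.1 θ.1 ≠ 0) {ψ : IrrCharacter N}
    (h3 : IsRes χ.1 ψ.1) (h4 : IsRes ξ.1 ψ.1) : χ = ξ := by
  letI : Fintype G := Fintype.ofFinite G
  letI : Fintype N := Fintype.ofFinite N
  have := classInner_restrict_supplement hKG hG hN hsup hD hθ hφ χ ξ h1 h2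
  rw [h3.eq hN, h4.eq hN, ψ.2.inner_self] at this
  exact Subtype.ext (χ.2.eq_of_inner_ne_zero ξ.2 (this ▸ one_ne_zero))

theorem exists_isRes_supplement (hKG : K ≤ G) (hG : G ≤ 𝐍[K])
    (hN : N ≤ G) (hsup : G ≤ K ⊔ N) (hD : D = K ⊓ N) (hDN : D ≤ N) {θ : IrrCharacter K}
    (hθ : InvBy G θ.1) {φ : IrrCharacter D} (hφ : IsRes θ.1 φ.1) (ψ : IrrCharacter N)
    (h : nmult hDN ψ.1 φ.1 ≠ 0) :
    ∃ χ : IrrCharacter G, nmult hKG χ.1 θ.1 ≠ 0 ∧ IsRes χ.1 ψ.1 := by
  have hDK : D ≤ K := hD ▸ inf_le_left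
  have hφN : InvBy N φ.1 := hφ.invBy hDK (hθ.mono hN)
  have hc := card_over_eq_of_hasExt_iff hKG hG hN hsup hD hDN hθ hφN fun A h1 h2 _ => by
    constructor
    · rintro ⟨η, hη⟩
      exact HasExt.mono h1 le_sup_right ⟨η, hη.trans hDK hφ⟩
    · intro h3
      refine hasExt_of_coprime_nmult le_sup_left ((sup_le hKG (h2.trans hN)).trans hG)
        le_sup_right le_rfl (le_antisymm (le_inf hDK h1) (hD ▸ inf_le_inf_left K h2)) hDK θ
        (hθ.mono (sup_le hKG (h2.trans hN))) φ h3 ?_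
      rw [hφ.nmult_eq_one]
      exact Nat.coprime_one_left _
  let F : {χ : IrrCharacter G // nmult hKG χ.1 θ.1 ≠ 0} →
      {ψ : IrrCharacter N // nmult hDN ψ.1 φ.1 ≠ 0} := fun χ =>
    ⟨⟨_, isIrr_restrict_supplement hKG hG hN hsup hD hθ hφ χ.1 χ.2⟩,
      nmult_trans_ne_zero hKG hDK χ.1.2.isCharacter θ φ.2.isCharacter χ.2
        (by rw [hφ.nmult_eq_one]; exact one_ne_zero)⟩
  have hF : Function.Injective F := fun a b e => Subtype.ext
    (eq_of_isRes_supplement hKG hG hN hsup hD hθ hφ a.2 b.2 (ψ := (F a).1)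
      (isRes_restrict hN _) (e ▸ isRes_restrict hN _))
  obtain ⟨χ, hχ⟩ := ((Nat.bijective_iff_injective_and_card F).2 ⟨hF, hc⟩).2 ⟨ψ, h⟩
  have h5 : (F χ).1 = ψ := congrArg Subtype.val hχ
  refine ⟨χ.1, χ.2, ?_⟩
  rw [← h5]
  exact isRes_restrict hN _

end Cfsg.Agent.Char
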