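import Mathlib
import Cfsg.Agent.Char.GoodClass

/-! Character triple isomorphisms in ambient form: the characters of the subgroups between `L`
and `U` over an invariant character `φ` of `L` correspond to characters of subgroups of another
group in which the image of `L` is central. -/

set_option autoImplicit false
open Cfsg Subgroup
open scoped ComplexConjugate

namespace Cfsg.Agent.Char
open Cfsg.Agent.Char Cfsg.Agent.PLocal.Amb

universe u

theorem classInner_mul_mul_of_irr {L M : Type*} [Group L] [Group M] [Finite L] [Fintype M]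
    (i : L →* M) (hi : Function.Injective i) (hn : i.range.Normal) {η : M → ℂ}
    (hη : IsCharacter M η) (hirr : IsIrrCharacter L (fun l => η (i l))) {a b : M → ℂ}
    (ha : ∀ l g, a (i l * g) = a g) (hb : ∀ l g, b (i l * g) = b g) :
    classInner (fun g => a g * η g) (fun g => b g * η g) = classInner a b := by
  letI := Fintype.ofFinite L
  apply mul_left_cancel₀ (card_ne_zero M)
  rw [← sum_cin i, ← sum_mul_conj_eq]
  refine Finset.sum_congr rfl fun g _ => ?_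
  have h1 := cin_self_of_irr i hi hn hη hirr g
  simp only [cin, ha, hb] at h1 ⊢
  rw [show (fun l => a g * η (i l * g)) = a g • fun l => η (i l * g) from rfl,
    show (fun l => b g * η (i l * g)) = b g • fun l => η (i l * g) from rfl,
    classInner_smul_left, classInner_smul_right, h1, mul_one]

theorem restrict_eq_of_invBy {Γ : Type*} [Group Γ] [Finite Γ] {K H : Subgroup Γ} (h : K ≤ H)
    (hH : H ≤ 𝐍[K]) (χ : IrrCharacter H) {θ : IrrCharacter K} (hθ : InvBy H θ.1)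
    (h1 : nmult h χ.1 θ.1 ≠ 0) (k : K) : χ.1 ⟨k, h k.2⟩ = nmult h χ.1 θ.1 * θ.1 k := by
  rw [restrict_eq_sum_nmult h χ.2.isCharacter k]
  refine Finset.sum_eq_single θ (fun ξ _ hξ => ?_) (fun h => absurd (Finset.mem_univ _) h)
  rw [mul_eq_zero]; left
  by_contra h2
  exact hξ (eq_of_nmult_of_invBy h hH χ hθ h1 (by exact_mod_cast h2))

/-- the data of a character triple isomorphism -/
structure TData {Γ Γ' Ω : Type*} [Group Γ] [Group Γ'] [Group Ω] (L U : Subgroup Γ) (φ : L → ℂ)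
    (ρ : Γ' →* Γ) (κ : Γ' →* Ω) (s : L →* Γ') (η : Γ' → ℂ) : Prop where
  range : ρ.range = U
  central : ρ.ker ≤ center Γ'
  sec : ∀ l : L, ρ (s l) = l
  ker : κ.ker = s.range
  char : IsCharacter Γ' η
  res : ∀ l : L, η (s l) = φ l

theorem exists_tData {Γ : Type u} [Group Γ] [Finite Γ] {L U : Subgroup Γ} (hLU : L ≤ U)
    (hU : U ≤ 𝐍[L]) (φ : IrrCharacter L) (hφ : InvBy U φ.1) :
    ∃ (Γ' : Type u) (_ : Group Γ') (_ : Finite Γ') (Ω : Type u) (_ : Group Ω) (_ : Finite Ω)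
      (ρ : Γ' →* Γ) (κ : Γ' →* Ω) (s : L →* Γ') (η : Γ' → ℂ),
      TData L U φ.1 ρ κ s η ∧ Function.Surjective κ := by
  haveI hn : (L.subgroupOf U).Normal := normal_subgroupOf' hU
  obtain ⟨Γ', _, _, π, s, η, h⟩ := exists_isTripleLift (L.subgroupOf U) (isIrr_subgroupOf hLU φ.2)
    (fun g n => hφ g g.2 _ _ rfl)
  haveI := h.normal_range
  refine ⟨Γ', inferInstance, inferInstance, Γ' ⧸ s.range, inferInstance, inferInstance,
    U.subtype.comp π, QuotientGroup.mk' _, s.comp (subgroupOfEquivOfLe hLU).symm.toMonoidHom, η,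
    ⟨?_, ?_, fun l => ?_, ?_, h.irr.isCharacter, fun l => h.apply_sec _⟩,
    QuotientGroup.mk'_surjective _⟩
  · rw [MonoidHom.range_comp, MonoidHom.range_eq_top.2 h.surj, ← MonoidHom.range_eq_map,
      range_subtype]
  · exact fun z hz => h.ker_le (Subtype.ext hz)
  · exact congrArg Subtype.val (h.sec _)
  · rw [QuotientGroup.ker_mk', MonoidHom.range_comp, 
      (MonoidHom.range_eq_top (f := (subgroupOfEquivOfLe hLU).symm.toMonoidHom)).2
      (subgroupOfEquivOfLe hLU).symm.surjective, ← MonoidHom.range_eq_map]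

/-- the subgroup corresponding to `X` -/
def tStar {Γ Γ' Ω : Type*} [Group Γ] [Group Γ'] [Group Ω] (ρ : Γ' →* Γ) (κ : Γ' →* Ω)
    (X : Subgroup Γ) : Subgroup Ω := (X.comap ρ).map κ

/-- `χ` corresponds to `β` -/
def TRel {Γ Γ' Ω : Type*} [Group Γ] [Group Γ'] [Group Ω] (ρ : Γ' →* Γ) (κ : Γ' →* Ω)
    (η : Γ' → ℂ) {X : Subgroup Γ} (χ : X → ℂ) (β : tStar ρ κ X → ℂ) : Prop :=
  ∀ γ : X.comap ρ, χ ⟨ρ γ, γ.2⟩ = β ⟨κ γ, γ, γ.2, rfl⟩ * η γ

theorem tStar_mono {Γ Γ' Ω : Type*} [Group Γ] [Group Γ'] [Group Ω] {ρ : Γ' →* Γ} {κ : Γ' →* Ω}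
    {X Y : Subgroup Γ} (h : X ≤ Y) : tStar ρ κ X ≤ tStar ρ κ Y := map_mono (comap_mono h)

theorem mem_tStar {Γ Γ' Ω : Type*} [Group Γ] [Group Γ'] [Group Ω] {ρ : Γ' →* Γ} {κ : Γ' →* Ω}
    {X : Subgroup Γ} {γ : Γ'} (h : ρ γ ∈ X) : κ γ ∈ tStar ρ κ X := ⟨γ, h, rfl⟩

namespace TData
variable {Γ Γ' Ω : Type*} [Group Γ] [Group Γ'] [Group Ω] {L U X Y : Subgroup Γ}
  {φ : IrrCharacter L} {ρ : Γ' →* Γ} {κ : Γ' →* Ω} {s : L →* Γ'} {η : Γ' → ℂ}

theorem comp {Ω' : Type*} [Group Ω'] (h : TData L U φ.1 ρ κ s η) (j : Ω →* Ω')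
    (hj : Function.Injective j) : TData L U φ.1 ρ (j.comp κ) s η :=
  ⟨h.range, h.central, h.sec, by rw [← MonoidHom.comap_ker, (MonoidHom.ker_eq_bot_iff j).2 hj,
    MonoidHom.comap_bot, h.ker], h.char, h.res⟩

theorem κ_s (h : TData L U φ.1 ρ κ s η) (l : L) : κ (s l) = 1 := h.ker.ge ⟨l, rfl⟩

theorem mem_range (h : TData L U φ.1 ρ κ s η) (γ : Γ') : ρ γ ∈ U := h.range.le ⟨γ, rfl⟩

theorem exists_eq (h : TData L U φ.1 ρ κ s η) {x : Γ} (hx : x ∈ U) : ∃ γ, ρ γ = x := h.range.ge hx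

theorem ker_le (h : TData L U φ.1 ρ κ s η) (hL : L ≤ X) : κ.ker ≤ X.comap ρ := by
  rw [h.ker]
  rintro _ ⟨l, rfl⟩
  rw [mem_comap, h.sec]
  exact hL l.2

theorem mem_iff (h : TData L U φ.1 ρ κ s η) (hL : L ≤ X) {γ : Γ'} :
    κ γ ∈ tStar ρ κ X ↔ ρ γ ∈ X := by
  rw [tStar, ← mem_comap, comap_map_eq, sup_eq_left.2 (h.ker_le hL), mem_comap]

theorem relIndex_eq (h : TData L U φ.1 ρ κ s η) (hX : L ≤ X) (hY : L ≤ Y) (hYU : Y ≤ U) :
    (tStar ρ κ X).relIndex (tStar ρ κ Y) = X.relIndex Y := by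
  rw [tStar, tStar, relIndex_map_map, sup_eq_left.2 (h.ker_le hX), sup_eq_left.2 (h.ker_le hY),
    relIndex_comap, map_comap_eq, h.range, inf_eq_right.2 hYU]

theorem le_normalizer (hX : Y ≤ 𝐍[X]) : tStar ρ κ Y ≤ 𝐍[tStar ρ κ X] :=
  (map_mono ((comap_mono hX).trans (le_normalizer_comap ρ))).trans (le_normalizer_map κ)

theorem commute_of_mem (h : TData L U φ.1 ρ κ s η) {z : Ω} (hz : z ∈ tStar ρ κ L) (γ : Γ') :
    κ γ * z = z * κ γ := by
  obtain ⟨δ, hδ, rfl⟩ := hz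
  have h1 : δ * (s ⟨ρ δ, hδ⟩)⁻¹ ∈ ρ.ker := by
    rw [MonoidHom.mem_ker, map_mul, map_inv, h.sec, mul_inv_cancel]
  have h2 := congrArg κ (mem_center_iff.1 (h.central h1) γ)
  simpa [h.κ_s] using h2

theorem tStar_sup (h : TData L U φ.1 ρ κ s η) (hX : X ≤ U) (hY : Y ≤ U) :
    tStar ρ κ (X ⊔ Y) = tStar ρ κ X ⊔ tStar ρ κ Y := by
  rw [tStar, ← comap_sup_eq_of_le_range ρ (h.range ▸ hX) (h.range ▸ hY), Subgroup.map_sup]
  rfl

/-- the section into the preimage of `X` -/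
def secX (h : TData L U φ.1 ρ κ s η) (hL : L ≤ X) : L →* X.comap ρ :=
  s.codRestrict _ fun l => h.ker_le hL (h.κ_s l)

theorem secX_injective (h : TData L U φ.1 ρ κ s η) (hL : L ≤ X) :
    Function.Injective (h.secX hL) := fun a b e =>
  Subtype.ext (by rw [← h.sec a, ← h.sec b]; exact congrArg (fun x : X.comap ρ => ρ x) e)

theorem secX_normal (h : TData L U φ.1 ρ κ s η) (hL : L ≤ X) : (h.secX hL).range.Normal := by
  have : (h.secX hL).range = κ.ker.subgroupOf (X.comap ρ) := by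
    ext x
    rw [mem_subgroupOf, h.ker]
    exact ⟨fun ⟨l, e⟩ => ⟨l, congrArg Subtype.val e⟩, fun ⟨l, e⟩ => ⟨l, Subtype.ext e⟩⟩
  rw [this]
  infer_instance

/-- the projection onto `X` -/
def projX (ρ : Γ' →* Γ) (X : Subgroup Γ) : X.comap ρ →* X :=
  (ρ.comp (X.comap ρ).subtype).codRestrict _ fun γ => γ.2

theorem projX_surjective (h : TData L U φ.1 ρ κ s η) (hX : X ≤ U) :
    Function.Surjective (projX ρ X) := fun x => by
  obtain ⟨γ, e⟩ := h.exists_eq (hX x.2)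
  exact ⟨⟨γ, by rw [mem_comap, e]; exact x.2⟩, Subtype.ext e⟩

/-- the projection onto the corresponding subgroup -/
def starX (ρ : Γ' →* Γ) (κ : Γ' →* Ω) (X : Subgroup Γ) : X.comap ρ →* tStar ρ κ X :=
  (κ.comp (X.comap ρ).subtype).codRestrict _ fun γ => ⟨γ, γ.2, rfl⟩

theorem starX_surjective : Function.Surjective (starX ρ κ X) := by
  rintro ⟨_, γ, hγ, rfl⟩
  exact ⟨⟨γ, hγ⟩, rfl⟩

theorem irr_secX (h : TData L U φ.1 ρ κ s η) (hL : L ≤ X) :
    IsIrrCharacter L (fun l => η (h.secX hL l)) := by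
  have : (fun l => η (h.secX hL l)) = φ.1 := funext h.res
  rw [this]
  exact φ.2

variable [Finite Γ] [Finite Γ'] [Finite Ω]

theorem nmult_eq (h : TData L U φ.1 ρ κ s η) (hL : L ≤ X) (hXY : X ≤ Y) (hY : Y ≤ U)
    {χ : IrrCharacter Y} {β : IrrCharacter (tStar ρ κ Y)} (h1 : TRel ρ κ η χ.1 β.1)
    {ψ : IrrCharacter X} {γ : IrrCharacter (tStar ρ κ X)} (h2 : TRel ρ κ η ψ.1 γ.1) :
    nmult hXY χ.1 ψ.1 = nmult (tStar_mono hXY) β.1 γ.1 := by
  letI := Fintype.ofFinite X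
  letI := Fintype.ofFinite (tStar ρ κ X)
  letI := Fintype.ofFinite (X.comap ρ)
  refine nmult_eq_of hXY ?_
  rw [coe_nmult_irr, ← classInner_comp_surjective _ (h.projX_surjective (hXY.trans hY)),
    ← classInner_comp_surjective _ (starX_surjective (ρ := ρ) (κ := κ) (X := X))]
  refine Eq.trans ?_ (classInner_mul_mul_of_irr (h.secX hL) (h.secX_injective hL)
    (h.secX_normal hL) (h.char.restrict _) (h.irr_secX hL) ?_ ?_)
  · congr 1
    · exact funext fun g => h1 ⟨g, hXY g.2⟩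
    · exact funext fun g => h2 g
  · intro l g
    refine congrArg β.1 (Subtype.ext ?_)
    change κ (s l * g) = κ g
    rw [map_mul, h.κ_s, one_mul]
  · intro l g
    refine congrArg γ.1 (Subtype.ext ?_)
    change κ (s l * g) = κ g
    rw [map_mul, h.κ_s, one_mul]

theorem eq_iff (h : TData L U φ.1 ρ κ s η) (hL : L ≤ X) (hX : X ≤ U)
    {χ ψ : IrrCharacter X} {β γ : IrrCharacter (tStar ρ κ X)} (h1 : TRel ρ κ η χ.1 β.1)
    (h2 : TRel ρ κ η ψ.1 γ.1) : χ = ψ ↔ β = γ := by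
  classical
  have := h.nmult_eq hL le_rfl hX h1 h2
  rw [nmult_refl, show nmult (tStar_mono le_rfl) β.1 γ.1 = _ from nmult_refl β γ] at this
  by_cases e : χ = ψ <;> by_cases e' : β = γ <;> simp_all

theorem exists_star (h : TData L U φ.1 ρ κ s η) (hL : L ≤ X) (hX : X ≤ U) (χ : IrrCharacter X)
    (h1 : nmult hL χ.1 φ.1 ≠ 0) : ∃ β : IrrCharacter (tStar ρ κ X), TRel ρ κ η χ.1 β.1 := by
  letI := Fintype.ofFinite L
  obtain ⟨β, h2, h3, h4⟩ := gallagher_surj_hom (h.secX hL) (h.secX_normal hL) (h.char.restrict _)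
    (h.irr_secX hL) (χ.2.comp_surjective _ (h.projX_surjective hX)) (by
      have := (nmult_ne_zero_iff hL χ φ).1 h1
      convert this using 2
      · exact funext fun l => congrArg χ.1 (Subtype.ext (h.sec l))
      · exact funext h.res)
  obtain ⟨β', -, h5, h6⟩ := exists_deflation_of_surjective (starX ρ κ X) starX_surjective
    h2.isCharacter fun n hn => by
      obtain ⟨l, e⟩ := h.ker.le (show κ n = 1 from congrArg Subtype.val hn)
      rw [← h3 l]
      exact congrArg β (Subtype.ext e.symm)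
  exact ⟨⟨β', h6 h2⟩, fun g => (congrFun h4 g).symm.trans (congrArg (· * η g) (h5 g).symm)⟩

omit [Finite Γ] [Finite Γ'] [Finite Ω] in
theorem invBy_lam (h : TData L U φ.1 ρ κ s η) (lam : tStar ρ κ L → ℂ) :
    InvBy (tStar ρ κ X) lam := by
  rintro _ ⟨γ, -, rfl⟩ g g' e
  rw [h.commute_of_mem g.2, mul_inv_cancel_right] at e
  rw [Subtype.ext e]

theorem exists_orig (h : TData L U φ.1 ρ κ s η) (hL : L ≤ X) (hX : X ≤ U) (hXL : X ≤ 𝐍[L])
    {lam : IrrCharacter (tStar ρ κ L)} (hlam : TRel ρ κ η φ.1 lam.1)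
    (β : IrrCharacter (tStar ρ κ X)) (h1 : nmult (tStar_mono hL) β.1 lam.1 ≠ 0) :
    ∃ χ : IrrCharacter X, TRel ρ κ η χ.1 β.1 := by
  have h2 := gallagher_isIrr_hom (h.secX hL) (h.secX_normal hL) (h.char.restrict _)
    (h.irr_secX hL) (β.2.comp_surjective _ starX_surjective) fun l => by
      rw [map_one]
      exact congrArg β.1 (Subtype.ext (h.κ_s l))
  have h3 := restrict_eq_of_invBy (tStar_mono hL) (le_normalizer hXL) β (h.invBy_lam _) h1
  obtain ⟨χ, -, h5, h6⟩ := exists_deflation_of_surjective (projX ρ X) (h.projX_surjective hX)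
    h2.isCharacter fun n hn => by
      have e : ρ n = 1 := congrArg Subtype.val hn
      have h4 : (n : Γ') ∈ L.comap ρ := by rw [mem_comap, e]; exact one_mem _
      have e1 := hlam ⟨n, h4⟩
      have e2 := hlam 1
      have e3 := h3 ⟨κ n, mem_tStar h4⟩
      have e4 := h3 ⟨κ 1, mem_tStar (one_mem (L.comap ρ))⟩
      have e5 : φ.1 ⟨ρ n, h4⟩ = φ.1 ⟨ρ 1, one_mem (L.comap ρ)⟩ :=
        congrArg φ.1 (Subtype.ext (e.trans (map_one ρ).symm))
      change β.1 ⟨κ n, _⟩ * η n = β.1 ⟨κ 1, _⟩ * η 1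
      rw [e3, e4, mul_assoc, mul_assoc]
      exact congrArg _ (e1.symm.trans (e5.trans e2))
  exact ⟨⟨χ, h6 h2⟩, fun g => h5 g⟩

theorem invBy_iff (h : TData L U φ.1 ρ κ s η) (hL : L ≤ X) (hX : X ≤ U) {S : Subgroup Γ}
    (hS : S ≤ U) (hSX : S ≤ 𝐍[X]) {χ : IrrCharacter X} {β : IrrCharacter (tStar ρ κ X)}
    (h1 : TRel ρ κ η χ.1 β.1) : InvBy S χ.1 ↔ InvBy (tStar ρ κ S) β.1 := by
  have key : ∀ (γ : Γ') (hγ : ρ γ ∈ S), TRel ρ κ η
      ((⟨ρ γ, hSX hγ⟩ : 𝐍[X]) • χ : IrrCharacter X).1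
      ((⟨κ γ, le_normalizer hSX (mem_tStar hγ)⟩ : 𝐍[tStar ρ κ X]) • β :
        IrrCharacter (tStar ρ κ X)).1 := by
    intro γ hγ g
    have h2 : γ⁻¹ * g * γ ∈ X.comap ρ := by
      rw [mem_comap, map_mul, map_mul, map_inv]
      exact inv_conj_mem_of_mem_normalizer (hSX hγ) g.2
    rw [irr_smul_apply_of_eq (g := ⟨ρ (γ⁻¹ * g * γ), h2⟩) _ χ (by simp [mul_assoc]),
      irr_smul_apply_of_eq (g := ⟨κ (γ⁻¹ * g * γ), mem_tStar h2⟩) _ β (by simp [mul_assoc]),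
      ← h.char.isClassFunction.conj' g γ]
    exact h1 ⟨_, h2⟩
  constructor
  · rintro h2 _ ⟨γ, hγ, rfl⟩
    exact (irr_smul_eq_iff _ β).1 ((h.eq_iff hL hX (key γ hγ) h1).1 (h2.smul_eq hγ))
  · intro h2 x hx
    obtain ⟨γ, rfl⟩ := h.exists_eq (hS hx)
    exact (irr_smul_eq_iff _ χ).1 ((h.eq_iff hL hX (key γ hx) h1).2 (h2.smul_eq (mem_tStar hx)))

theorem degree_eq (h : TData L U φ.1 ρ κ s η) {χ : IrrCharacter X}
    {β : IrrCharacter (tStar ρ κ X)} (h1 : TRel ρ κ η χ.1 β.1) :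
    charDegree χ.1 = charDegree β.1 * charDegree φ.1 := by
  have e := h1 1
  have e1 : η 1 = φ.1 1 := by rw [← h.res 1, map_one]
  have : (charDegree χ.1 : ℂ) = charDegree β.1 * charDegree φ.1 := by
    rw [coe_charDegree_irr, coe_charDegree_irr, coe_charDegree_irr, ← e1]
    exact (congrArg χ.1 (Subtype.ext (map_one ρ).symm)).trans
      (e.trans (congrArg (· * η 1) (congrArg β.1 (Subtype.ext (map_one κ)))))
  exact_mod_cast this

end TData

end Cfsg.Agent.Char
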