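import Mathlib
import Cfsg.Prelude.Def_Characters
import Cfsg.Agent.Char.RealClifford
import Cfsg.Agent.Char.Gallagher

/-!
# Twisting a Clifford-induced character by linear characters

If `φ ∈ Irr N` extends to `ψ ∈ Irr I`, `I` its inertia group, then the map `λ ↦ λ ψ^G`, on linear
characters trivial on `N`, is at most `|G : I|` to one.
-/

set_option autoImplicit false

namespace Cfsg.Agent.Char

open Cfsg Cfsg.Agent.Char
open scoped ComplexConjugate

variable {G : Type*} [Group G]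

theorem le_commutator_of_minNormal (N : Subgroup G) [hN : N.Normal]
    (hmin : ∀ M : Subgroup G, M.Normal → M ≤ N → M = ⊥ ∨ M = N) (hna : ¬ IsMulCommutative N) :
    N ≤ commutator G := by
  rcases hmin ⁅N, N⁆ inferInstance (Subgroup.commutator_le_left N N) with h | h
  · exact absurd (Subgroup.commutator_self_eq_bot_iff.mp h) hna
  · rw [← h]; exact Subgroup.commutator_mono le_top le_top

theorem eq_inertia_of_iff (N : Subgroup G) [hN : N.Normal] (φ : N → ℂ) (I : Subgroup G)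
    (hI : ∀ g : G, g ∈ I ↔ ∀ n n' : N, (n' : G) = g * (n : G) * g⁻¹ → φ n' = φ n) :
    I = inertia N φ := by
  ext g
  rw [hI, mem_inertia']
  exact ⟨fun h n => h n _ rfl, fun h n n' e => by
    rw [← h n]; congr 1; exact Subtype.ext e⟩

variable [Fintype G] {N : Subgroup G} [hN : N.Normal] {I : Subgroup G} {φ : N → ℂ} {ψ : I → ℂ}

theorem isIrr_indFun_of_extends (hφ : IsIrrCharacter N φ) (hI : inertia N φ ≤ I) (hNI : N ≤ I)
    (hψ : IsIrrCharacter I ψ) (hext : ∀ n : N, ψ ⟨n, hNI n.2⟩ = φ n) :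
    IsIrrCharacter G (indFun I ψ) := by
  classical
  refine isIrr_indFun_of_inertia_le hNI hψ hφ hI ?_
  rw [funext hext, hφ.inner_self]; exact one_ne_zero

theorem restrict_eq_of_mul_indFun_eq (hφ : IsIrrCharacter N φ) (hI : inertia N φ ≤ I)
    (hNI : N ≤ I) (hψ : IsIrrCharacter I ψ) (hext : ∀ n : N, ψ ⟨n, hNI n.2⟩ = φ n)
    {lam mu : G → ℂ} (hl : IsCharacter G lam) (hm : IsCharacter G mu) (hl1 : lam 1 = 1)
    (hm1 : mu 1 = 1) (hlN : ∀ n ∈ N, lam n = 1) (hmN : ∀ n ∈ N, mu n = 1)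
    (h : (fun g => lam g * indFun I ψ g) = fun g => mu g * indFun I ψ g) (x : I) :
    lam x = mu x := by
  classical
  have key : ∀ {lam : G → ℂ}, IsCharacter G lam → lam 1 = 1 → (∀ n ∈ N, lam n = 1) →
      IsIrrCharacter I (fun x : I => ψ x * lam x) ∧
      classInner (fun n : N => (fun x : I => ψ x * lam x) ⟨n, hNI n.2⟩) φ ≠ 0 ∧
      indFun I (fun x : I => ψ x * lam x) = fun g => lam g * indFun I ψ g := by
    intro lam hl hl1 hlN
    obtain ⟨l, rfl⟩ := hl.exists_linear hl1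
    refine ⟨hψ.mul_linear (l.comp I.subtype), ?_, ?_⟩
    · simp only [hext, hlN _ (Subtype.prop _), mul_one]
      rw [hφ.inner_self]; exact one_ne_zero
    · rw [indFun_mul_restrict I ψ hl.isClassFunction]
      exact funext fun g => mul_comm _ _
  obtain ⟨a1, a2, a3⟩ := key hl hl1 hlN
  obtain ⟨b1, b2, b3⟩ := key hm hm1 hmN
  have h1 := clifford_corr_injective hNI a1 b1 hφ hI a2 b2 (by rw [a3, b3, h])
  have h2 : IsIrrCharacter (N.subgroupOf I) (fun n : N.subgroupOf I => ψ n) := by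
    convert isIrr_subgroupOf hNI hφ using 2 with n
    exact hext ⟨_, n.2⟩
  have h3 := gallagher_inj (N := N.subgroupOf I) hψ.isCharacter h2
    ((hl.restrict I).isIrr_of_one hl1) (fun n => (hlN _ n.2).trans hl1.symm)
    ((hm.restrict I).isIrr_of_one hm1) (fun n => (hmN _ n.2).trans hm1.symm)
    (by rw [mul_comm, mul_comm _ ψ]; exact h1)
  exact congrFun h3 x

theorem card_le_index_mul_card_of_twist (hφ : IsIrrCharacter N φ) (hI : inertia N φ ≤ I)
    (hNI : N ≤ I) (hψ : IsIrrCharacter I ψ) (hext : ∀ n : N, ψ ⟨n, hNI n.2⟩ = φ n)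
    (P Q : IrrCharacter G → Prop) (hP1 : ∀ lam, P lam → (lam : G → ℂ) 1 = 1)
    (hPN : ∀ lam, P lam → ∀ n ∈ N, (lam : G → ℂ) n = 1)
    (hPQ : ∀ lam χ : IrrCharacter G, P lam →
      (χ : G → ℂ) = (fun g => (lam : G → ℂ) g * indFun I ψ g) → Q χ) :
    Nat.card {χ // P χ} ≤ I.index * Nat.card {χ // Q χ} := by
  classical
  have hirr : ∀ lam : {χ // P χ},
      IsIrrCharacter G (fun g => (lam.1 : G → ℂ) g * indFun I ψ g) := by
    intro lam
    obtain ⟨l, hl⟩ := lam.1.2.isCharacter.exists_linear (hP1 _ lam.2)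
    simpa only [hl, mul_comm] using (isIrr_indFun_of_extends hφ hI hNI hψ hext).mul_linear l
  let F : {χ // P χ} → {χ // Q χ} := fun lam => ⟨⟨_, hirr lam⟩, hPQ lam.1 _ lam.2 rfl⟩
  rw [Nat.card_eq_fintype_card, Nat.card_eq_fintype_card]
  refine Finset.card_le_mul_card_image_of_maps_to (f := F) (fun _ _ => Finset.mem_univ _) _
    fun b _ => ?_
  rcases (Finset.univ.filter fun a => F a = b).eq_empty_or_nonempty with h | ⟨mu, hmu⟩
  · rw [h]; exact Nat.zero_le _
  refine le_trans ?_ (card_extensions_le_index I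
    ((mu.1.2.isCharacter.restrict I).isIrr_of_one (hP1 _ mu.2)))
  rw [Nat.card_eq_fintype_card, Fintype.card_subtype]
  refine Finset.card_le_card_of_injOn (fun a => a.1) (fun a ha => ?_)
    (fun a _ a' _ e => Subtype.ext e)
  simp only [Finset.coe_filter, Finset.mem_univ, true_and, Set.mem_ofPred_eq,
    Finset.mem_filter] at ha hmu ⊢
  exact restrict_eq_of_mul_indFun_eq hφ hI hNI hψ hext a.1.2.isCharacter mu.1.2.isCharacter
    (hP1 _ a.2) (hP1 _ mu.2) (hPN _ a.2) (hPN _ mu.2)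
    (congrArg (fun c : {χ // Q χ} => (c.1 : G → ℂ)) (ha.trans hmu.symm))

omit hN in
/-- A real linear character takes the value `1` on squares. -/
theorem apply_mul_self_eq_one_of_real {lam : G → ℂ} (hl : IsCharacter G lam) (h1 : lam 1 = 1)
    (hr : ∀ g, (lam g).im = 0) (g : G) : lam (g * g) = 1 := by
  have h2 := hl.map_inv g
  rw [Complex.conj_eq_iff_im.mpr (hr g)] at h2
  obtain ⟨l, rfl⟩ := hl.exists_linear h1
  simp only at h2 ⊢
  rw [map_mul, Units.val_mul]
  nth_rewrite 1 [← h2]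
  rw [← Units.val_mul, ← map_mul, inv_mul_cancel, map_one, Units.val_one]

end Cfsg.Agent.Char
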