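import Mathlib
import Cfsg.Agent.Char.Zeros
import Cfsg.Agent.Char.Restrict
import Cfsg.Agent.Char.ExtraspecialChar

/-!
# Degree bounds from an abelian subgroup whose centralizers form a TI set
-/

set_option autoImplicit false

namespace Cfsg.Agent.Char

open Cfsg Cfsg.Agent.Char Subgroup
open scoped ComplexConjugate

variable {G : Type*} [Group G] [Fintype G]

/-- Counting over the conjugates of a TI set. -/
theorem card_mul_sum_le_of_TI (N : Subgroup G) (X Y : Finset G)
    (hTI : ∀ g, ∀ x ∈ X, g * x * g⁻¹ ∈ X → g ∈ N) (hY : ∀ g, ∀ x ∈ X, g * x * g⁻¹ ∈ Y)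
    (f : G → ℝ) (hf0 : ∀ g, 0 ≤ f g) (hf : ∀ g x, f (g * x * g⁻¹) = f x) :
    (Nat.card G : ℝ) * ∑ x ∈ X, f x ≤ Nat.card N * ∑ y ∈ Y, f y := by
  classical
  have h1 : ∀ g : G, ∑ x ∈ X, f x = ∑ y ∈ Y, if g⁻¹ * y * g ∈ X then f y else 0 := fun g => by
    rw [← Finset.sum_filter]
    refine Finset.sum_bij (fun x _ => g * x * g⁻¹) (fun x hx => ?_) (fun a _ b _ h => ?_)
      (fun y hy => ?_) fun x _ => (hf g x).symm
    · refine Finset.mem_filter.2 ⟨hY g x hx, ?_⟩
      rwa [show g⁻¹ * (g * x * g⁻¹) * g = x by group]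
    · simpa using h
    · exact ⟨_, (Finset.mem_filter.1 hy).2, by group⟩
  calc (Nat.card G : ℝ) * ∑ x ∈ X, f x = ∑ g : G, ∑ x ∈ X, f x := by
        rw [Finset.sum_const, Finset.card_univ, nsmul_eq_mul, Nat.card_eq_fintype_card]
    _ = ∑ y ∈ Y, ∑ g : G, if g⁻¹ * y * g ∈ X then f y else 0 := by
        rw [Finset.sum_comm (s := Y)]
        exact Finset.sum_congr rfl fun g _ => h1 g
    _ ≤ _ := by
        rw [Finset.mul_sum]
        refine Finset.sum_le_sum fun y _ => ?_
        rw [← Finset.sum_filter, Finset.sum_const, nsmul_eq_mul]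
        refine mul_le_mul_of_nonneg_right (Nat.cast_le.2 ?_) (hf0 y)
        rcases (Finset.univ.filter fun g : G => g⁻¹ * y * g ∈ X).eq_empty_or_nonempty with h | h
        · simp [h]
        obtain ⟨a, ha⟩ := h
        rw [← Nat.card_eq_finsetCard]
        refine Nat.card_le_card_of_injective (fun g => ⟨g.1⁻¹ * a, hTI _ _
          (Finset.mem_filter.1 ha).2 ?_⟩) fun g g' h => Subtype.ext (by simpa using h)
        convert (Finset.mem_filter.1 g.2).2 using 1
        group

/-- Averaging a character over the cosets of a normal subgroup outside its kernel lowers the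
norm by at least one. -/
theorem sum_norm_sq_cosetAvg_add_le {ψ : G → ℂ} (hψ : IsCharacter G ψ) (K : Subgroup G)
    [K.Normal] [Fintype K] {k : G} (hk : k ∈ K) (hk1 : ψ k ≠ ψ 1) :
    ∑ x : G, ‖(Nat.card K : ℂ)⁻¹ * ∑ n : K, ψ (x * n)‖ ^ 2 + Nat.card G ≤ ∑ x : G, ‖ψ x‖ ^ 2 := by
  have hα := hψ.cosetAvg K
  set α : G → ℂ := fun x => (Nat.card K : ℂ)⁻¹ * ∑ n : K, ψ (x * n) with hαdef
  have hK := card_ne_zero K
  have h1 : ∀ (x : G) (n : K), α (x * n) = α x := fun x n => by
    simp only [hαdef, mul_assoc]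
    congr 1
    exact Equiv.sum_comp (Equiv.mulLeft n) fun m : K => ψ (x * m)
  have h2 : classInner ψ α = classInner α α := by
    rw [classInner_def, classInner_def]
    congr 1
    have h3 : ∀ n : K, ∑ x, ψ (x * n) * conj (α x) = ∑ x, ψ x * conj (α x) := fun n => by
      rw [← Equiv.sum_comp (Equiv.mulRight (n : G)) fun x => ψ x * conj (α x)]
      simp only [Equiv.coe_mulRight, h1]
    have h4 : ∀ x, α x * conj (α x) = (Nat.card K : ℂ)⁻¹ * ∑ n : K, ψ (x * n) * conj (α x) :=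
      fun x => by rw [← Finset.sum_mul, ← mul_assoc]
    simp only [h4]
    rw [← Finset.mul_sum, Finset.sum_comm]
    simp only [h3]
    rw [Finset.sum_const, Finset.card_univ, nsmul_eq_mul, ← Nat.card_eq_fintype_card,
      inv_mul_cancel_left₀ hK]
  obtain ⟨a, ha⟩ := hα.exists_nat_inner hα
  obtain ⟨b, hb⟩ := hψ.exists_nat_inner hψ
  have h5 : classInner (ψ - α) (ψ - α) = ((b - a : ℝ) : ℂ) := by
    rw [classInner_sub_left, classInner_sub_right, classInner_sub_right, hα.inner_symm hψ, h2, ha,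
      hb]
    push_cast
    ring
  have h6 : a < b := by
    have h7 := classInner_self_re_nonneg (ψ - α)
    rw [h5, Complex.ofReal_re, sub_nonneg, Nat.cast_le] at h7
    refine lt_of_le_of_ne h7 fun h8 => hk1 ?_
    rw [h8, sub_self, Complex.ofReal_zero, classInner_self_eq_zero, sub_eq_zero] at h5
    rw [h5, ← h1 1 ⟨k, hk⟩, one_mul]
  have h7 := card_mul_classInner_self α
  have h8 := card_mul_classInner_self ψ
  rw [ha, ← Complex.ofReal_natCast, ← Complex.ofReal_natCast, ← Complex.ofReal_mul,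
    Complex.ofReal_inj] at h7
  rw [hb, ← Complex.ofReal_natCast, ← Complex.ofReal_natCast, ← Complex.ofReal_mul,
    Complex.ofReal_inj] at h8
  change ∑ x : G, ‖α x‖ ^ 2 + _ ≤ _
  rw [← h7, ← h8]
  have h9 : (a : ℝ) + 1 ≤ b := by exact_mod_cast h6
  nlinarith [Nat.cast_nonneg (α := ℝ) (Nat.card G)]

theorem leonard_bound (H : Subgroup G) [Fintype H] (hab : ∀ a ∈ H, ∀ b ∈ H, a * b = b * a)
    (hZ : H ⊓ center G = ⊥)
    (hone : ∀ g x : G, x ∉ center G → (∃ h ∈ H, h ≠ 1 ∧ h * x = x * h) →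
      (∃ h ∈ H, h ≠ 1 ∧ h * (g * x * g⁻¹) = g * x * g⁻¹ * h) → g ∈ normalizer (H : Set G))
    {χ : G → ℂ} (hχ : IsIrrCharacter G χ) {k : G} (hk : k ∈ H) (hk1 : χ k ≠ χ 1) :
    (Nat.card H : ℝ) * ‖classInner (fun h : H => χ h) (fun _ => 1)‖ ^ 2 < ‖χ 1‖ ^ 2 := by
  classical
  set N := normalizer (H : Set G) with hN
  have hHN : H ≤ N := le_normalizer
  have hk0 : k ≠ 1 := fun h => hk1 (by rw [h])
  set α : G → ℂ := fun x => (Nat.card H : ℂ)⁻¹ * ∑ n : H, χ (x * n) with hα
  set Y : Finset G := Finset.univ.filter fun x => ∃ h ∈ H, h ≠ 1 ∧ h * x = x * h with hY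
  set NF : Finset G := Finset.univ.filter (· ∈ N) with hNF
  have hYN : Y ⊆ NF := fun x hx => by
    refine Finset.mem_filter.2 ⟨Finset.mem_univ _, ?_⟩
    by_cases hxZ : x ∈ center G
    · exact center_le_normalizer _ hxZ
    · refine hone x x hxZ (Finset.mem_filter.1 hx).2 ?_
      rw [mul_inv_cancel_right]
      exact (Finset.mem_filter.1 hx).2
  have h1 : ∑ x ∈ NF, ‖α x‖ ^ 2 + Nat.card N ≤ ∑ x ∈ NF, ‖χ x‖ ^ 2 := by
    have : (H.subgroupOf N).Normal := normal_in_normalizer
    have h := sum_norm_sq_cosetAvg_add_le (hχ.isCharacter.restrict N) (H.subgroupOf N)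
      (k := ⟨k, hHN hk⟩) hk hk1
    rw [Finset.sum_subtype NF (p := (· ∈ N)) (by simp [hNF]),
      Finset.sum_subtype NF (p := (· ∈ N)) (by simp [hNF])]
    convert h using 5 with x
    rw [Nat.card_congr (subgroupOfEquivOfLe hHN).toEquiv,
      ← Equiv.sum_comp (subgroupOfEquivOfLe hHN).symm.toEquiv]
    rfl
  have h2 : ∀ x ∈ NF \ Y, α x = χ x := fun x hx => by
    obtain ⟨hx1, hx2⟩ := Finset.mem_sdiff.1 hx
    have hxN : x ∈ N := (Finset.mem_filter.1 hx1).2
    have h3 : ∀ h ∈ H, x⁻¹ * h * x ∈ H := fun h hh => by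
      simpa using (mem_normalizer_iff.1 (N.inv_mem hxN) h).1 hh
    let c : H → H := fun h => ⟨x⁻¹ * h * x * (h : G)⁻¹, H.mul_mem (h3 h h.2) (H.inv_mem h.2)⟩
    have hc : Function.Injective c := fun a b e => by
      have e' : x⁻¹ * a * x * (a : G)⁻¹ = x⁻¹ * b * x * (b : G)⁻¹ := congrArg Subtype.val e
      by_contra hne
      refine hx2 (Finset.mem_filter.2 ⟨Finset.mem_univ _, (b : G)⁻¹ * a,
        H.mul_mem (H.inv_mem b.2) a.2, fun h => hne (Subtype.ext (inv_mul_eq_one.1 h).symm), ?_⟩)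
      calc (b : G)⁻¹ * a * x = (b : G)⁻¹ * x * (x⁻¹ * a * x * (a : G)⁻¹) * a := by group
        _ = _ := by rw [e']; group
    simp only [hα]
    rw [← (Finite.injective_iff_bijective.1 hc).sum_comp fun n : H => χ (x * n)]
    have h4 : ∀ h : H, χ (x * c h) = χ x := fun h => by
      rw [← hχ.isClassFunction x h]
      congr 1
      simp only [c]
      group
    simp only [h4]
    rw [Finset.sum_const, Finset.card_univ, nsmul_eq_mul, ← Nat.card_eq_fintype_card,
      inv_mul_cancel_left₀ (card_ne_zero H)]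
  have h3 : ∑ x ∈ Y, ‖α x‖ ^ 2 + Nat.card N ≤ ∑ x ∈ Y, ‖χ x‖ ^ 2 := by
    rw [← Finset.sum_sdiff hYN, ← Finset.sum_sdiff hYN,
      Finset.sum_congr rfl fun x hx => congrArg (fun z : ℂ => ‖z‖ ^ 2) (h2 x hx)] at h1
    linarith
  have := Fintype.ofFinite (center G)
  have h4 : (Nat.card (center G) : ℝ) * (Nat.card H *
      ‖classInner (fun h : H => χ h) (fun _ => 1)‖ ^ 2) ≤ ∑ x ∈ Y, ‖α x‖ ^ 2 := by
    let m : center G × H → G := fun p => p.1 * p.2
    have hm : Function.Injective m := fun a b e => by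
      have e1 : (b.1 : G)⁻¹ * a.1 = b.2 * (a.2 : G)⁻¹ := by
        have e' : (a.1 : G) * a.2 = b.1 * b.2 := e
        calc (b.1 : G)⁻¹ * a.1 = (b.1 : G)⁻¹ * (a.1 * a.2) * (a.2 : G)⁻¹ := by group
          _ = _ := by rw [e']; group
      have e2 : (b.1 : G)⁻¹ * a.1 ∈ H ⊓ center G :=
        ⟨e1 ▸ H.mul_mem b.2.2 (H.inv_mem a.2.2), (center G).mul_mem ((center G).inv_mem b.1.2) a.1.2⟩
      rw [hZ, mem_bot] at e2
      refine Prod.ext (Subtype.ext (inv_mul_eq_one.1 e2).symm) (Subtype.ext ?_)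
      rw [e2] at e1
      exact (mul_inv_eq_one.1 e1.symm).symm
    have h5 : ∀ p, ‖α (m p)‖ = ‖classInner (fun h : H => χ h) (fun _ => 1)‖ := fun p => by
      have h6 : χ 1 * α (m p) = χ p.1 * classInner (fun h : H => χ h) (fun _ => 1) := by
        rw [classInner_one_right, mul_left_comm, mul_left_comm (χ p.1)]
        congr 1
        rw [Finset.mul_sum, Finset.mul_sum,
          ← Equiv.sum_comp (Equiv.mulLeft p.2) fun n : H => χ p.1 * χ n]
        simp only [m, mul_assoc, irr_one_mul_apply_central_mul hχ p.1.2, Equiv.coe_mulLeft,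
          coe_mul]
      have h7 := congrArg norm h6
      rw [norm_mul, norm_mul (χ p.1), norm_eq_of_mem_center hχ p.1.2] at h7
      exact mul_left_cancel₀ (norm_ne_zero_iff.2 hχ.one_ne_zero) h7
    calc _ = ∑ p, ‖α (m p)‖ ^ 2 := by
          simp only [h5]
          rw [Finset.sum_const, Finset.card_univ, nsmul_eq_mul, Fintype.card_prod,
            ← Nat.card_eq_fintype_card, ← Nat.card_eq_fintype_card, Nat.cast_mul, mul_assoc]
      _ = ∑ x ∈ Finset.univ.image m, ‖α x‖ ^ 2 :=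
          (Finset.sum_image (f := fun x => ‖α x‖ ^ 2) hm.injOn).symm
      _ ≤ _ := by
          refine Finset.sum_le_sum_of_subset_of_nonneg (fun x hx => ?_) fun _ _ _ => sq_nonneg _
          obtain ⟨p, -, rfl⟩ := Finset.mem_image.1 hx
          refine Finset.mem_filter.2 ⟨Finset.mem_univ _, k, hk, hk0, ?_⟩
          simp only [m]
          rw [← mul_assoc, mem_center_iff.1 p.1.2 k, mul_assoc, mul_assoc, hab k hk _ p.2.2]
  have h5 : ∑ x ∈ Y.filter (· ∈ center G), ‖χ x‖ ^ 2 ≤ Nat.card (center G) * ‖χ 1‖ ^ 2 := by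
    rw [Finset.sum_congr rfl fun x hx => congrArg (· ^ 2)
      (norm_eq_of_mem_center hχ (Finset.mem_filter.1 hx).2), Finset.sum_const, nsmul_eq_mul]
    refine mul_le_mul_of_nonneg_right (Nat.cast_le.2 ?_) (sq_nonneg _)
    rw [← Nat.card_eq_finsetCard]
    exact Nat.card_le_card_of_injective (fun x => ⟨x.1, (Finset.mem_filter.1 x.2).2⟩)
      fun a b h => Subtype.ext (congrArg (fun z : center G => (z : G)) h)
  have h6 : ∑ x ∈ Y.filter (· ∉ center G), ‖χ x‖ ^ 2 < Nat.card N := by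
    have h7 := card_mul_sum_le_of_TI N (Y.filter (· ∉ center G)) (Finset.univ.erase 1)
      (fun g x hx hx' => hone g x (Finset.mem_filter.1 hx).2
        (Finset.mem_filter.1 (Finset.mem_filter.1 hx).1).2
        (Finset.mem_filter.1 (Finset.mem_filter.1 hx').1).2)
      (fun g x hx => Finset.mem_erase.2 ⟨fun h => (Finset.mem_filter.1 hx).2 (by
        rw [show x = 1 by simpa using h]; exact one_mem _), Finset.mem_univ _⟩)
      (fun x => ‖χ x‖ ^ 2) (fun _ => sq_nonneg _) fun g x => by rw [hχ.isClassFunction]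
    have h8 := card_mul_classInner_self χ
    rw [hχ.inner_self, mul_one, ← Complex.ofReal_natCast, Complex.ofReal_inj,
      ← Finset.add_sum_erase _ _ (Finset.mem_univ 1)] at h8
    have h9 : 0 < ‖χ 1‖ ^ 2 := pow_pos (norm_pos_iff.2 hχ.one_ne_zero) 2
    have h10 : (0 : ℝ) < Nat.card N := Nat.cast_pos.2 Nat.card_pos
    have h11 : (0 : ℝ) < Nat.card G := Nat.cast_pos.2 Nat.card_pos
    refine lt_of_mul_lt_mul_left (h7.trans_lt ?_) h11.le
    rw [mul_comm (Nat.card G : ℝ)]
    exact mul_lt_mul_of_pos_left (by linarith) h10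
  rw [← Finset.sum_filter_add_sum_filter_not Y (· ∈ center G) fun x => ‖χ x‖ ^ 2] at h3
  have h7 : (0 : ℝ) < Nat.card (center G) := Nat.cast_pos.2 Nat.card_pos
  exact lt_of_mul_lt_mul_left (by linarith) h7.le

/-- On an abelian group, the norm of a character is at least its degree. -/
theorem one_re_le_inner_self_of_comm (hab : ∀ a b : G, a * b = b * a) {ψ : G → ℂ}
    (hψ : IsCharacter G ψ) : (ψ 1).re ≤ (classInner ψ ψ).re := by
  choose a ha using fun φ : IrrCharacter G => hψ.exists_nat_inner φ.2.isCharacter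
  have h1 : ψ 1 = ((∑ φ, a φ : ℕ) : ℂ) := by
    rw [hψ.isClassFunction.apply_eq_sum_irr, Nat.cast_sum]
    exact Finset.sum_congr rfl fun φ _ => by rw [ha, φ.2.one_eq_one_of_comm hab, mul_one]
  have h2 : classInner ψ ψ = ((∑ φ, a φ * a φ : ℕ) : ℂ) := by
    rw [hψ.isClassFunction.inner_eq_sum, Nat.cast_sum]
    exact Finset.sum_congr rfl fun φ _ => by rw [ha, map_natCast, Nat.cast_mul]
  rw [h1, h2, Complex.natCast_re, Complex.natCast_re, Nat.cast_le]
  exact Finset.sum_le_sum fun φ _ => Nat.le_mul_self _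

theorem leonard_bound' (H : Subgroup G) [Fintype H] (hab : ∀ a ∈ H, ∀ b ∈ H, a * b = b * a)
    (hZ : H ⊓ center G = ⊥)
    (hone : ∀ g x : G, x ∉ center G → (∃ h ∈ H, h ≠ 1 ∧ h * x = x * h) →
      (∃ h ∈ H, h ≠ 1 ∧ h * (g * x * g⁻¹) = g * x * g⁻¹ * h) → g ∈ normalizer (H : Set G))
    (hM : ∀ M : Subgroup G, M.Normal → H ≤ M → M = ⊤)
    {χ : G → ℂ} (hχ : IsIrrCharacter G χ) (h1 : χ 1 ≠ 1) :
    (Nat.card H : ℝ) < (1 + (χ 1).re) ^ 2 := by
  classical
  by_contra hle
  push Not at hle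
  obtain ⟨d, hd0, hd⟩ := hχ.exists_nat_one
  have hd2 : 2 ≤ d := by
    by_contra h
    exact h1 (by rw [hd, show d = 1 by omega, Nat.cast_one])
  rw [hd, Complex.natCast_re] at hle
  have hξ := hχ.isCharacter.mul hχ.isCharacter.conj
  set ξ := χ * fun g => conj (χ g) with hξdef
  choose a ha using fun φ : IrrCharacter G => hξ.exists_nat_inner φ.2.isCharacter
  choose c hc using fun φ : IrrCharacter G =>
    (φ.2.isCharacter.restrict H).exists_nat_inner isCharacter_one
  choose e he0 he using fun φ : IrrCharacter G => φ.2.exists_nat_one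
  let o : IrrCharacter G := ⟨fun _ => 1, isIrrCharacter_one⟩
  have ha1 : a o = 1 := by
    rw [← Nat.cast_inj (R := ℂ), ← ha, Nat.cast_one, ← hχ.inner_self, classInner_def,
      classInner_def]
    simp [o, hξdef]
  have hc1 : c o = 1 := by
    rw [← Nat.cast_inj (R := ℂ), ← hc, Nat.cast_one]
    exact isIrrCharacter_one.inner_self
  have he1 : e o = 1 := by
    rw [← Nat.cast_inj (R := ℂ), ← he, Nat.cast_one]
  have h2 : d * d = ∑ φ, a φ * e φ := by
    have := hξ.isClassFunction.apply_eq_sum_irr 1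
    simp only [ha, he] at this
    simp only [hξdef, Pi.mul_apply, hd, map_natCast] at this
    exact_mod_cast this
  have h3 : d ≤ ∑ φ, a φ * c φ := by
    have h4 := one_re_le_inner_self_of_comm (fun a b : H => Subtype.ext (hab a a.2 b b.2))
      (hχ.isCharacter.restrict H)
    have h5 : classInner (fun h : H => χ h) (fun h : H => χ h) = ((∑ φ, a φ * c φ : ℕ) : ℂ) := by
      have h6 : classInner (fun h : H => χ h) (fun h : H => χ h) =
          classInner (fun h : H => ξ h) (fun _ => 1) := by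
        rw [classInner_def, classInner_def]
        simp [hξdef]
      have h7 : (fun h : H => ξ h) = ∑ φ : IrrCharacter G, (a φ : ℂ) • fun h : H => φ.1 h := by
        ext h
        rw [hξ.isClassFunction.apply_eq_sum_irr]
        simp [ha]
      rw [h6, h7, classInner_sum_left]
      simp only [classInner_smul_left, hc]
      push_cast
      rfl
    rw [h5, Complex.natCast_re, OneMemClass.coe_one, hd, Complex.natCast_re] at h4
    exact_mod_cast h4
  have h4 : ∀ φ, φ ≠ o → (1 + d) * c φ < e φ := fun φ hφ => by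
    have h5 : ∃ k ∈ H, φ.1 k ≠ φ.1 1 := by
      by_contra h
      push Not at h
      have h6 := hM _ (charKer_irr_normal φ) fun k hk => (mem_charKer_irr φ).2 (h k hk)
      have h7 : ∀ g, φ.1 g = φ.1 1 := fun g => (mem_charKer_irr φ).1 (h6 ▸ mem_top g)
      have h8 := φ.2.sum_eq_zero fun h9 => hφ (Subtype.ext h9)
      simp only [h7, Finset.sum_const, nsmul_eq_mul, mul_eq_zero, Nat.cast_eq_zero,
        Finset.card_univ, Fintype.card_ne_zero, false_or] at h8
      exact φ.2.one_ne_zero h8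
    obtain ⟨k, hk, hk1⟩ := h5
    have h6 := leonard_bound H hab hZ hone φ.2 hk hk1
    rw [hc, he, Complex.norm_natCast, Complex.norm_natCast] at h6
    have h7 : (((1 + d) * c φ : ℕ) : ℝ) ^ 2 < (e φ : ℝ) ^ 2 := by
      push_cast
      rw [mul_pow]
      exact (mul_le_mul_of_nonneg_right hle (sq_nonneg _)).trans_lt h6
    exact_mod_cast lt_of_pow_lt_pow_left₀ 2 (Nat.cast_nonneg _) h7
  rw [← Finset.add_sum_erase _ _ (Finset.mem_univ o), ha1] at h2 h3
  rw [he1] at h2
  rw [hc1] at h3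
  have h5 : (1 + d) * ∑ φ ∈ Finset.univ.erase o, a φ * c φ <
      ∑ φ ∈ Finset.univ.erase o, a φ * e φ := by
    rw [Finset.mul_sum]
    refine Finset.sum_lt_sum (fun φ hφ => ?_) ?_
    · rw [mul_left_comm]
      exact Nat.mul_le_mul_left _ (h4 φ (Finset.mem_erase.1 hφ).1).le
    · obtain ⟨φ, hφ, h0⟩ := Finset.exists_ne_zero_of_sum_ne_zero
        (show ∑ φ ∈ Finset.univ.erase o, a φ * c φ ≠ 0 by omega)
      refine ⟨φ, hφ, ?_⟩
      rw [mul_left_comm]
      exact Nat.mul_lt_mul_of_pos_left (h4 φ (Finset.mem_erase.1 hφ).1)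
        (Nat.pos_of_ne_zero (left_ne_zero_of_mul h0))
  nlinarith

end Cfsg.Agent.Char
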