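import Mathlib
import Cfsg.Agent.Char.FS
import Cfsg.Agent.Char.Det
import Cfsg.Agent.Char.Quot
import Cfsg.Agent.Char.Inflate
import Cfsg.Agent.Char.Prod
import Cfsg.Agent.Char.Codeg
import Cfsg.Agent.Char.Degrees

/-!
Groups with an element `u ≠ 1` such that every non-principal irreducible character has
`χ 1 - χ u = 4` or `χ u = 0`: the character-theoretic part.
-/

set_option autoImplicit false
set_option linter.style.haveILetI false
set_option linter.unusedSectionVars false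

namespace Cfsg.Agent.Char.Four

open Subgroup Cfsg.Agent.Char
open scoped ComplexConjugate

variable {G : Type*} [Group G] [Fintype G]

/-- Eigenvalues with product one, in a perfect group. -/
theorem eig (hG : _root_.commutator G = ⊤) {χ : G → ℂ} (hχ : IsCharacter G χ) (g : G) :
    ∃ (n : ℕ) (ε : Fin n → ℂ), χ 1 = n ∧ (∀ i, ε i ^ orderOf g = 1) ∧
      (∀ k : ℕ, χ (g ^ k) = ∑ i, ε i ^ k) ∧ ∏ i, ε i = 1 := by
  obtain ⟨n, ρ, rfl⟩ := hχ
  obtain ⟨b, ε, h1, h2, h3⟩ := exists_eigenvalues ρ g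
  refine ⟨_, ε, ρ.char_one, h1, h3, ?_⟩
  have h4 : LinearMap.toMatrix b b (ρ g) = Matrix.diagonal ε := by
    ext i j
    rw [LinearMap.toMatrix_apply, h2, map_smul, Module.Basis.repr_self, Matrix.diagonal_apply]
    by_cases hij : i = j
    · simp [hij]
    · simp [hij]
  have h5 : repDet ρ g = 1 := by
    have : _root_.commutator G ≤ (repDet ρ).ker := Abelianization.commutator_subset_ker _
    exact this (hG ▸ mem_top g)
  rw [← Matrix.det_diagonal, ← h4, LinearMap.det_toMatrix, ← repDet_apply, h5, Units.val_one]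

theorem four_dvd (hG : _root_.commutator G = ⊤) {χ : G → ℂ} (hχ : IsCharacter G χ) {u : G}
    (hu : u * u = 1) : ∃ k : ℕ, χ 1 - χ u = 4 * k := by
  classical
  obtain ⟨n, ε, h1, h2, h3, h4⟩ := eig hG hχ u
  have h5 : ∀ i, ε i = 1 ∨ ε i = -1 := fun i => by
    obtain ⟨c, hc⟩ : orderOf u ∣ 2 := orderOf_dvd_of_pow_eq_one (by rw [pow_two, hu])
    have : ε i ^ 2 = 1 := by rw [hc, pow_mul, h2, one_pow]
    exact mul_self_eq_one_iff.1 (by rw [← pow_two, this])
  set s := Finset.univ.filter fun i => ε i = -1 with hs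
  have h6 : ∀ i, ε i = if ε i = -1 then -1 else 1 := fun i => by
    rcases h5 i with h | h
    · rw [if_neg (by rw [h]; norm_num), h]
    · rw [if_pos h, h]
  have h7 : (-1 : ℂ) ^ s.card = 1 := by
    rw [Finset.prod_congr rfl fun i _ => h6 i, Finset.prod_ite] at h4
    simpa [hs] using h4
  obtain ⟨k, hk⟩ : Even s.card := (neg_one_pow_eq_one_iff_even (by norm_num)).1 h7
  refine ⟨k, ?_⟩
  have h8 : χ u = ∑ i, ε i := by simpa using h3 1
  have h9 : (n : ℂ) - ∑ i, ε i = ∑ i, (1 - ε i) := by simp [Finset.sum_sub_distrib]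
  rw [h1, h8, h9]
  have h10 : ∀ i, 1 - ε i = if ε i = -1 then 2 else 0 := fun i => by
    rcases h5 i with h | h
    · rw [if_neg (by rw [h]; norm_num), h, sub_self]
    · rw [if_pos h, h]; norm_num
  rw [Finset.sum_congr rfl fun i _ => h10 i, Finset.sum_ite]
  simp only [Finset.sum_const, smul_zero, add_zero, nsmul_eq_mul, ← hs, hk]
  push_cast
  ring

/-- Power sums for a three-dimensional character of a perfect group. -/
theorem rec3 (hG : _root_.commutator G = ⊤) {χ : G → ℂ} (hχ : IsCharacter G χ) (h3 : χ 1 = 3)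
    (g : G) : χ (g * g) = χ g ^ 2 - 2 * conj (χ g) ∧ ∀ k : ℕ,
      χ (g ^ (k + 3)) = χ g * χ (g ^ (k + 2)) - conj (χ g) * χ (g ^ (k + 1)) + χ (g ^ k) := by
  obtain ⟨n, ε, h1, h2, h4, h5⟩ := eig hG hχ g
  obtain rfl : n = 3 := by exact_mod_cast h1.symm.trans h3
  have h6 : ∀ i, conj (ε i) = (ε i)⁻¹ := fun i =>
    conj_eq_inv_of_pow_eq_one (orderOf_pos g).ne' (h2 i)
  have h8 : χ g = ε 0 + ε 1 + ε 2 := by simpa [Fin.sum_univ_three] using h4 1
  rw [Fin.prod_univ_three] at h5
  have i0 : (ε 0)⁻¹ = ε 1 * ε 2 := inv_eq_of_mul_eq_one_right (by linear_combination h5)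
  have i1 : (ε 1)⁻¹ = ε 0 * ε 2 := inv_eq_of_mul_eq_one_right (by linear_combination h5)
  have i2 : (ε 2)⁻¹ = ε 0 * ε 1 := inv_eq_of_mul_eq_one_right (by linear_combination h5)
  have h9 : conj (χ g) = ε 1 * ε 2 + ε 0 * ε 2 + ε 0 * ε 1 := by
    rw [h8, map_add, map_add, h6, h6, h6, i0, i1, i2]
  refine ⟨?_, fun k => ?_⟩
  · rw [← pow_two, h4, h9, h8, Fin.sum_univ_three]; ring
  · rw [h4, h4, h4, h4, h9, h8]
    simp only [Fin.sum_univ_three]
    linear_combination (ε 0 ^ k + ε 1 ^ k + ε 2 ^ k) * h5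

/-- The hypothesis. -/
structure Hyp (u : G) : Prop where
  ne : u ≠ 1
  alt : ∀ χ, IsIrrCharacter G χ → χ ≠ (fun _ => 1) → χ 1 - χ u = 4 ∨ χ u = 0

namespace Hyp

variable {u : G} (H : Hyp u)
include H

theorem perfect : _root_.commutator G = ⊤ := by
  by_contra h
  obtain ⟨lam, hl⟩ := Codeg.exists_hom_ne_one h
  have h1 := (H.alt _ (isIrrCharacter_hom lam) fun e => hl (hom_coe_inj (by simpa using e))).resolve_right
    (Units.ne_zero _)
  have h2 := (isCharacter_hom lam).norm_le u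
  simp only [map_one, Units.val_one, Complex.one_re] at h1 h2
  have h3 : (lam u : ℂ) = -3 := by linear_combination -h1
  rw [h3] at h2
  norm_num at h2

theorem map {Q : Type*} [Group Q] [Fintype Q] (f : G →* Q) (hf : Function.Surjective f)
    (h1 : f u ≠ 1) : Hyp (f u) :=
  ⟨h1, fun χ hχ hne => by
    have := H.alt _ (hχ.comp_surjective f hf) fun e => hne (funext fun q => by
      obtain ⟨g, rfl⟩ := hf q
      exact congrFun e g)
    simpa using this⟩

theorem eq_top {N : Subgroup G} [N.Normal] (hN : u ∈ N) : N = ⊤ := by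
  classical
  by_contra h
  have : Nontrivial (G ⧸ N) := QuotientGroup.nontrivial_iff.2 h
  obtain ⟨q, hq⟩ := exists_ne (1 : G ⧸ N)
  obtain ⟨ψ, hψ⟩ : ∃ ψ : IrrCharacter (G ⧸ N), (ψ : G ⧸ N → ℂ) q ≠ (ψ : G ⧸ N → ℂ) 1 := by
    by_contra h'
    push Not at h'
    exact hq (eq_one_of_forall_irr h')
  have hs := QuotientGroup.mk'_surjective N
  have h1 : QuotientGroup.mk' N u = 1 := (QuotientGroup.eq_one_iff u).2 hN
  have := H.alt _ (ψ.2.comp_surjective _ hs) fun e => hψ (by
    obtain ⟨g, rfl⟩ := hs q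
    have h2 := congrFun e g
    have h3 := congrFun e 1
    simp only [map_one] at h2 h3
    rw [h2, h3])
  simp only [map_one, h1, sub_self] at this
  rcases this with h2 | h2
  · norm_num at h2
  · exact ψ.2.one_ne_zero h2

theorem three_le {χ : G → ℂ} (hχ : IsIrrCharacter G χ) (h4 : χ 1 - χ u = 4) :
    ∃ d : ℕ, 3 ≤ d ∧ χ 1 = d := by
  obtain ⟨d, hd0, hd⟩ := hχ.exists_nat_one
  refine ⟨d, ?_, hd⟩
  have hu : χ u = d - 4 := by rw [hd] at h4; linear_combination -h4
  have h2 := hχ.isCharacter.norm_le u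
  by_contra h3
  have h5 : d = 1 ∨ d = 2 := by omega
  rcases h5 with rfl | rfl
  · rw [hu, hd] at h2; norm_num at h2
  · haveI := charKer_normal hχ.isClassFunction
    have h6 : ‖χ u‖ = ‖χ 1‖ := by rw [hu, hd]; norm_num
    have h7 : (center (G ⧸ charKer χ)).comap (QuotientGroup.mk' _) = ⊤ := by
      refine H.eq_top (mem_comap.2 (mem_center_iff.2 fun q => ?_))
      obtain ⟨g, rfl⟩ := QuotientGroup.mk'_surjective _ q
      have := (QuotientGroup.eq_one_iff _).2 (commutator_mem_charKer_of_norm_eq hχ.isCharacter h6 g)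
      simp only [QuotientGroup.mk_mul, QuotientGroup.mk_inv, one_mul, mul_inv_eq_iff_eq_mul]
        at this
      exact this.symm
    have h8 : _root_.commutator G ≤ charKer χ := by
      rw [_root_.commutator_def, commutator_le]
      intro a _ b _
      have ha : a ∈ (center (G ⧸ charKer χ)).comap (QuotientGroup.mk' _) := h7 ▸ mem_top a
      have := mem_center_iff.1 (mem_comap.1 ha) (QuotientGroup.mk' _ b)
      rw [← QuotientGroup.eq_one_iff, commutatorElement_def]
      simp only [QuotientGroup.mk'_apply] at this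
      simp only [QuotientGroup.mk_mul, QuotientGroup.mk_inv, ← this]
      group
    have := one_eq_one_of_commutator_le hχ h8
    rw [hd] at this
    norm_num at this

/-- The sign of the terms in the column relation. -/
theorem term {χ : G → ℂ} (hχ : IsIrrCharacter G χ) (h3 : ¬ (χ 1 = 3 ∧ χ u = -1)) :
    0 ≤ (χ 1 * χ u).re ∧ ((χ 1 * χ u).re = 0 → χ u = 0) := by
  by_cases h1 : χ = fun _ => 1
  · simp [h1]
  rcases H.alt χ hχ h1 with h | h
  · obtain ⟨d, hd3, hd⟩ := H.three_le hχ h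
    obtain ⟨k, rfl⟩ : ∃ k, d = k + 4 := ⟨d - 4, by
      have : d ≠ 3 := by
        rintro rfl
        exact h3 ⟨by simpa using hd, by rw [hd] at h; push_cast at h; linear_combination -h⟩
      omega⟩
    have e' : χ u = k := by rw [hd] at h; push_cast at h; linear_combination -h
    rw [hd, e', ← Nat.cast_mul, Complex.natCast_re]
    refine ⟨by positivity, fun h => ?_⟩
    have : (k + 4) * k = 0 := by exact_mod_cast h
    have : k = 0 := by simpa using this
    simp [this]
  · simp [h]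

theorem exists_three : ∃ χ, IsIrrCharacter G χ ∧ χ 1 = 3 ∧ χ u = -1 := by
  classical
  by_contra h
  have h1 : ∀ χ : IrrCharacter G, 0 ≤ ((χ : G → ℂ) 1 * (χ : G → ℂ) u).re ∧
      (((χ : G → ℂ) 1 * (χ : G → ℂ) u).re = 0 → (χ : G → ℂ) u = 0) := fun χ =>
    H.term χ.2 fun e => h ⟨χ, χ.2, e⟩
  have hsum : ∑ χ : IrrCharacter G, ((χ : G → ℂ) 1 * (χ : G → ℂ) u).re = 0 := by
    rw [← Complex.re_sum, sum_irr_one_mul H.ne, Complex.zero_re]
  have := (h1 _).2 ((Finset.sum_eq_zero_iff_of_nonneg fun χ _ => (h1 χ).1).1 hsum (irrOne G)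
    (Finset.mem_univ _))
  simp [irrOne_apply] at this

/-- Passing information from a quotient containing all three-dimensional characters. -/
theorem count {Q : Type*} [Group Q] [Fintype Q] (f : G →* Q) (hf : Function.Surjective f)
    (h1 : f u ≠ 1) (h3 : ∀ χ, IsIrrCharacter G χ → χ 1 = 3 → χ u = -1 → ∀ n ∈ f.ker, χ n = χ 1) :
    Nat.card (centralizer ({u} : Set G)) = Nat.card (centralizer ({f u} : Set Q)) ∧
      ∀ g, IsConj (f g) (f u) → IsConj g u := by
  classical
  set ι : IrrCharacter Q ↪ IrrCharacter G := ⟨inflateIrr f hf, inflateIrr_injective f hf⟩ with hι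
  have split : ∀ F : IrrCharacter G → ℂ, ∑ χ, F χ =
      ∑ ψ, F (inflateIrr f hf ψ) + ∑ χ ∈ (Finset.univ.map ι)ᶜ, F χ := fun F => by
    rw [← Finset.sum_add_sum_compl (Finset.univ.map ι), Finset.sum_map]
    rfl
  have hT : ∀ χ ∈ (Finset.univ.map ι)ᶜ, 0 ≤ ((χ : G → ℂ) 1 * (χ : G → ℂ) u).re ∧
      (((χ : G → ℂ) 1 * (χ : G → ℂ) u).re = 0 → (χ : G → ℂ) u = 0) := fun χ hχ =>
    H.term χ.2 fun e => by
      obtain ⟨ψ, hψ⟩ := (mem_range_inflateIrr f hf χ).2 (h3 _ χ.2 e.1 e.2)
      exact Finset.mem_compl.1 hχ (Finset.mem_map.2 ⟨ψ, Finset.mem_univ _, hψ⟩)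
  have h0 : ∀ χ ∈ (Finset.univ.map ι)ᶜ, (χ : G → ℂ) u = 0 := by
    have := split fun χ => (χ : G → ℂ) 1 * (χ : G → ℂ) u
    simp only [inflateIrr_apply, map_one] at this
    rw [sum_irr_one_mul H.ne, sum_irr_one_mul h1, zero_add] at this
    have h2 := congrArg Complex.re this
    rw [Complex.re_sum, Complex.zero_re] at h2
    exact fun χ hχ => (hT χ hχ).2
      ((Finset.sum_eq_zero_iff_of_nonneg fun χ hχ => (hT χ hχ).1).1 h2.symm χ hχ)
  have key : ∀ g, ∑ χ : IrrCharacter G, (χ : G → ℂ) g * conj ((χ : G → ℂ) u) =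
      ∑ ψ : IrrCharacter Q, (ψ : Q → ℂ) (f g) * conj ((ψ : Q → ℂ) (f u)) := fun g => by
    rw [split, Finset.sum_eq_zero (s := _ᶜ) fun χ hχ => by rw [h0 χ hχ]; simp, add_zero]
    simp only [inflateIrr_apply]
  refine ⟨?_, fun g hg => ?_⟩
  · have := key u
    rw [sum_irr_mul_conj_of_isConj (IsConj.refl _), sum_irr_mul_conj_of_isConj (IsConj.refl _)] at this
    exact_mod_cast this
  · by_contra h
    have := key g
    rw [sum_irr_mul_conj_of_not_isConj h, sum_irr_mul_conj_of_isConj hg] at this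
    exact card_ne_zero _ this.symm

end Hyp

end Cfsg.Agent.Char.Four
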