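import Mathlib
import Cfsg.Agent.Block.CycTI
import Cfsg.Agent.Char.SelfCentTwo
import Cfsg.Agent.Char.Restrict

/-! Irreducible characters of degree below `p - 1` of a group with a Sylow subgroup of order `p`:
their values on the centralizer of the Sylow subgroup. -/

set_option autoImplicit false
set_option linter.unusedSectionVars false

namespace Cfsg.Agent.Char.SubP

open Subgroup Cfsg.Agent.Char Cfsg.Agent.Block
open scoped ComplexConjugate

section General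

variable {G : Type*} [Group G] [Finite G]

theorem exists_nat_sum {P : Type*} [Group P] [Fintype P] {φ : P → ℂ} (hφ : IsCharacter P φ) :
    ∃ a : ℕ, ∑ u, φ u = Nat.card P * a := by
  obtain ⟨a, ha⟩ := hφ.exists_nat_inner isCharacter_one
  rw [classInner_one_right] at ha
  have h0 : (Nat.card P : ℂ) ≠ 0 := Nat.cast_ne_zero.2 Nat.card_pos.ne'
  exact ⟨a, by rw [← ha, mul_inv_cancel_left₀ h0]⟩

theorem eq_one_of_sum {P : Type*} [Group P] [Fintype P] {φ : P → ℂ} (hφ : IsCharacter P φ)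
    (h : ∑ u, φ u = Nat.card P * φ 1) (u : P) : φ u = φ 1 := by
  have h0 : (Nat.card P : ℂ) ≠ 0 := Nat.cast_ne_zero.2 Nat.card_pos.ne'
  have h1 : classInner φ (fun _ => 1) = φ 1 := by
    rw [classInner_one_right, h, inv_mul_cancel_left₀ h0]
  have h2 := eq_smul_of_inner_mul_one_eq hφ isIrrCharacter_one (by rw [h1, mul_one])
  rw [h1] at h2
  simpa using congrFun h2 u

theorem twisted_sum_eq_zero {χ : G → ℂ} (hχ : IsCharacter G χ) (P : Subgroup G) [Fintype P]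
    (μ : P →* ℂˣ) (h : ∑ z : P, (μ z : ℂ) * χ z = 0) (y : G) :
    ∑ z : P, (μ z : ℂ) * χ (z * y) = 0 := by
  obtain ⟨n, ρ, rfl⟩ := hχ
  let σ : Representation ℂ P (Fin n → ℂ) := twistRep (ρ.comp P.subtype) μ
  have h1 := classInner_character_one σ
  rw [classInner_one_right] at h1
  have h2 : ∑ z : P, σ.character z = 0 := by
    rw [twistRep_character]; exact h
  rw [h2, mul_zero] at h1
  have h3 : σ.invariants = ⊥ := Submodule.finrank_eq_zero.1 (by exact_mod_cast h1.symm)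
  have h4 : ∑ z : P, σ z = 0 := by
    refine LinearMap.ext fun v => ?_
    rw [LinearMap.zero_apply, ← Submodule.mem_bot ℂ, ← h3, Representation.mem_invariants]
    intro g
    rw [LinearMap.sum_apply, map_sum]
    refine Fintype.sum_equiv (Equiv.mulLeft g) _ _ fun z => ?_
    change (σ g * σ z) v = _
    rw [← map_mul]; rfl
  have h5 : ∑ z : P, (μ z : ℂ) * ρ.character (z * y) =
      LinearMap.trace ℂ _ ((∑ z : P, σ z) * ρ y) := by
    rw [Finset.sum_mul, map_sum]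
    refine Finset.sum_congr rfl fun z _ => ?_
    change _ = LinearMap.trace ℂ _ (((μ z : ℂ) • ρ z) * ρ y)
    rw [smul_mul_assoc, map_smul, ← map_mul, smul_eq_mul]; rfl
  rw [h5, h4, zero_mul, map_zero]

theorem sum_hom_eq_zero {P : Type*} [Group P] [Fintype P] (μ : P →* ℂˣ) (h : μ ≠ 1) :
    ∑ u, (μ u : ℂ) = 0 :=
  sum_hom_units_eq_zero ((Units.coeHom ℂ).comp μ) fun h1 =>
    h (MonoidHom.ext fun u => Units.ext (DFunLike.congr_fun h1 u))

theorem norm_hom (μ : G →* ℂˣ) (g : G) : ‖(μ g : ℂ)‖ = 1 :=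
  norm_eq_one_of_pow_eq_one (orderOf_pos g).ne' (by
    rw [← Units.val_pow_eq_pow_val, ← map_pow, pow_orderOf_eq_one, map_one, Units.val_one])

end General

variable {G : Type*} [Group G] [Finite G] {p : ℕ} [hp : Fact p.Prime] {x : G}

local notation "𝐏" => zpowers x
local notation "𝐂" => centralizer ((zpowers x : Subgroup G) : Set G)
local notation "𝐍" => normalizer ((zpowers x : Subgroup G) : Set G)

theorem hom_eq_one (μ : 𝐏 →* ℂˣ) (h : μ ⟨x, mem_zpowers x⟩ = 1) : μ = 1 := by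
  ext ⟨u, k, rfl⟩
  have : (⟨x ^ k, k, rfl⟩ : 𝐏) = ⟨x, mem_zpowers x⟩ ^ k := rfl
  simp only [this, map_zpow, h, one_zpow, MonoidHom.one_apply]

theorem mem_C_iff {g : G} : g ∈ 𝐂 ↔ g * x * g⁻¹ = x := by
  rw [mem_centralizer_iff]
  refine ⟨fun h => by rw [← h x (mem_zpowers x), mul_inv_cancel_right], fun h => ?_⟩
  rintro _ ⟨k, rfl⟩
  exact ((Commute.symm (mul_inv_eq_iff_eq_mul.1 h)).zpow_left k).eq

theorem P_le_C : 𝐏 ≤ 𝐂 := by
  rintro _ ⟨k, rfl⟩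
  exact mem_C_iff.2 (by simp only []; group)

theorem eq_of_const (hx : orderOf x = p) {χ : G → ℂ} (hχ : IsCharacter G χ) {d : ℕ}
    (hd : χ 1 = d) (hdp : d + 2 ≤ p) {c : ℂ} (h : ∀ u ∈ 𝐏, u ≠ 1 → χ u = c) : c = d := by
  classical
  have := Fintype.ofFinite G
  have := Fintype.ofFinite 𝐏
  have hw := Complex.isPrimitiveRoot_exp p hp.out.ne_zero
  obtain ⟨μ, hμ⟩ := SelfC.exists_lin hx hw.pow_eq_one
  have hμ1 : μ ≠ 1 := fun h1 => hw.ne_one hp.out.one_lt (by rw [← hμ, h1]; rfl)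
  have hP : Nat.card 𝐏 = p := by rw [Nat.card_zpowers, hx]
  obtain ⟨a, ha⟩ := exists_nat_sum (hχ.restrict 𝐏)
  obtain ⟨b, hb⟩ := exists_nat_sum ((isCharacter_hom μ).mul (hχ.restrict 𝐏))
  rw [SelfC.sum_subgroup_eq h, hP, hd] at ha
  have h1 : ∑ u : 𝐏, (μ u : ℂ) * χ u = d - c := by
    have h2 : ∀ u : 𝐏, (μ u : ℂ) * χ u = c * μ u + if u = 1 then d - c else 0 := fun u => by
      split_ifs with hu
      · simp [hu, hd]
      · rw [h u u.2 (fun h3 => hu (Subtype.ext h3))]; ring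
    simp only [h2, Finset.sum_add_distrib, ← Finset.mul_sum, sum_hom_eq_zero μ hμ1]
    simp
  have h2 : (d : ℂ) - c = p * b := by rw [← h1, ← hP]; exact hb
  have h3 : (p : ℂ) * d = p * (a + (p - 1 : ℕ) * b : ℕ) := by
    push_cast [Nat.cast_sub hp.out.one_le]
    linear_combination ha + (p - 1) * h2
  have h4 : d = a + (p - 1) * b := by
    exact_mod_cast mul_left_cancel₀ (Nat.cast_ne_zero.2 hp.out.ne_zero) h3
  have h5 : b = 0 := by
    by_contra h5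
    have := Nat.le_mul_of_pos_right (p - 1) (Nat.pos_of_ne_zero h5)
    omega
  rw [h5] at h2
  linear_combination -h2

/-- the conjugate of a linear character of `P` by an element of the normalizer -/
noncomputable def cjh (L : 𝐏 →* ℂˣ) (n : 𝐍) : 𝐏 →* ℂˣ :=
  L.comp ((zpowers x).normalizerMonoidHom n).toMonoidHom

theorem cjh_apply (L : 𝐏 →* ℂˣ) (n : 𝐍) (u : 𝐏) :
    cjh L n u = L ⟨n * u * (n : G)⁻¹, (mem_normalizer_iff.1 n.2 _).1 u.2⟩ := rfl

theorem cjh_of_mem (L : 𝐏 →* ℂˣ) {n : 𝐍} (hn : (n : G) ∈ 𝐂) : cjh L n = L := by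
  ext u
  rw [cjh_apply]
  congr 3
  rw [← hn u u.2, mul_inv_cancel_right]

theorem injective_of_ne_one (hx : orderOf x = p) {L : 𝐏 →* ℂˣ} (hL : L ≠ 1) :
    Function.Injective L := by
  have : Fact (Nat.card 𝐏).Prime := by rw [Nat.card_zpowers, hx]; exact hp
  rcases L.ker.eq_bot_or_eq_top_of_prime_card with h | h
  · exact (MonoidHom.ker_eq_bot_iff L).1 h
  · exact absurd (MonoidHom.ext fun u => MonoidHom.mem_ker.1 (h ▸ mem_top u : u ∈ L.ker)) hL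

theorem cjh_ne (hx : orderOf x = p) {L : 𝐏 →* ℂˣ} (hL : L ≠ 1) {n : 𝐍} (hn : (n : G) ∉ 𝐂) :
    cjh L n ≠ L := fun h => by
  have h1 := DFunLike.congr_fun h ⟨x, mem_zpowers x⟩
  rw [cjh_apply] at h1
  exact hn (mem_C_iff.2 (congrArg Subtype.val (injective_of_ne_one hx hL h1)))

theorem cjh_ne_one {L : 𝐏 →* ℂˣ} (hL : L ≠ 1) (n : 𝐍) : cjh L n ≠ 1 := fun h =>
  hL (MonoidHom.ext fun u => by
    obtain ⟨v, rfl⟩ := ((zpowers x).normalizerMonoidHom n).surjective u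
    exact DFunLike.congr_fun h v)

theorem card_N : Nat.card 𝐍 = Nat.card 𝐂 * (𝐂).relIndex 𝐍 := by
  rw [relIndex, ← ((𝐂).subgroupOf 𝐍).card_mul_index, Nat.card_congr
    (subgroupOfEquivOfLe (centralizer_le_normalizer _)).toEquiv]

theorem card_filter_C [Fintype 𝐍] [DecidablePred fun n : 𝐍 => (n : G) ∈ 𝐂] :
    (Finset.univ.filter fun n : 𝐍 => (n : G) ∈ 𝐂).card = Nat.card 𝐂 := by
  rw [← Nat.card_congr (subgroupOfEquivOfLe (centralizer_le_normalizer ((𝐏 : Subgroup G) : Set G))).toEquiv,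
    ← Fintype.card_subtype, ← Nat.card_eq_fintype_card]
  rfl

/-- `∑_{u ≠ 1} L(u)⁻¹ L(n u n⁻¹)`. -/
theorem sum_inv_cjh (hx : orderOf x = p) [Fintype 𝐏] {L : 𝐏 →* ℂˣ} (hL : L ≠ 1) (n : 𝐍)
    [Decidable ((n : G) ∈ 𝐂)] :
    ∑ u : 𝐏, ((L⁻¹ u : ℂˣ) : ℂ) * cjh L n u = if (n : G) ∈ 𝐂 then (p : ℂ) else 0 := by
  split_ifs with hn
  · rw [cjh_of_mem L hn]
    simp [← Nat.card_eq_fintype_card, hx]
  · have := sum_hom_eq_zero (L⁻¹ * cjh L n) fun h => cjh_ne hx hL hn (inv_mul_eq_one.1 h).symm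
    simpa using this

/-- An irreducible character of degree at most `p - 2` that is nontrivial on `P`. -/
theorem small_deg (hx : orderOf x = p) (hG : ¬ p ^ 2 ∣ Nat.card G) {χ : G → ℂ}
    (hχ : IsIrrCharacter G χ) {d : ℕ} (hd : χ 1 = d) (hdp : d + 2 ≤ p) (hk : χ x ≠ χ 1)
    [Fintype 𝐍] :
    ∃ L : 𝐏 →* ℂˣ, L ≠ 1 ∧
      ((∃ f : ℕ, d = f * (𝐂).relIndex 𝐍 ∧
          ∀ u : 𝐏, (Nat.card 𝐂 : ℂ) * χ u = f * ∑ n : 𝐍, (cjh L n u : ℂ)) ∨
        (d + (𝐂).relIndex 𝐍 = p ∧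
          (∀ u : 𝐏, u ≠ 1 → (Nat.card 𝐂 : ℂ) * χ u = -∑ n : 𝐍, (cjh L n u : ℂ)) ∧
          ∀ y ∈ 𝐂, ¬ p ∣ orderOf y → ‖χ y‖ = d)) := by
  classical
  have := Fintype.ofFinite G
  have := Fintype.ofFinite 𝐏
  have hP : Nat.card 𝐏 = p := by rw [Nat.card_zpowers, hx]
  have hx1 : x ≠ 1 := fun h => hp.out.one_lt.ne' (by rw [← hx, h, orderOf_one])
  have hp0 : (p : ℂ) ≠ 0 := Nat.cast_ne_zero.2 hp.out.ne_zero
  have hC0 : (Nat.card 𝐂 : ℂ) ≠ 0 := Nat.cast_ne_zero.2 Nat.card_pos.ne'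
  have h1 : ¬ p ∣ orderOf (1 : G) := not_dvd_orderOf_one
  have hconst : ∀ c : ℂ, ¬ ∀ u ∈ 𝐏, u ≠ 1 → χ u = c := fun c h =>
    hk (by rw [h x (mem_zpowers x) hx1, eq_of_const hx hχ.isCharacter hd hdp h, hd])
  rcases values_of_cyclic_ti (p := p) (P := 𝐏) (IsPGroup.of_card (n := 1) (by rw [hP, pow_one]))
    (fun h => hG (by rw [← (𝐏).card_mul_index, hP, pow_two]; exact Nat.mul_dvd_mul_left p h))
    inferInstance (fun u hu hu1 => by
      have : Fact (Nat.card 𝐏).Prime := hP ▸ hp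
      have h2 : zpowers u = 𝐏 := by
        rcases ((zpowers u).subgroupOf 𝐏).eq_bot_or_eq_top_of_prime_card with h | h
        · have h3 : (⟨u, hu⟩ : 𝐏) ∈ (zpowers u).subgroupOf 𝐏 := mem_zpowers u
          rw [h, mem_bot] at h3
          exact absurd (congrArg Subtype.val h3) hu1
        · exact le_antisymm (zpowers_le.2 hu) (subgroupOf_eq_top.1 h)
      rw [← h2, zpowers_eq_closure, centralizer_closure]) ⟨χ, hχ⟩ with
    h | ⟨θ, δ, hθ, hθP, hδ, h | ⟨lam, hm, hl1, ⟨a, ha, hla⟩, h⟩⟩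
  · exact absurd (fun u hu hu1 => by simpa using h u hu hu1 1 (one_mem _) h1) (hconst 0)
  · have h0 : (Nat.card {n : 𝐍 // ∀ z ∈ 𝐂, θ (n * z * n⁻¹) = θ z} : ℂ) ≠ 0 := by
      have : Nonempty {n : 𝐍 // ∀ z ∈ 𝐂, θ (n * z * n⁻¹) = θ z} := ⟨⟨1, by simp⟩⟩
      exact Nat.cast_ne_zero.2 Nat.card_pos.ne'
    refine absurd (fun u hu hu1 => ?_) (hconst (χ x))
    have h2 := h u hu hu1 1 (one_mem _) h1
    rw [← h x (mem_zpowers x) hx1 1 (one_mem _) h1, mul_one, mul_one] at h2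
    exact mul_left_cancel₀ h0 h2
  let L' : 𝐏 →* ℂ := ⟨⟨fun u => lam u, hl1⟩, fun u v => hm u u.2 v v.2⟩
  let L : 𝐏 →* ℂˣ := L'.toHomUnits
  have hL : L ≠ 1 := fun h2 => hla (show ((L ⟨a, ha⟩ : ℂˣ) : ℂ) = 1 by rw [h2]; rfl)
  obtain ⟨f, hf0, hf⟩ := hθ.exists_nat_one
  have hf' : θ 1 = f := hf
  have hv : ∀ u : 𝐏, u ≠ 1 → ∀ y ∈ 𝐂, ¬ p ∣ orderOf y → (Nat.card 𝐂 : ℂ) * χ (u * y) =
      δ * ∑ n : 𝐍, (cjh L n u : ℂ) * θ (n * y * (n : G)⁻¹) := fun u hu y hy hy' => by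
    rw [← finsum_eq_sum_of_fintype]
    exact h u u.2 (fun h2 => hu (Subtype.ext h2)) y hy hy'
  have hv1 : ∀ u : 𝐏, u ≠ 1 → (Nat.card 𝐂 : ℂ) * χ u = δ * f * ∑ n : 𝐍, (cjh L n u : ℂ) :=
    fun u hu => by
      have h2 := hv u hu 1 (one_mem _) h1
      simp only [mul_one, mul_inv_cancel, hf', ← Finset.sum_mul] at h2
      rw [h2]; ring
  set E := (𝐂).relIndex 𝐍 with hE
  have hN : (Fintype.card 𝐍 : ℂ) = Nat.card 𝐂 * E := by
    rw [← Nat.card_eq_fintype_card, card_N]; push_cast; rfl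
  have hall : ∀ u : 𝐏, (Nat.card 𝐂 : ℂ) * χ u = δ * f * ∑ n : 𝐍, (cjh L n u : ℂ) +
      if u = 1 then (Nat.card 𝐂 : ℂ) * (d - δ * f * E) else 0 := fun u => by
    split_ifs with hu
    · simp only [hu, OneMemClass.coe_one, hd, map_one, Units.val_one, Finset.sum_const,
        Finset.card_univ, nsmul_eq_mul, hN]
      ring
    · rw [hv1 u hu, add_zero]
  obtain ⟨a₀, ha₀⟩ := exists_nat_sum (hχ.isCharacter.restrict 𝐏)
  obtain ⟨a₁, ha₁⟩ := exists_nat_sum ((isCharacter_hom L⁻¹).mul (hχ.isCharacter.restrict 𝐏))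
  rw [hP] at ha₀ ha₁
  have h2 : (d : ℂ) - δ * f * E = p * a₀ := by
    apply mul_left_cancel₀ hC0
    rw [← ha₀, Finset.mul_sum]
    simp only [hall, Finset.sum_add_distrib, ← Finset.mul_sum]
    rw [Finset.sum_comm, Finset.sum_eq_zero fun n _ => sum_hom_eq_zero _ (cjh_ne_one hL n)]
    simp
  have hsum : ∑ n : 𝐍, (if (n : G) ∈ 𝐂 then (p : ℂ) else 0) = Nat.card 𝐂 * p := by
    rw [← Finset.sum_filter, Finset.sum_const, card_filter_C, nsmul_eq_mul]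
  have h3 : δ * f * (p : ℂ) + (d - δ * f * E) = p * a₁ := by
    apply mul_left_cancel₀ hC0
    rw [← ha₁, Finset.mul_sum]
    have h4 : ∀ u : 𝐏, (Nat.card 𝐂 : ℂ) * ((fun g => ((L⁻¹ g : ℂˣ) : ℂ)) * fun u : 𝐏 => χ u) u =
        δ * f * ∑ n : 𝐍, ((L⁻¹ u : ℂˣ) : ℂ) * (cjh L n u : ℂ) +
          if u = 1 then (Nat.card 𝐂 : ℂ) * (d - δ * f * E) else 0 := fun u => by
      rw [Pi.mul_apply, mul_left_comm, hall, ← Finset.mul_sum]
      split_ifs with hu
      · simp [hu]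
      · ring
    rw [Finset.sum_congr rfl fun u _ => h4 u, Finset.sum_add_distrib, ← Finset.mul_sum,
      Finset.sum_comm]
    simp only [sum_inv_cjh hx hL, hsum]
    simp [mul_add]
    ring
  refine ⟨L, hL, ?_⟩
  rcases hδ with rfl | rfl
  · have h4 : d = p * a₀ + f * E := by
      have : (d : ℂ) = (p * a₀ + f * E : ℕ) := by push_cast at h2 ⊢; linear_combination h2
      exact_mod_cast this
    have h5 : a₀ = 0 := by
      by_contra h5
      have := Nat.le_mul_of_pos_right p (Nat.pos_of_ne_zero h5)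
      omega
    refine Or.inl ⟨f, by simpa [h5] using h4, fun u => ?_⟩
    rw [hall, h2, h5]
    simp
  right
  have h4 : d + f * E = p * a₀ := by
    have : ((d + f * E : ℕ) : ℂ) = (p * a₀ : ℕ) := by push_cast at h2 ⊢; linear_combination h2
    exact_mod_cast this
  have h5 : d + f * E = p * a₁ + f * p := by
    have : ((d + f * E : ℕ) : ℂ) = (p * a₁ + f * p : ℕ) := by
      push_cast at h3 ⊢; linear_combination h3
    exact_mod_cast this
  obtain ⟨-, -, -, -, -, hEd⟩ := CycL.exists_gen (T := 𝐍) hP le_rfl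
  rw [← hE] at hEd
  have hE1 : E ≤ p - 1 := Nat.le_of_dvd (by omega) hEd
  have h6 : a₁ = 0 := by
    by_contra h6
    have := Nat.le_mul_of_pos_right p (Nat.pos_of_ne_zero h6)
    have := Nat.mul_le_mul_left f (show E ≤ p by omega)
    omega
  rw [h6, mul_zero, zero_add] at h5
  have hE2 : E ≠ p - 1 := fun h7 => by
    have h8 : d = f := by
      have : f * p = f * (p - 1) + f := by
        conv_lhs => rw [show p = p - 1 + 1 by omega]
        ring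
      rw [h7] at h5; omega
    have h9 : a₀ = d := by
      rw [h5, mul_comm] at h4
      exact (Nat.eq_of_mul_eq_mul_left hp.out.pos h4).symm.trans h8.symm
    exact hk (eq_one_of_sum (hχ.isCharacter.restrict 𝐏) (by rw [ha₀, hP, h9]; simp [hd])
      ⟨x, mem_zpowers x⟩)
  have hf1 : f = 1 := by
    by_contra h7
    obtain ⟨k, hk'⟩ := hEd
    have h8 : 2 ≤ k := by
      by_contra h8
      interval_cases k <;> omega
    have h9 := Nat.mul_le_mul_left E h8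
    obtain ⟨m, rfl⟩ := Nat.exists_eq_add_of_le (show 2 ≤ f by omega)
    have := Nat.mul_le_mul_left m (show E ≤ p by omega)
    simp only [add_mul] at h5
    omega
  subst hf1
  refine ⟨by omega, fun u hu => by rw [hv1 u hu]; simp, fun y hy hy' => ?_⟩
  have h7 := twisted_sum_eq_zero hχ.isCharacter 𝐏 L⁻¹ (by
    rw [h6] at ha₁; simpa using ha₁) y
  have hθn : ∀ n : 𝐍, ‖θ (n * y * (n : G)⁻¹)‖ = 1 := fun n => by
    obtain ⟨μ, hμ⟩ := hθ.isCharacter.exists_linear (by simpa using hf')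
    have h8 : (n : G) * y * (n : G)⁻¹ ∈ 𝐂 := (mem_normalizer_iff.1
      (Alg.normalizer_le_normalizer_centralizer 𝐏 n.2) y).1 hy
    have h9 : θ (n * y * (n : G)⁻¹) = μ ⟨_, h8⟩ := congrFun hμ ⟨_, h8⟩
    rw [h9, norm_hom]
  have h8 : (Nat.card 𝐂 : ℂ) * χ y =
      Nat.card 𝐂 * p * θ y - ∑ n : 𝐍, θ (n * y * (n : G)⁻¹) := by
    have h9 : ∀ u : 𝐏, (Nat.card 𝐂 : ℂ) * (((L⁻¹ u : ℂˣ) : ℂ) * χ (u * y)) =
        -∑ n : 𝐍, ((L⁻¹ u : ℂˣ) : ℂ) * (cjh L n u : ℂ) * θ (n * y * (n : G)⁻¹) +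
          if u = 1 then (Nat.card 𝐂 : ℂ) * χ y + ∑ n : 𝐍, θ (n * y * (n : G)⁻¹) else 0 := fun u => by
      split_ifs with hu
      · simp [hu]
      · rw [mul_left_comm, hv u hu y hy hy']
        simp [Finset.mul_sum, mul_assoc]
    have h10 := congrArg ((Nat.card 𝐂 : ℂ) * ·) h7
    simp only [Finset.mul_sum, h9, Finset.sum_add_distrib, Finset.sum_neg_distrib] at h10
    rw [Finset.sum_comm] at h10
    simp only [← Finset.sum_mul, sum_inv_cjh hx hL] at h10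
    have h11 : ∑ n : 𝐍, (if (n : G) ∈ 𝐂 then (p : ℂ) else 0) * θ (n * y * (n : G)⁻¹) =
        Nat.card 𝐂 * p * θ y := by
      rw [← hsum, Finset.sum_mul]
      refine Finset.sum_congr rfl fun n _ => ?_
      split_ifs with hn
      · congr 1
        exact hθ.isClassFunction ⟨y, hy⟩ ⟨n, hn⟩
      · simp
    rw [h11] at h10
    simp only [Finset.sum_ite_eq', Finset.mem_univ, if_true, mul_zero] at h10
    linear_combination h10
  refine le_antisymm (by simpa [hd] using isCharacter_norm_le hχ.isCharacter y) ?_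
  have h9 : ‖∑ n : 𝐍, θ (n * y * (n : G)⁻¹)‖ ≤ Nat.card 𝐂 * E := by
    refine (norm_sum_le _ _).trans ?_
    simp only [hθn, Finset.sum_const, Finset.card_univ, nsmul_eq_mul, mul_one]
    exact_mod_cast (by exact_mod_cast hN : Fintype.card 𝐍 = Nat.card 𝐂 * E).le
  have h10 : ‖θ y‖ = 1 := by simpa using hθn 1
  have h11 := norm_sub_norm_le (Nat.card 𝐂 * p * θ y) (∑ n : 𝐍, θ (n * y * (n : G)⁻¹))
  rw [← h8] at h11
  simp only [norm_mul, Complex.norm_natCast, h10] at h11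
  have h12 : (d : ℝ) + E = p := by exact_mod_cast (by omega : d + E = p)
  have h13 : (0 : ℝ) < Nat.card 𝐂 := Nat.cast_pos.2 Nat.card_pos
  nlinarith

theorem apply_comm_of_norm {χ : G → ℂ} (hχ : IsCharacter G χ) {g : G} (h : ‖χ g‖ = ‖χ 1‖)
    (k : G) : χ (g * k * g⁻¹ * k⁻¹) = χ 1 := by
  obtain ⟨ω, -, hω⟩ := (isCharacter_norm_eq_iff hχ g).1 h
  have h1 := hω (k * g⁻¹ * k⁻¹)
  rw [hχ.isClassFunction, ← hω, mul_inv_cancel] at h1
  simpa only [mul_assoc] using h1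

theorem mem_center_of_norm {χ : G → ℂ} (hχ : IsCharacter G χ) (hf : ∀ g, χ g = χ 1 → g = 1)
    {g : G} (h : ‖χ g‖ = ‖χ 1‖) : g ∈ center G :=
  mem_center_iff.2 fun k => by
    have := hf _ (apply_comm_of_norm hχ h k)
    rw [mul_inv_eq_one, mul_inv_eq_iff_eq_mul] at this
    exact this.symm

theorem norm_eq_of_le (hx : orderOf x = p) (hG : ¬ p ^ 2 ∣ Nat.card G) (hN : 𝐍 ≤ 𝐂) {χ : G → ℂ}
    (hχ : IsIrrCharacter G χ) {d : ℕ} (hd : χ 1 = d) (hdp : d + 2 ≤ p) : ‖χ x‖ = ‖χ 1‖ := by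
  have := Fintype.ofFinite 𝐍
  by_cases hk : χ x = χ 1
  · rw [hk]
  have hE : (𝐂).relIndex 𝐍 = 1 := relIndex_eq_one.2 hN
  obtain ⟨L, -, ⟨f, h1, h2⟩ | ⟨h1, -⟩⟩ := small_deg hx hG hχ hd hdp hk
  · have h3 := h2 ⟨x, mem_zpowers x⟩
    simp only [fun n : 𝐍 => cjh_of_mem L (hN n.2), Finset.sum_const, Finset.card_univ,
      nsmul_eq_mul, ← Nat.card_eq_fintype_card, card_N, hE, mul_one] at h3
    have hC0 : (Nat.card 𝐂 : ℂ) ≠ 0 := Nat.cast_ne_zero.2 Nat.card_pos.ne'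
    rw [mul_left_comm] at h3
    rw [mul_left_cancel₀ hC0 h3, hd, h1, hE, mul_one, norm_mul,
      norm_hom, mul_one]
  · omega

/-- If `P` is central in its normalizer, it is scalar in every representation of degree
at most `p - 2`. -/
theorem apply_comm_of_le (hx : orderOf x = p) (hG : ¬ p ^ 2 ∣ Nat.card G) (hN : 𝐍 ≤ 𝐂)
    {χ : G → ℂ} (hχ : IsCharacter G χ) : (∀ d : ℕ, χ 1 = d → d + 2 ≤ p) →
      ∀ k, χ (x * k * x⁻¹ * k⁻¹) = χ 1 := by
  refine hχ.induction_on (P := fun χ => (∀ d : ℕ, χ 1 = d → d + 2 ≤ p) →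
      ∀ k, χ (x * k * x⁻¹ * k⁻¹) = χ 1) (fun _ _ => rfl) fun φ ψ hφ hψ ih h k => ?_
  obtain ⟨a, ha⟩ := hφ.isCharacter.exists_nat_one
  obtain ⟨b, hb⟩ := hψ.exists_nat_one
  have h1 := h (a + b) (by simp [ha, hb])
  rw [Pi.add_apply, Pi.add_apply, ih (fun d hd => by
      have : d = b := by exact_mod_cast hd.symm.trans hb
      omega),
    apply_comm_of_norm hφ.isCharacter (norm_eq_of_le hx hG hN hφ ha (by omega))]

/-- A faithful irreducible character of degree `p - 2`. -/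
theorem deg_sub_two (hx : orderOf x = p) (hG : ¬ p ^ 2 ∣ Nat.card G) (hn : x ∉ center G)
    {χ : G → ℂ} (hχ : IsIrrCharacter G χ) (hf : ∀ g, χ g = χ 1 → g = 1) {d : ℕ} (hd : χ 1 = d)
    (hdp : d + 2 = p) :
    (∃ w : G, w * x * w⁻¹ = x⁻¹ ∧ ∀ n ∈ 𝐍, n ∈ 𝐂 ∨ w⁻¹ * n ∈ 𝐂) ∧
      (∀ y ∈ 𝐂, ¬ p ∣ orderOf y → y ∈ center G) ∧
      ∃ l : ℂ, IsPrimitiveRoot l p ∧ ∀ j ∈ Finset.Ico 1 p, χ (x ^ j) = -SelfC.tw l j := by
  classical
  have := Fintype.ofFinite 𝐍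
  have hP : Nat.card 𝐏 = p := by rw [Nat.card_zpowers, hx]
  have hk : χ x ≠ χ 1 := fun h => hn (hf x h ▸ one_mem _)
  obtain ⟨L, hL, ⟨f, h1, -⟩ | ⟨h1, h2, h3⟩⟩ := small_deg hx hG hχ hd hdp.le hk
  · obtain ⟨-, -, -, -, -, hEd⟩ := CycL.exists_gen (T := 𝐍) hP le_rfl
    have h2 : (𝐂).relIndex 𝐍 ∣ 1 :=
      (Nat.dvd_add_right (Dvd.intro_left f h1.symm)).1 (by rwa [show d + 1 = p - 1 by omega])
    exact absurd (mem_center_of_norm hχ.isCharacter hf (norm_eq_of_le hx hG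
      (relIndex_eq_one.1 (Nat.dvd_one.1 h2)) hχ hd hdp.le)) hn
  have hE : ((𝐂).subgroupOf 𝐍).index = 2 := by change (𝐂).relIndex 𝐍 = 2; omega
  obtain ⟨w, hw⟩ := index_eq_two_iff'.1 hE
  have hw1 : (w : G) ∉ 𝐂 := fun h => by
    have := hw 1
    rw [mul_one] at this
    exact (this.resolve_left fun h' => h'.2 (one_mem _)).2 h
  have hw2 : ∀ n : 𝐍, (n : G) ∉ 𝐂 → (w : G) * n ∈ 𝐂 := fun n hn =>
    ((hw n).resolve_right fun h => hn h.1).1
  have hinv : ∀ n : 𝐍, (n : G) ∉ 𝐂 → ∀ u : 𝐏, (n : G) * u * (n : G)⁻¹ = (u : G)⁻¹ := by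
    intro n hn
    have h4 : (n : G) * n ∈ 𝐂 := mul_self_mem_of_index_two hE n
    have h5 : (n : G) * x * (n : G)⁻¹ ∈ 𝐏 := (mem_normalizer_iff.1 n.2 _).1 (mem_zpowers x)
    have h6 : (n : G) * x * (n : G)⁻¹ * x = 1 := by
      by_contra h6
      have : Fact (Nat.card 𝐏).Prime := hP ▸ hp
      have h7 := mul_mem h5 (mem_zpowers x)
      obtain ⟨k, hk⟩ := mem_zpowers_iff.1 (zpowers_eq_top_of_prime_card (G := 𝐏) (p := p) hP
        (g := ⟨_, h7⟩) (fun h => h6 (congrArg Subtype.val h)) ▸ mem_top (⟨x, mem_zpowers x⟩ : 𝐏))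
      have h8 : ((n : G) * x * (n : G)⁻¹ * x) ^ k = x := congrArg Subtype.val hk
      have h9 : (n : G) * ((n : G) * x * (n : G)⁻¹ * x) * (n : G)⁻¹ =
          (n : G) * x * (n : G)⁻¹ * x := by
        have h10 := mem_C_iff.1 h4
        have h11 := mem_C_iff.1 (P_le_C h5)
        calc _ = ((n : G) * n * x * ((n : G) * n)⁻¹) * ((n : G) * x * (n : G)⁻¹) := by group
          _ = _ := by rw [h10]; exact (mul_inv_eq_iff_eq_mul.1 h11).symm
      have h10 := congrArg (· ^ k) h9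
      simp only [conj_zpow, h8] at h10
      exact hn (mem_C_iff.2 h10)
    rintro ⟨_, k, rfl⟩
    change (n : G) * x ^ k * (n : G)⁻¹ = (x ^ k)⁻¹
    rw [← conj_zpow, eq_inv_of_mul_eq_one_left h6, inv_zpow]
  refine ⟨⟨w⁻¹, hinv w⁻¹ (fun h => hw1 (by simpa using inv_mem h)) ⟨x, mem_zpowers x⟩,
    fun n hn => (em _).imp_right fun h => by simpa using hw2 ⟨n, hn⟩ h⟩,
    fun y hy hy' => mem_center_of_norm hχ.isCharacter hf (by rw [h3 y hy hy', hd]; simp),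
    L ⟨x, mem_zpowers x⟩, ?_, fun j hj => ?_⟩
  · rw [IsPrimitiveRoot.coe_units_iff, ← hx, ← orderOf_mk x (mem_zpowers x),
      ← orderOf_injective L (injective_of_ne_one hx hL)]
    exact IsPrimitiveRoot.orderOf _
  · have hC0 : (Nat.card 𝐂 : ℂ) ≠ 0 := Nat.cast_ne_zero.2 Nat.card_pos.ne'
    apply mul_left_cancel₀ hC0
    let u : 𝐏 := ⟨x, mem_zpowers x⟩ ^ j
    have h4 := h2 u fun h => by
      have := Fintype.ofFinite G
      exact SelfC.pow_ne_one_of_mem hx hj (congrArg Subtype.val h)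
    have h5 : ∀ n : 𝐍, (cjh L n u : ℂ) = ((L u)⁻¹ : ℂˣ) +
        if (n : G) ∈ 𝐂 then (L u : ℂ) - ((L u)⁻¹ : ℂˣ) else 0 := fun n => by
      split_ifs with hn
      · rw [cjh_of_mem L hn, add_sub_cancel]
      · rw [cjh_apply, add_zero, ← map_inv]
        congr 3
        exact hinv n hn u
    simp only [h5, Finset.sum_add_distrib, ← Finset.sum_filter, Finset.sum_const, card_filter_C,
      Finset.card_univ, nsmul_eq_mul, ← Nat.card_eq_fintype_card, card_N] at h4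
    rw [show (𝐂).relIndex 𝐍 = 2 from hE] at h4
    refine h4.trans ?_
    simp only [u, map_pow, SelfC.tw, Units.val_inv_eq_inv_val, Units.val_pow_eq_pow_val, inv_pow]
    push_cast
    ring

end Cfsg.Agent.Char.SubP
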