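import Mathlib
import Cfsg.Agent.Char.SubP
import Cfsg.Agent.Char.ModSl2Char
import Cfsg.Agent.Char.FS
import Cfsg.Agent.Char.Galois

/-! A faithful irreducible character of degree `p - 2`, centre of odd order: the alternating
square and the values on `p`-regular elements. -/

set_option autoImplicit false
set_option linter.unusedSectionVars false

namespace Cfsg.Agent.Char.SubP

open Subgroup Cfsg.Agent.Char Cfsg.Agent.Block Cfsg.Agent.Char.SelfC
open scoped ComplexConjugate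

theorem pow_mul_sum_tw {μ : ℂ} (h : μ ≠ 0) (t : ℕ) :
    μ ^ t * (1 + ∑ j ∈ Finset.Icc 1 t, tw μ j) = ∑ i ∈ Finset.range (2 * t + 1), μ ^ i := by
  induction t with
  | zero => simp
  | succ t ih =>
    rw [Finset.sum_Icc_succ_top (by omega), show 2 * (t + 1) + 1 = 2 * t + 1 + 1 + 1 by ring,
      Finset.sum_range_succ, Finset.sum_range_succ', ← add_assoc, mul_add, pow_succ' μ t,
      mul_assoc, ih, Finset.mul_sum]
    simp only [← pow_succ', tw, inv_pow]
    field_simp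
    ring

theorem sum_half_tw {p t : ℕ} (ht : 2 * t + 1 = p) {l : ℂ} (hl : IsPrimitiveRoot l p) {i : ℕ}
    (hi : ¬ p ∣ i) : ∑ j ∈ Finset.Icc 1 t, tw l (i * j) = -1 := by
  have h0 : l ^ i ≠ 0 := pow_ne_zero _ (hl.ne_zero (by omega))
  have h1 := pow_mul_sum_tw h0 t
  have h2 : l ^ i ≠ 1 := fun h => hi (hl.dvd_of_pow_eq_one _ h)
  rw [geom_sum_eq h2, ht, ← pow_mul l i p, mul_comm i p, pow_mul l p, hl.pow_eq_one, one_pow,
    sub_self, zero_div, mul_eq_zero] at h1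
  have h3 := h1.resolve_left (pow_ne_zero _ h0)
  simp only [tw, ← inv_pow, ← pow_mul] at h3 ⊢
  linear_combination h3

theorem tw_sq' {l : ℂ} (h : l ≠ 0) (i : ℕ) : tw l i ^ 2 = tw l (i * 2) + 2 := by
  simp only [tw, pow_mul, inv_pow]
  have := pow_ne_zero i h
  field_simp
  ring

theorem tw_inj {p t : ℕ} (ht : 2 * t + 1 = p) {l : ℂ} (hl : IsPrimitiveRoot l p) {j k : ℕ}
    (hj : j ∈ Finset.Icc 1 t) (hk : k ∈ Finset.Icc 1 t) (h : tw l j = tw l k) : j = k := by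
  rw [Finset.mem_Icc] at hj hk
  have h0 : l ≠ 0 := hl.ne_zero (by omega)
  have h1 : (l ^ j - l ^ k) * (l ^ (j + k) - 1) = 0 := by
    simp only [tw, inv_pow] at h
    have := pow_ne_zero j h0
    have := pow_ne_zero k h0
    field_simp at h
    rw [pow_add]
    linear_combination h
  rcases mul_eq_zero.1 h1 with h2 | h2
  · exact hl.pow_inj (by omega) (by omega) (sub_eq_zero.1 h2)
  · have := Nat.le_of_dvd (by omega) (hl.dvd_of_pow_eq_one _ (sub_eq_zero.1 h2))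
    omega

section General

variable {G : Type*} [Group G] [Finite G]

theorem two_mul_norm_sq_le {χ : G → ℂ} (hχ : IsCharacter G χ) {d : ℕ} (hd : χ 1 = d) {g : G}
    (h : χ (g * g) = 0) : 2 * ‖χ g‖ ^ 2 ≤ d ^ 2 := by
  obtain ⟨n, ε, h1, h2, h3⟩ := isCharacter_exists_eigenvalues hχ g
  obtain rfl : n = d := by exact_mod_cast h1.symm.trans hd
  have h4 : χ g = ∑ i, ε i := by simpa using h3 1
  have h5 : ∑ i, ε i ^ 2 = 0 := by rw [← h3, pow_two, h]
  set s := χ g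
  have h6 : ∑ i, (conj s * ε i).re = ‖s‖ ^ 2 := by
    rw [← Complex.re_sum, ← Finset.mul_sum, ← h4, Complex.conj_mul']
    norm_cast
  have h7 : ∀ i, 2 * (conj s * ε i).re ^ 2 = ‖s‖ ^ 2 + (conj s ^ 2 * ε i ^ 2).re := fun i => by
    have h8 : ‖conj s * ε i‖ = ‖s‖ := by
      rw [norm_mul, norm_eq_one_of_pow_eq_one (orderOf_pos g).ne' (h2 i), mul_one,
        Complex.norm_conj]
    rw [← mul_pow, ← h8, Complex.sq_norm, Complex.normSq_apply, pow_two (conj s * ε i),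
      Complex.mul_re (conj s * ε i)]
    ring
  have h8 : 2 * ∑ i, (conj s * ε i).re ^ 2 = n * ‖s‖ ^ 2 := by
    rw [Finset.mul_sum]
    simp only [h7, Finset.sum_add_distrib, ← Complex.re_sum, ← Finset.mul_sum, h5]
    simp
  have h9 := sq_sum_le_card_mul_sum_sq (s := Finset.univ) (f := fun i => (conj s * ε i).re)
  rw [h6, Finset.card_univ, Fintype.card_fin] at h9
  rcases (norm_nonneg s).eq_or_lt with h10 | h10
  · rw [← h10]; simp
  · have h11 : 0 < ‖s‖ ^ 2 := by positivity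
    nlinarith

theorem eq_zero_of_sq (S : Set G) {m : ℕ} (hm : m.Coprime (Nat.card G))
    (hS : ∀ g, g ^ m ∈ S → g ∈ S) (f : G → ℝ) (h0 : ∀ g, 0 ≤ f g) {c : ℝ}
    (h1 : ∀ g ∈ S, c * f (g ^ m) = f g ^ 2) (h2 : ∀ g ∈ S, f g < c) : ∀ g ∈ S, f g = 0 := by
  intro g hg
  obtain ⟨a, ha, hmax⟩ := S.exists_max_image f S.toFinite ⟨g, hg⟩
  obtain ⟨b, rfl⟩ : ∃ b, b ^ m = a := (powCoprime hm.symm).surjective a
  have h3 := h1 b (hS b ha)
  have h4 := hmax b (hS b ha)
  have h5 := h2 _ ha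
  have h6 := hmax g hg
  have h7 := h0 b
  have h8 := h0 g
  have h9 := h0 (b ^ m)
  by_contra h10
  have h11 : 0 < f (b ^ m) := lt_of_lt_of_le (lt_of_le_of_ne h8 (Ne.symm h10)) h6
  nlinarith

theorem isCharacter_sub_sum' [Fintype G] {ι : Type*} {φ : G → ℂ} (hφ : IsCharacter G φ)
    (s : Finset ι) (f : ι → G → ℂ) (h1 : ∀ i ∈ s, IsIrrCharacter G (f i))
    (h2 : ∀ i ∈ s, ∀ j ∈ s, f i = f j → i = j) (h : ∀ i ∈ s, classInner φ (f i) ≠ 0) :
    IsCharacter G (φ - ∑ i ∈ s, f i) := by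
  classical
  induction s using Finset.induction_on with
  | empty => simpa using hφ
  | insert a s ha ih =>
    have h3 := Finset.mem_insert_self a s
    rw [Finset.sum_insert ha, add_comm, ← sub_sub]
    refine (ih (fun i hi => h1 i (Finset.mem_insert_of_mem hi)) (fun i hi j hj =>
      h2 i (Finset.mem_insert_of_mem hi) j (Finset.mem_insert_of_mem hj))
      fun i hi => h i (Finset.mem_insert_of_mem hi)).sub_irr (h1 a h3) ?_
    rw [classInner_sub_left, classInner_sum_left, Finset.sum_eq_zero fun i hi =>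
      (h1 i (Finset.mem_insert_of_mem hi)).inner_eq_zero (h1 a h3) fun e =>
        ha (h2 i (Finset.mem_insert_of_mem hi) a h3 e ▸ hi), sub_zero]
    exact h a h3

theorem exists_exp {p : ℕ} (hp : p.Prime) (hp2 : p ≠ 2) (hG : ¬ p ^ 2 ∣ Nat.card G)
    (hd : p ∣ Nat.card G) :
    ∃ m : ℕ → ℕ, (∀ j, ¬ p ∣ j → (m j).Coprime (Nat.card G)) ∧ (∀ j, m j ≡ j [MOD p]) ∧
      (∀ j (g : G), ¬ p ∣ orderOf g → g ^ m j = g ^ m 1) ∧
      (∀ g : G, ¬ p ∣ orderOf g → Odd (orderOf g) → g ^ m 1 = g * g) ∧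
      ∀ g : G, g ^ 4 = 1 → g ^ m 1 = g := by
  obtain ⟨n, hn⟩ := hd
  have hn0 : n ≠ 0 := by rintro rfl; exact Nat.card_pos.ne' hn
  obtain ⟨a, o, ho, rfl⟩ := Nat.exists_eq_two_pow_mul_odd hn0
  have h1 : (2 ^ (a + 2)).Coprime o := Nat.Coprime.pow_left _ (Nat.coprime_two_left.2 ho)
  obtain ⟨k, hk1, hk2⟩ := Nat.chineseRemainder h1 1 2
  have h2 : p.Coprime (2 ^ (a + 2) * o) := Nat.Coprime.mul_right
    (((Nat.coprime_primes hp Nat.prime_two).2 hp2).pow_right _)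
    ((Nat.Prime.coprime_iff_not_dvd hp).2 fun h =>
      hG (by rw [hn, pow_two]; exact Nat.mul_dvd_mul_left p (h.mul_left _)))
  have h3 : ∀ g : G, ¬ p ∣ orderOf g → orderOf g ∣ 2 ^ a * o := fun g hg =>
    ((Nat.Prime.coprime_iff_not_dvd hp).2 hg).symm.dvd_of_dvd_mul_left
      (hn ▸ orderOf_dvd_natCard g)
  have h4 : 2 ^ a * o ∣ 2 ^ (a + 2) * o := Nat.mul_dvd_mul_right (pow_dvd_pow 2 (by omega)) o
  have h5 : ∀ j, (Nat.chineseRemainder h2 j k : ℕ) ≡ k [MOD 2 ^ (a + 2) * o] := fun j =>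
    (Nat.chineseRemainder h2 j k).2.2
  refine ⟨fun j => Nat.chineseRemainder h2 j k, fun j hj => ?_,
    fun j => (Nat.chineseRemainder h2 j k).2.1, fun j g hg => ?_, fun g hg hg' => ?_,
    fun g hg => ?_⟩
  · rw [hn]
    refine Nat.Coprime.mul_right ?_ (Nat.Coprime.coprime_dvd_right h4 ?_)
    · rw [Nat.Coprime, (Nat.chineseRemainder h2 j k).2.1.gcd_eq]
      exact ((Nat.Prime.coprime_iff_not_dvd hp).2 hj).symm
    · rw [Nat.Coprime, (h5 j).gcd_eq]
      refine Nat.Coprime.mul_right ?_ ?_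
      · rw [Nat.Coprime, hk1.gcd_eq]; simp
      · rw [Nat.Coprime, hk2.gcd_eq]; exact Nat.coprime_two_left.2 ho
  · exact pow_eq_pow_iff_modEq.2 (((h5 j).trans (h5 1).symm).of_dvd ((h3 g hg).trans h4))
  · rw [← pow_two]
    exact pow_eq_pow_iff_modEq.2 ((((h5 1).of_mul_left _).trans hk2).of_dvd
      ((Nat.Coprime.pow_right a (Nat.coprime_two_right.2 hg')).dvd_of_dvd_mul_left (h3 g hg)))
  · conv_rhs => rw [← pow_one g]
    exact pow_eq_pow_iff_modEq.2 ((((h5 1).of_mul_right _).trans hk1).of_dvd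
      ((orderOf_dvd_of_pow_eq_one hg).trans (pow_dvd_pow 2 (show 2 ≤ a + 2 by omega))))

end General

variable {G : Type*} [Group G] [Finite G] {p : ℕ} [hp : Fact p.Prime] {x : G}

theorem exists_conj_of_dvd (hx : orderOf x = p) (hG : ¬ p ^ 2 ∣ Nat.card G)
    (hC : ∀ y ∈ centralizer ((zpowers x : Subgroup G) : Set G), ¬ p ∣ orderOf y → y ∈ center G)
    {g : G} (hg : p ∣ orderOf g) : ∃ (i : ℕ) (z a : G), ¬ p ∣ i ∧ z ∈ center G ∧
      ¬ p ∣ orderOf z ∧ a * g * a⁻¹ = z * x ^ i := by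
  obtain ⟨k, hk⟩ := orderOf_pPart p g
  have h1 := pPart_ne_one_iff.2 hg
  have h2 : orderOf (pPart p g) = p := by
    rcases k with _ | _ | k
    · exact absurd (orderOf_eq_one_iff.1 (by simpa using hk)) h1
    · simpa using hk
    · exact absurd ((pow_dvd_pow p (show 2 ≤ k + 1 + 1 by omega)).trans (hk ▸ _root_.orderOf_dvd_natCard (pPart p g))) hG
  obtain ⟨a, ha⟩ := ModSl2.exists_conj_mem_zpowers hx hG h2
  obtain ⟨i, hi⟩ := mem_powers_iff_mem_zpowers.2 ha
  have hi' : x ^ i = pPart p (a * g * a⁻¹) := by rw [pPart_conj]; exact hi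
  have h3 : ¬ p ∣ i := fun h => h1 (by
    have h4 : x ^ i = a * pPart p g * a⁻¹ := hi
    rw [orderOf_dvd_iff_pow_eq_one.1 (hx ▸ h)] at h4
    exact conj_eq_one_iff.1 h4.symm)
  refine ⟨i, pReg p (a * g * a⁻¹), a, h3, hC _ (mem_C_iff.2 ?_) (not_dvd_orderOf_pReg p _),
    not_dvd_orderOf_pReg p _, by rw [hi', pReg_mul_pPart]⟩
  have h4 := commute_pPart_pReg p (a * g * a⁻¹)
  rw [← hi'] at h4
  obtain ⟨j, hj⟩ := exists_pow_eq_self_of_coprime (x := x) (n := i)
    (hx ▸ ((Nat.Prime.coprime_iff_not_dvd hp.out).2 h3).symm)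
  rw [mul_inv_eq_iff_eq_mul, ← hj]
  exact (h4.pow_left j).eq.symm

/-- the hypotheses -/
structure Hyp (p : ℕ) {G : Type*} [Group G] (x : G) (ζ : G → ℂ) (d t : ℕ) (l : ℂ)
    (m : ℕ → ℕ) : Prop where
  hx : orderOf x = p
  hG : ¬ p ^ 2 ∣ Nat.card G
  irr : IsIrrCharacter G ζ
  hf : ∀ g, ζ g = ζ 1 → g = 1
  deg : ζ 1 = d
  hd : d + 1 = 2 * t
  ht : 2 * t + 1 = p
  h3 : 3 ≤ t
  hC : ∀ y ∈ centralizer ((zpowers x : Subgroup G) : Set G), ¬ p ∣ orderOf y → y ∈ center G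
  prim : IsPrimitiveRoot l p
  val : ∀ j, ¬ p ∣ j → ζ (x ^ j) = -tw l j
  odd : Odd (Nat.card (center G))
  m1 : ∀ j, ¬ p ∣ j → (m j).Coprime (Nat.card G)
  m2 : ∀ j, m j ≡ j [MOD p]
  m3 : ∀ j (g : G), ¬ p ∣ orderOf g → g ^ m j = g ^ m 1
  m4 : ∀ g : G, ¬ p ∣ orderOf g → Odd (orderOf g) → g ^ m 1 = g * g
  m5 : ∀ g : G, g ^ 4 = 1 → g ^ m 1 = g

namespace Hyp

variable {ζ : G → ℂ} {d t : ℕ} {l : ℂ} {m : ℕ → ℕ} (H : Hyp p x ζ d t l m)
include H

theorem l_ne : l ≠ 0 := H.prim.ne_zero hp.out.ne_zero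

theorem not_dvd {j : ℕ} (hj : j ∈ Finset.Icc 1 t) : ¬ p ∣ j := fun h => by
  have := Finset.mem_Icc.1 hj
  have := Nat.le_of_dvd (by omega) h
  have := H.ht
  omega

theorem one_mem' : 1 ∈ Finset.Icc 1 t := Finset.mem_Icc.2 ⟨le_rfl, by have := H.h3; omega⟩

theorem two_mem : 2 ∈ Finset.Icc 1 t := Finset.mem_Icc.2 ⟨one_le_two, by have := H.h3; omega⟩

theorem odd_of_mem {z : G} (hz : z ∈ center G) : Odd (orderOf z) :=
  H.odd.of_dvd_nat (orderOf_dvd_natCard _ hz)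

theorem scalar {z : G} (hz : z ∈ center G) : ∃ ω : ℂ, ‖ω‖ = 1 ∧ ∀ h, ζ (z * h) = ω * ζ h :=
  (isCharacter_norm_eq_iff H.irr.isCharacter z).1 (norm_eq_of_mem_center H.irr hz)

theorem irr' {j : ℕ} (hj : j ∈ Finset.Icc 1 t) : IsIrrCharacter G (fun g => ζ (g ^ m j)) :=
  H.irr.comp_pow (H.m1 j (H.not_dvd hj))

/-- values on `p`-singular elements -/
theorem sing {g : G} (hg : p ∣ orderOf g) : ∃ (i : ℕ) (ω : ℂ), ¬ p ∣ i ∧ ‖ω‖ = 1 ∧
    ζ g ^ 2 = ω * (tw l (i * 2) + 2) ∧ ζ (g * g) = -(ω * tw l (i * 2)) ∧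
    ∀ j ∈ Finset.Icc 1 t, ζ (g ^ m j) = -(ω * tw l (i * j)) := by
  obtain ⟨i, z, a, h1, h2, h3, h4⟩ := exists_conj_of_dvd H.hx H.hG H.hC hg
  obtain ⟨ω, h5, h6⟩ := H.scalar h2
  have hc : Commute z (x ^ i) := (mem_center_iff.1 h2 _).symm
  have h7 : ∀ k, ζ (g ^ k) = ζ (z ^ k * x ^ (i * k)) := fun k => by
    rw [← H.irr.isClassFunction _ a, ← conj_pow, h4, hc.mul_pow, ← pow_mul]
  have h8 : ∀ j, ¬ p ∣ j → ζ (z * z * x ^ (i * j)) = -(ω ^ 2 * tw l (i * j)) := fun j hj => by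
    rw [mul_assoc, h6, h6, H.val _ fun h => (hp.out.dvd_mul.1 h).elim h1 hj]
    ring
  refine ⟨i, ω ^ 2, h1, by rw [norm_pow, h5, one_pow], ?_, ?_, fun j hj => ?_⟩
  · rw [← H.irr.isClassFunction _ a, h4, h6, H.val i h1, ← tw_sq' H.l_ne]
    ring
  · rw [← pow_two, h7, pow_two z, h8 2 (H.not_dvd H.two_mem)]
  · rw [h7, H.m3 j z h3, H.m4 z h3 (H.odd_of_mem h2), ← h8 j (H.not_dvd hj)]
    congr 2
    exact pow_eq_pow_iff_modEq.2 (H.hx ▸ (H.m2 j).mul_left i)

theorem inj {j k : ℕ} (hj : j ∈ Finset.Icc 1 t) (hk : k ∈ Finset.Icc 1 t)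
    (h : (fun g => ζ (g ^ m j)) = fun g => ζ (g ^ m k)) : j = k := by
  have h1 : ζ (x ^ m j) = ζ (x ^ m k) := congrFun h x
  have h2 : ∀ j, x ^ m j = x ^ j := fun j => pow_eq_pow_iff_modEq.2 (H.hx ▸ H.m2 j)
  rw [h2, h2, H.val j (H.not_dvd hj), H.val k (H.not_dvd hk), neg_inj] at h1
  exact tw_inj H.ht H.prim hj hk h1

variable [Fintype G]

theorem inner_eq {j k : ℕ} (hj : j ∈ Finset.Icc 1 t) (hk : k ∈ Finset.Icc 1 t) :
    classInner (fun g => ζ (g ^ m j)) (fun g => ζ (g ^ m k)) = if j = k then 1 else 0 := by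
  split_ifs with h
  · rw [h, (H.irr' hk).inner_self]
  · exact (H.irr' hj).inner_eq_zero (H.irr' hk) fun e => h (H.inj hj hk e)

theorem inner_sum {k : ℕ} (hk : k ∈ Finset.Icc 1 t) :
    classInner (∑ j ∈ Finset.Icc 1 t, fun g => ζ (g ^ m j)) (fun g => ζ (g ^ m k)) = 1 := by
  rw [classInner_sum_left, Finset.sum_congr rfl fun j hj => H.inner_eq hj hk]
  simp [hk]

theorem sum_reg {g : G} (hg : ¬ p ∣ orderOf g) :
    (∑ j ∈ Finset.Icc 1 t, fun g => ζ (g ^ m j)) g = t * ζ (g ^ m 1) := by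
  simp [Finset.sum_apply, H.m3 _ g hg]

/-- the functional equation coming from the alternating square -/
theorem feq {g : G} (hg : ¬ p ∣ orderOf g) :
    ζ g ^ 2 = ζ (g * g) + (d - 1) * ζ (g ^ m 1) := by
  set Θ : G → ℂ := ∑ j ∈ Finset.Icc 1 t, fun g => ζ (g ^ m j) with hΘ
  set Ψ : G → ℂ := altSq ζ + fun g => ζ (g ^ m 2) with hΨ
  have hA := isCharacter_altSq H.irr.isCharacter
  have h2 := H.irr' H.two_mem
  have h3 : ∀ j ∈ Finset.Icc 1 t, classInner Ψ (fun g => ζ (g ^ m j)) =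
      classInner Ψ (fun g => ζ (g ^ m 2)) := fun j hj => by
    have h4 : classInner Ψ ((fun g => ζ (g ^ m j)) - fun g => ζ (g ^ m 2)) =
        classInner Θ ((fun g => ζ (g ^ m j)) - fun g => ζ (g ^ m 2)) := by
      rw [classInner_def, classInner_def]
      congr 1
      refine Finset.sum_congr rfl fun g _ => ?_
      by_cases hg : p ∣ orderOf g
      · obtain ⟨i, ω, a1, -, a2, a3, a4⟩ := H.sing hg
        congr 1
        rw [hΘ, hΨ, Finset.sum_apply, Finset.sum_congr rfl a4, Finset.sum_neg_distrib,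
          ← Finset.mul_sum, sum_half_tw H.ht H.prim a1, Pi.add_apply, altSq, a2, a3,
          a4 2 H.two_mem]
        ring
      · simp [H.m3 _ g hg]
    rwa [classInner_sub_right, classInner_sub_right, H.inner_sum hj, H.inner_sum H.two_mem,
      sub_self, sub_eq_zero] at h4
  have h4 := isCharacter_sub_sum' (hA.add h2.isCharacter) (Finset.Icc 1 t) _
    (fun j hj => H.irr' hj) (fun j hj k hk => H.inj hj hk) fun j hj => by
      obtain ⟨a, ha⟩ := hA.exists_nat_inner h2.isCharacter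
      rw [h3 j hj, hΨ, classInner_add_left, ha, h2.inner_self]
      exact_mod_cast Nat.succ_ne_zero a
  have hd : (d : ℂ) + 1 = 2 * t := by exact_mod_cast H.hd
  have h5 := congrFun (h4.eq_zero_of_one (by
    rw [Pi.sub_apply, H.sum_reg not_dvd_orderOf_one]
    simp only [Pi.add_apply, altSq, one_pow, mul_one, H.deg]
    linear_combination (d / 2 : ℂ) * hd)) g
  rw [Pi.sub_apply, H.sum_reg hg] at h5
  simp only [Pi.add_apply, altSq, H.m3 2 g hg, Pi.zero_apply] at h5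
  linear_combination 2 * h5 - ζ (g ^ m 1) * hd

theorem d_ge : 5 ≤ d := by have := H.hd; have := H.h3; omega

theorem invol {u : G} (hu : u * u = 1) (h1 : u ≠ 1) : ζ u = -1 := by
  have h2 : ¬ p ∣ orderOf u := fun h => H.not_dvd H.two_mem
    (h.trans (orderOf_dvd_of_pow_eq_one (by rw [pow_two, hu])))
  have h3 := H.feq h2
  rw [hu, H.m5 u (by rw [show 4 = 2 * 2 from rfl, pow_mul, pow_two u, hu, one_pow]), H.deg] at h3
  have h4 : (ζ u - d) * (ζ u + 1) = 0 := by linear_combination h3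
  rcases mul_eq_zero.1 h4 with h | h
  · exact absurd (H.hf u (by rw [H.deg, sub_eq_zero.1 h])) h1
  · linear_combination h

theorem sq_eq_one {g : G} (hg : g ^ 4 = 1) : g * g = 1 := by
  by_contra h1
  have hp4 : ∀ g : G, g ^ 4 = 1 → ¬ p ∣ orderOf g := fun g hg h => H.not_dvd H.two_mem
    (hp.out.dvd_of_dvd_pow (n := 2) (h.trans (orderOf_dvd_of_pow_eq_one hg)))
  have h2 : ∀ g : G, g ^ 4 = 1 → g * g ≠ 1 → ζ g ^ 2 + 1 = (d - 1) * ζ g := fun g hg h1 => by
    have h3 := H.feq (hp4 g hg)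
    rw [H.m5 g hg, H.invol (by rw [← hg]; simp only [pow_succ, pow_zero, one_mul, mul_assoc]) h1]
      at h3
    linear_combination h3
  have h3 := h2 g hg h1
  have h4 := h2 g⁻¹ (by rw [inv_pow, hg, inv_one]) (by rwa [← mul_inv_rev, ne_eq, inv_eq_one])
  have hd5 : (5 : ℝ) ≤ d := by exact_mod_cast H.d_ge
  have h5 : ζ g⁻¹ = ζ g := by
    by_contra h5
    have h6 : ζ g⁻¹ + ζ g = d - 1 := by
      apply mul_left_cancel₀ (sub_ne_zero.2 h5)
      linear_combination h4 - h3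
    have h7 : ζ g * ζ g⁻¹ = 1 := by linear_combination ζ g * h6 - h3
    rw [H.irr.map_inv] at h6 h7
    rw [Complex.mul_conj, Complex.normSq_apply] at h7
    have h8 := congrArg Complex.re h6
    have h9 := congrArg Complex.re h7
    simp at h8 h9
    nlinarith [sq_nonneg (ζ g).im]
  obtain ⟨z, hz⟩ := H.irr.isCharacter.isGen.exists_int_of_pow g fun k hk => by
    have h6 : Odd k := by
      refine Nat.coprime_two_right.1 (hk.coprime_dvd_right ?_)
      have h7 : orderOf (g * g) = 2 := orderOf_eq_prime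
        (by rw [← hg]; simp only [pow_succ, pow_zero, one_mul, mul_assoc]) h1
      exact h7 ▸ _root_.orderOf_dvd_natCard _
    rw [pow_eq_pow_mod k hg]
    rcases (show k % 4 = 1 ∨ k % 4 = 3 by have := Nat.odd_iff.1 h6; omega) with h | h
    · rw [h, pow_one]
    · rw [h, ← h5, eq_inv_of_mul_eq_one_left (show g ^ 3 * g = 1 by rw [← pow_succ, hg])]
  rw [hz] at h3
  have h6 : z * (d - 1 - z) = 1 := by
    have : ((z * (d - 1 - z) : ℤ) : ℂ) = (1 : ℤ) := by push_cast; linear_combination -h3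
    exact_mod_cast this
  have := H.d_ge
  rcases Int.eq_one_or_neg_one_of_mul_eq_one' h6 with ⟨a, b⟩ | ⟨a, b⟩ <;> omega

theorem odd_sq (g : G) : Odd (orderOf (g * g)) := by
  by_contra h
  obtain ⟨k, hk⟩ := Nat.not_odd_iff_even.1 h
  have h1 := H.sq_eq_one (g := g ^ k) (by
    rw [← pow_orderOf_eq_one (g * g), hk, ← pow_two, ← pow_mul, ← pow_mul]; congr 1; ring)
  rw [← (Commute.refl g).mul_pow] at h1
  have h2 := orderOf_pos (g * g)
  have := Nat.le_of_dvd (by omega) (orderOf_dvd_of_pow_eq_one h1)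
  omega

theorem orderOf_m (g : G) : orderOf (g ^ m 1) = orderOf g :=
  ((H.m1 1 (H.not_dvd H.one_mem')).coprime_dvd_right (_root_.orderOf_dvd_natCard g)).symm.orderOf_pow

theorem zero_odd : ∀ g : G, ¬ p ∣ orderOf g ∧ Odd (orderOf g) ∧ g ∉ center G → ‖ζ g‖ = 0 := by
  refine eq_zero_of_sq {g : G | ¬ p ∣ orderOf g ∧ Odd (orderOf g) ∧ g ∉ center G}
    (H.m1 1 (H.not_dvd H.one_mem')) (fun g hg => ?_) (fun g => ‖ζ g‖)
    (fun g => norm_nonneg _) (c := d) (fun g hg => ?_) fun g hg => ?_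
  all_goals obtain ⟨a, b, c⟩ := hg
  · exact ⟨H.orderOf_m g ▸ a, H.orderOf_m g ▸ b, fun h => c (pow_mem h _)⟩
  · have h1 := H.feq a
    rw [← H.m4 g a b] at h1
    rw [← norm_pow, show ζ g ^ 2 = d * ζ (g ^ m 1) by linear_combination h1]
    simp
  · have h1 := isCharacter_norm_le H.irr.isCharacter g
    have h2 := mt (mem_center_of_norm H.irr.isCharacter H.hf (g := g)) c
    rw [H.deg, Complex.norm_natCast] at h1 h2
    exact lt_of_le_of_ne h1 h2

theorem zero_reg : ∀ g : G, ¬ p ∣ orderOf g ∧ g * g ∉ center G → ‖ζ g‖ = 0 := by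
  have h0 : ∀ g : G, ¬ p ∣ orderOf g → g * g ∉ center G → ζ (g * g) = 0 := fun g a b =>
    norm_eq_zero.1 (H.zero_odd _ ⟨fun h => a (h.trans (pow_two g ▸ orderOf_pow_dvd 2)),
      H.odd_sq g, b⟩)
  refine eq_zero_of_sq {g : G | ¬ p ∣ orderOf g ∧ g * g ∉ center G}
    (H.m1 1 (H.not_dvd H.one_mem')) (fun g hg => ?_) (fun g => ‖ζ g‖)
    (fun g => norm_nonneg _) (c := d - 1) (fun g hg => ?_) fun g hg => ?_
  all_goals obtain ⟨a, b⟩ := hg
  · exact ⟨H.orderOf_m g ▸ a, fun h => b ((Commute.refl g).mul_pow _ ▸ pow_mem h _)⟩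
  · have h1 := H.feq a
    rw [h0 g a b, zero_add] at h1
    have h2 : ((d : ℂ) - 1) = ((d - 1 : ℝ) : ℂ) := by push_cast; rfl
    have hd5 : (5 : ℝ) ≤ d := by exact_mod_cast H.d_ge
    rw [← norm_pow, h1, norm_mul, h2, Complex.norm_real, Real.norm_of_nonneg (by linarith)]
  · have h1 := two_mul_norm_sq_le H.irr.isCharacter H.deg (h0 g a b)
    have hd5 : (5 : ℝ) ≤ d := by exact_mod_cast H.d_ge
    by_contra h2
    push Not at h2
    nlinarith

theorem not_dvd_of_sq {g : G} (hg : g * g ∈ center G) : ¬ p ∣ orderOf g := fun h => by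
  obtain ⟨i, ω, -, a1, -, a2, -⟩ := H.sing h
  have h1 := norm_eq_of_mem_center H.irr hg
  have h2 : ‖l‖ = 1 := norm_eq_one_of_pow_eq_one hp.out.ne_zero H.prim.pow_eq_one
  have h3 : ‖tw l (i * 2)‖ ≤ 1 + 1 := (norm_add_le _ _).trans (by simp [h2])
  rw [a2, H.deg, norm_neg, norm_mul, a1, one_mul, Complex.norm_natCast] at h1
  have hd5 : (5 : ℝ) ≤ d := by exact_mod_cast H.d_ge
  linarith

open Classical in
theorem reg_val {g : G} (hg : ¬ p ∣ orderOf g) :
    ζ (g ^ m 1) * conj (ζ (g ^ m 1)) = (if g ∈ center G then (d : ℂ) ^ 2 else 0) +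
      (if g ∉ center G ∧ g * g ∈ center G then 1 else 0) ∧
    (ζ g ^ 2 - d * ζ (g ^ m 1)) * conj (ζ (g ^ m 1)) =
      if g ∉ center G ∧ g * g ∈ center G then -(d + 1 : ℂ) else 0 := by
  rw [H.feq hg]
  by_cases h1 : g ∈ center G
  · rw [H.m4 g hg (H.odd_of_mem h1), Complex.mul_conj', norm_eq_of_mem_center H.irr (mul_mem h1 h1),
      H.deg]
    simp [h1]
    left; ring
  by_cases h2 : g * g ∈ center G
  · obtain ⟨k, hk⟩ := H.odd
    have h3 : g ^ (2 * k + 1) * g ^ (2 * k + 1) = 1 := by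
      rw [← (Commute.refl g).mul_pow, ← hk]
      exact congrArg Subtype.val (pow_card_eq_one' (x := (⟨_, h2⟩ : center G)))
    have h4 : (g * g) ^ (k + 1) * g ^ (2 * k + 1) = g := by
      rw [← pow_two, ← pow_mul, show 2 * (k + 1) = 1 + (2 * k + 1) by ring, pow_add, mul_assoc, h3,
        mul_one, pow_one]
    have h5 : g ^ (2 * k + 1) ≠ 1 := fun h => h1 (by
      rw [← h4, h, mul_one]; exact pow_mem h2 _)
    have h6 := pow_mem h2 (k + 1)
    generalize (g * g) ^ (k + 1) = z at h4 h6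
    generalize g ^ (2 * k + 1) = u at h3 h4 h5
    subst h4
    have hc : Commute z u := (mem_center_iff.1 h6 _).symm
    obtain ⟨ω, h7, h8⟩ := H.scalar (mul_mem h6 h6)
    have h9 : z * u * (z * u) = z * z * 1 := by rw [← h3, hc.symm.mul_mul_mul_comm]
    rw [hc.mul_pow, H.m4 z (H.not_dvd_of_sq (mul_mem h6 h6)) (H.odd_of_mem h6), H.m5 u (by
      rw [show 4 = 2 * 2 from rfl, pow_mul, pow_two u, h3, one_pow]), if_neg h1,
      if_pos ⟨h1, h2⟩, if_pos ⟨h1, h2⟩, h9, h8, h8, H.invol h3 h5, H.deg]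
    have h10 : ω * conj ω = 1 := by rw [Complex.mul_conj', h7]; simp
    simp only [map_mul, map_neg, map_one]
    exact ⟨by linear_combination h10, by linear_combination -(d + 1) * h10⟩
  · have h3 : ζ (g ^ m 1) = 0 := norm_eq_zero.1 (H.zero_reg _ ⟨H.orderOf_m g ▸ hg, fun h => by
      obtain ⟨k, hk⟩ := exists_pow_eq_self_of_coprime (x := g * g) (n := m 1)
        ((H.m1 1 (H.not_dvd H.one_mem')).coprime_dvd_right (_root_.orderOf_dvd_natCard _))
      rw [← (Commute.refl g).mul_pow] at h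
      exact h2 (hk ▸ pow_mem h k)⟩)
    simp [h1, h2, h3]

theorem card_eq : Nat.card G = Nat.card (center G) * (p * (d + 1) * d) ∨
    2 * Nat.card G = Nat.card (center G) * (p * d ^ 2) := by
  classical
  set Θ : G → ℂ := ∑ j ∈ Finset.Icc 1 t, fun g => ζ (g ^ m j) with hΘ
  set J := (Finset.univ.filter fun g : G => g ∉ center G ∧ g * g ∈ center G).card with hJ
  have hn : (Nat.card G : ℂ) ≠ 0 := Nat.cast_ne_zero.2 Nat.card_pos.ne'
  have hs : ∀ φ ψ : G → ℂ, ∑ g, φ g * conj (ψ g) = Nat.card G * classInner φ ψ := fun φ ψ => by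
    rw [classInner_def, mul_inv_cancel_left₀ hn]
  have hd : (d : ℂ) + 1 = 2 * t := by exact_mod_cast H.hd
  have hΘs : ∀ g, p ∣ orderOf g → ∀ i ω, ¬ p ∣ i →
      (∀ j ∈ Finset.Icc 1 t, ζ (g ^ m j) = -(ω * tw l (i * j))) → Θ g = ω := fun g _ i ω a b => by
    rw [hΘ, Finset.sum_apply, Finset.sum_congr rfl b, Finset.sum_neg_distrib,
      ← Finset.mul_sum, sum_half_tw H.ht H.prim a]
    ring
  have hsing : ∀ g, p ∣ orderOf g → g ∉ center G ∧ g * g ∉ center G := fun g hg =>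
    ⟨fun h => H.not_dvd_of_sq (mul_mem h h) hg, fun h => H.not_dvd_of_sq h hg⟩
  have e1 : ∀ g, ζ (g ^ m 1) * conj (ζ (g ^ m 1)) - 2 * (Θ g * conj (Θ g)) +
      ζ (g ^ m 2) * conj (Θ g) = (1 + t - 2 * t ^ 2) * ((if g ∈ center G then (d : ℂ) ^ 2 else 0) +
      (if g ∉ center G ∧ g * g ∈ center G then 1 else 0)) := fun g => by
    by_cases hg : p ∣ orderOf g
    · obtain ⟨i, ω, a1, a2, -, -, a4⟩ := H.sing hg
      have h10 : ω * conj ω = 1 := by rw [Complex.mul_conj', a2]; simp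
      rw [hΘs g hg i ω a1 a4, a4 1 H.one_mem', a4 2 H.two_mem, if_neg (hsing g hg).1,
        if_neg fun h => (hsing g hg).2 h.2, map_neg, map_mul,
        conj_tw hp.out.ne_zero H.prim.pow_eq_one, mul_one]
      linear_combination (tw l i ^ 2 - 2 - tw l (i * 2)) * h10 + tw_sq' H.l_ne i
    · rw [← (H.reg_val hg).1, hΘ, H.sum_reg hg, H.m3 2 g hg]
      simp only [map_mul, Complex.conj_natCast]
      ring
  have e2 : ∀ g, (ζ * ζ) g * conj (ζ (g ^ m 1)) - 2 * (Θ g * conj (ζ (g ^ m 1))) +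
      ζ (g ^ m 2) * conj (ζ (g ^ m 1)) =
      if g ∉ center G ∧ g * g ∈ center G then -(d + 1 : ℂ) else 0 := fun g => by
    by_cases hg : p ∣ orderOf g
    · obtain ⟨i, ω, a1, -, a3, -, a4⟩ := H.sing hg
      rw [hΘs g hg i ω a1 a4, a4 2 H.two_mem, if_neg fun h => (hsing g hg).2 h.2, Pi.mul_apply,
        ← pow_two, a3]
      ring
    · rw [← (H.reg_val hg).2, hΘ, H.sum_reg hg, H.m3 2 g hg, Pi.mul_apply]
      linear_combination ζ (g ^ m 1) * conj (ζ (g ^ m 1)) * hd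
  have i1 : ∀ k ∈ Finset.Icc 1 t, classInner (fun g => ζ (g ^ m k)) Θ = 1 := fun k hk => by
    rw [← classInner_conj_symm, H.inner_sum hk, map_one]
  have i2 : classInner Θ Θ = t := by
    conv_lhs => enter [1]; rw [hΘ]
    rw [classInner_sum_left, Finset.sum_congr rfl i1]
    simp
  have s1 := Finset.sum_congr (s₁ := Finset.univ) rfl fun g _ => e1 g
  have s2 := Finset.sum_congr (s₁ := Finset.univ) rfl fun g _ => e2 g
  obtain ⟨b, hb⟩ := (H.irr.isCharacter.mul H.irr.isCharacter).exists_nat_inner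
    (H.irr' H.one_mem').isCharacter
  have hZ : (Finset.univ.filter fun g : G => g ∈ center G).card = Nat.card (center G) := by
    rw [← Fintype.card_subtype, Nat.card_eq_fintype_card]
  rw [Finset.sum_add_distrib, Finset.sum_sub_distrib, ← Finset.mul_sum, ← Finset.mul_sum,
    Finset.sum_add_distrib, ← Finset.sum_filter, ← Finset.sum_filter,
    hs (fun g => ζ (g ^ m 1)), hs, hs (fun g => ζ (g ^ m 2)), i2, i1 2 H.two_mem,
    (H.irr' H.one_mem').inner_self, Finset.sum_const, Finset.sum_const, hZ, ← hJ] at s1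
  rw [Finset.sum_add_distrib, Finset.sum_sub_distrib, ← Finset.mul_sum, ← Finset.sum_filter,
    hs _ (fun g => ζ (g ^ m 1)), hs _ (fun g => ζ (g ^ m 1)),
    hs (fun g => ζ (g ^ m 2)) (fun g => ζ (g ^ m 1)), hb, H.inner_sum H.one_mem',
    H.inner_eq H.two_mem H.one_mem', Finset.sum_const, ← hJ] at s2
  simp only [nsmul_eq_mul, mul_one, OfNat.ofNat_ne_one, if_false, mul_zero, add_zero] at s1 s2
  have ht : (2 * t + 1 : ℂ) = p := by exact_mod_cast H.ht
  have ht1 : (t : ℂ) - 1 ≠ 0 := sub_ne_zero.2 (by have := H.h3; exact_mod_cast (by omega))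
  have k1 : 2 * Nat.card G = p * (Nat.card (center G) * d ^ 2 + J) := by
    have : ((2 * Nat.card G : ℕ) : ℂ) = (p * (Nat.card (center G) * d ^ 2 + J) : ℕ) := by
      push_cast
      apply mul_left_cancel₀ ht1
      rw [← ht]
      linear_combination -s1
    exact_mod_cast this
  have k2 : Nat.card G * b + (d + 1) * J = 2 * Nat.card G := by
    have : ((Nat.card G * b + (d + 1) * J : ℕ) : ℂ) = (2 * Nat.card G : ℕ) := by
      push_cast
      linear_combination s2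
    exact_mod_cast this
  have hp' : p = d + 2 := by have := H.hd; have := H.ht; omega
  have h0 := Nat.card_pos (α := G)
  have h5 := H.d_ge
  rcases b with _ | _ | b
  · exfalso
    rw [hp'] at k1
    nlinarith [Nat.zero_le (Nat.card (center G) * d ^ 2)]
  · left
    have h1 : Nat.card G = (d + 1) * J := by omega
    have h2 : J = Nat.card (center G) * (p * d) := by
      apply Nat.eq_of_mul_eq_mul_left (show 0 < d by omega)
      rw [h1, hp'] at k1
      rw [hp']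
      nlinarith
    rw [h1, h2]; ring
  · right
    have h1 : J = 0 := by
      by_contra h1
      have := Nat.pos_of_ne_zero h1
      nlinarith [Nat.zero_le (Nat.card G * b)]
    rw [k1, h1]; ring

end Hyp

end Cfsg.Agent.Char.SubP
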