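import Mathlib
import Cfsg.Agent.Char.PrimeB0

/-!
Character theory for the theorem of Brauer and Reynolds: a perfect group with a self-centralizing
element of order `p` and few Sylow `p`-subgroups.
-/

set_option autoImplicit false
set_option linter.style.haveILetI false
set_option linter.unusedSectionVars false

namespace Cfsg.Agent.Char.SelfC

open Subgroup Cfsg.Agent.Small Cfsg.Agent.Grp Cfsg.Agent.Grp.SelfCent Cfsg.Agent.Char
open Cfsg.Agent.Block (cast_charDegree charDegree_eq_of_eq isIntegral_centralChar charDegree_ne_zero)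
open scoped ComplexConjugate

variable {G : Type*} [Group G] [Fintype G] {p : ℕ} [hp : Fact p.Prime] {x : G}

local notation "𝐏" => zpowers x
local notation "𝐂" => centralizer (Singleton.singleton x : Set G)
local notation "𝐍" => normalizer ((zpowers x : Subgroup G) : Set G)

namespace B0Data

variable (D : B0Data p x)

open Classical in
/-- the non-principal non-exceptional characters of sign `+1` -/
noncomputable def A : Finset (IrrCharacter G) := (D.X.erase (irrOne G)).filter (D.ε · = 1)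

open Classical in
/-- the non-exceptional characters of sign `-1` -/
noncomputable def B : Finset (IrrCharacter G) := (D.X.erase (irrOne G)).filter (¬ D.ε · = 1)

open Classical in
/-- the characters outside the principal block -/
noncomputable def R : Finset (IrrCharacter G) := Finset.univ \ (D.X ∪ D.Y)

theorem mem_A {χ : IrrCharacter G} : χ ∈ D.A ↔ χ ∈ D.X ∧ χ ≠ irrOne G ∧ D.ε χ = 1 := by
  simp only [A, Finset.mem_filter, Finset.mem_erase]; tauto

theorem mem_B {χ : IrrCharacter G} : χ ∈ D.B ↔ χ ∈ D.X ∧ χ ≠ irrOne G ∧ D.ε χ = -1 := by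
  simp only [B, Finset.mem_filter, Finset.mem_erase]
  constructor
  · rintro ⟨⟨h1, h2⟩, h3⟩
    exact ⟨h2, h1, (D.sign χ h2).resolve_left h3⟩
  · rintro ⟨h1, h2, h3⟩
    exact ⟨⟨h2, h1⟩, by rw [h3]; decide⟩

theorem mem_R {χ : IrrCharacter G} : χ ∈ D.R ↔ χ ∉ D.X ∧ χ ∉ D.Y := by
  simp [R]

theorem sum_X {M : Type*} [AddCommMonoid M] (h1 : irrOne G ∈ D.X) (f : IrrCharacter G → M) :
    ∑ χ ∈ D.X, f χ = f (irrOne G) + ∑ χ ∈ D.A, f χ + ∑ χ ∈ D.B, f χ := by
  classical
  rw [← Finset.add_sum_erase _ _ h1, add_assoc, A, B]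
  congr 1
  convert (Finset.sum_filter_add_sum_filter_not _ _ _).symm

theorem sum_univ {M : Type*} [AddCommMonoid M] (h1 : irrOne G ∈ D.X) (f : IrrCharacter G → M) :
    ∑ χ, f χ = f (irrOne G) + ∑ χ ∈ D.A, f χ + ∑ χ ∈ D.B, f χ + ∑ χ ∈ D.Y, f χ
      + ∑ χ ∈ D.R, f χ := by
  classical
  rw [← D.sum_X h1, ← Finset.sum_union D.disj, add_comm, R]
  convert (Finset.sum_sdiff (Finset.subset_univ (D.X ∪ D.Y))).symm

theorem card_e (h1 : irrOne G ∈ D.X) : D.e = 1 + D.A.card + D.B.card := by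
  have := D.sum_X h1 (fun _ => (1 : ℕ))
  simpa [D.cardX] using this

theorem rel' (h1 : irrOne G ∈ D.X) (hx : orderOf x = p) {θ : IrrCharacter G} (hθ : θ ∈ D.Y) {g : G}
    (hg : ¬ p ∣ orderOf g) : (D.δ : ℂ) * (θ : G → ℂ) g
      = 1 + ∑ χ ∈ D.A, (χ : G → ℂ) g - ∑ χ ∈ D.B, (χ : G → ℂ) g := by
  rw [D.rel θ hθ g hg, D.sum_X h1, D.ε_irrOne hx h1, irrOne_apply, sub_eq_add_neg,
    ← Finset.sum_neg_distrib]
  congr 1
  · congr 1
    · simp
    · exact Finset.sum_congr rfl fun χ hχ => by rw [(D.mem_A.1 hχ).2.2]; simp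
  · exact Finset.sum_congr rfl fun χ hχ => by rw [(D.mem_B.1 hχ).2.2]; simp

theorem irrOne_mem_X (hG : _root_.commutator G = ⊤) (ht : 2 ≤ D.Y.card) : irrOne G ∈ D.X := by
  refine D.irrOne_mem.resolve_right fun h => ?_
  have h1 : ∀ θ ∈ D.Y, θ = irrOne G := fun θ hθ => eq_irrOne_of_perfect hG (by
    rw [D.agree θ hθ _ h 1 not_dvd_orderOf_one, irrOne_apply])
  have := Finset.card_le_one.2 fun a ha b hb => (h1 a ha).trans (h1 b hb).symm
  omega

theorem mul_inner_X (hx : orderOf x = p) {χ : IrrCharacter G} (hχ : χ ∈ D.X) :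
    (p : ℂ) * classInner (indFun 𝐏 (fun _ => 1)) χ
      = charDegree (χ : G → ℂ) + ((p : ℂ) - 1) * D.ε χ := by
  haveI := Fintype.ofFinite 𝐏
  rw [(isCharacter_indFun _ isCharacter_one).inner_symm χ.2.isCharacter]
  have := card_mul_inner_ind 𝐏 χ.2.isClassFunction
  rw [card_zp hx] at this
  rw [this, sum_subgroup_eq fun z hz hz1 => D.valX' hχ hz hz1, card_zp hx,
    cast_charDegree χ.2.isCharacter]

theorem mul_inner_Θ (hx : orderOf x = p) :
    (p : ℂ) * ∑ θ ∈ D.Y, classInner (indFun 𝐏 (fun _ => 1)) θ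
      = (D.Y.card * D.d : ℕ) - ((p : ℂ) - 1) * D.δ := by
  haveI := Fintype.ofFinite 𝐏
  rw [← classInner_sum_right, ← Θ,
    (isCharacter_indFun _ isCharacter_one).inner_symm D.isCharacter_Θ]
  have := card_mul_inner_ind 𝐏 D.isCharacter_Θ.isClassFunction
  rw [card_zp hx] at this
  rw [this, sum_subgroup_eq (c := -D.δ) fun z hz hz1 => by rw [Θ_apply, D.sumY' hz hz1],
    card_zp hx, D.Θ_one]
  ring

theorem inner_Y_eq (h1 : irrOne G ∈ D.X) {φ : G → ℂ} (hφ : IsCharacter G φ) {c : ℂ}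
    (h : ∀ g, p ∣ orderOf g → φ g = c) {θ θ' : IrrCharacter G} (hθ : θ ∈ D.Y) (hθ' : θ' ∈ D.Y) :
    classInner φ θ = classInner φ θ' := by
  have h2 := inner_eq_of_vanish (p := p) (f := (θ : G → ℂ) - (θ' : G → ℂ)) (φ := φ)
    (fun g hg => by rw [Pi.sub_apply, D.agree θ hθ θ' hθ' g hg, sub_self]) h
  have h3 : ∀ θ ∈ D.Y, classInner (θ : G → ℂ) (fun _ => 1) = 0 := fun θ hθ =>
    θ.2.inner_eq_zero isIrrCharacter_one fun h => Finset.disjoint_left.1 D.disj h1
      ((Subtype.ext h : θ = irrOne G) ▸ hθ)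
  rw [classInner_sub_left, classInner_sub_left, h3 θ hθ, h3 θ' hθ', sub_self, mul_zero,
    sub_eq_zero] at h2
  rw [hφ.inner_symm θ.2.isCharacter, hφ.inner_symm θ'.2.isCharacter, h2]

variable {n : ℕ}

/-- hypotheses of the main analysis -/
structure Hyp (n : ℕ) : Prop where
  hx : orderOf x = p
  hC : 𝐂 = 𝐏
  hG : _root_.commutator G = ⊤
  hn : (𝐍).index = n * p + 1
  hn0 : 0 < n
  hT : ¬ Third p n
  ht : 2 ≤ D.Y.card

variable {D}

theorem Hyp.one (H : D.Hyp n) : irrOne G ∈ D.X := D.irrOne_mem_X H.hG H.ht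

theorem Hyp.he (H : D.Hyp n) : (𝐏).relIndex 𝐍 = D.e := by rw [← D.he, H.hC]

theorem Hyp.degA (H : D.Hyp n) {χ : IrrCharacter G} (hχ : χ ∈ D.A) :
    charDegree (χ : G → ℂ) = n * p + 1 := by
  obtain ⟨h1, h2, h3⟩ := D.mem_A.1 hχ
  rcases D.degX_cases H.hx H.hn H.hT h1 with ⟨-, h | h⟩ | ⟨h, -⟩
  · refine absurd (eq_irrOne_of_perfect H.hG ?_) h2
    rw [← cast_charDegree χ.2.isCharacter, h, Nat.cast_one]
  · exact h
  · omega

theorem Hyp.degB (H : D.Hyp n) {χ : IrrCharacter G} (hχ : χ ∈ D.B) :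
    charDegree (χ : G → ℂ) = p - 1 := by
  obtain ⟨h1, h2, h3⟩ := D.mem_B.1 hχ
  rcases D.degX_cases H.hx H.hn H.hT h1 with ⟨h, -⟩ | ⟨-, h | h⟩
  · omega
  · exact h
  · have h4 := D.dvd_X H.hx h1
    rw [h, D.index_C, H.hn, ← D.cardY] at h4
    have h5 := Nat.le_of_dvd D.e_pos (Nat.dvd_of_mul_dvd_mul_right (Nat.succ_pos _) h4)
    have := H.ht
    have := D.e_pos
    nlinarith

theorem Hyp.deg_eq (H : D.Hyp n) :
    D.δ * D.d = 1 + D.A.card * (n * p + 1) - D.B.card * (p - 1 : ℤ) := by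
  obtain ⟨θ, hθ⟩ := D.Y_nonempty
  have h := D.rel' H.one H.hx hθ not_dvd_orderOf_one
  rw [D.degY θ hθ, Finset.sum_congr rfl (g := fun _ => (n * p + 1 : ℂ)) fun χ hχ => by
      rw [← cast_charDegree χ.2.isCharacter, H.degA hχ]; simp,
    Finset.sum_congr (s₁ := D.B) rfl (g := fun _ => (p - 1 : ℂ)) fun χ hχ => by
      rw [← cast_charDegree χ.2.isCharacter, H.degB hχ, Nat.cast_sub hp.out.one_le]; simp] at h
  simp only [Finset.sum_const, nsmul_eq_mul] at h
  exact_mod_cast h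

/-- the two possible numerical configurations -/
theorem Hyp.cases (H : D.Hyp n) :
    (D.δ = 1 ∧ D.d = D.e ∧ D.A.card * (n + 1) + 1 = D.e) ∨
    (D.δ = -1 ∧ D.Y.card * D.d = n * p + 1 ∧ ∃ s, D.Y.card * s = n + 1 ∧
      D.A.card * (n + 1) + s + 1 = D.e ∧ D.B.card = D.A.card * n + s) := by
  have h1 := H.deg_eq
  have h2 := D.card_e H.one
  have h3 := D.cardY
  have h4 := H.ht
  have h5 := H.hn0
  have h6 := hp.out.two_le
  have h7 : (D.Y.card : ℤ) * D.e = p - 1 := by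
    rw [← Nat.cast_mul, h3, Nat.cast_sub hp.out.one_le]; simp
  have hp0 : (p : ℤ) ≠ 0 := by omega
  have h2' : (D.e : ℤ) = 1 + D.A.card + D.B.card := by exact_mod_cast h2
  rcases D.degY_cases H.hx H.hn H.hT with ⟨hδ, h | h⟩ | ⟨hδ, h | h⟩
  · have := Nat.eq_one_of_mul_eq_one_right h
    omega
  · right
    refine ⟨hδ, h, ?_⟩
    have h8 : (D.Y.card : ℤ) * D.d = n * p + 1 := by exact_mod_cast h
    rw [hδ] at h1
    have h9 : (D.Y.card : ℤ) * (D.B.card - D.A.card * n) = n + 1 := by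
      apply mul_left_cancel₀ hp0
      linear_combination (D.Y.card : ℤ) * h1 + h8 + h7 - D.Y.card * h2'
    have h10 : D.A.card * n ≤ D.B.card := by
      by_contra h11
      have h12 : (D.B.card : ℤ) - D.A.card * n ≤ 0 := by
        have : (D.B.card : ℤ) < D.A.card * n := by exact_mod_cast not_le.1 h11
        omega
      nlinarith
    obtain ⟨s, hs⟩ := Nat.exists_eq_add_of_le h10
    refine ⟨s, ?_, by rw [h2, hs]; ring, hs⟩
    rw [hs] at h9
    push_cast at h9
    exact_mod_cast (by linear_combination h9 : (D.Y.card : ℤ) * s = n + 1)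
  · left
    have h8 : D.d = D.e := Nat.eq_of_mul_eq_mul_left (by omega) (h.trans h3.symm)
    refine ⟨hδ, h8, ?_⟩
    rw [hδ, h8] at h1
    have h9 : (D.B.card : ℤ) = D.A.card * n := by
      apply mul_left_cancel₀ hp0
      linear_combination h1 - h2'
    have h10 : D.B.card = D.A.card * n := by exact_mod_cast h9
    rw [h2, h10]; ring
  · exfalso
    have h8 : D.d = D.e * (n * p + 1) :=
      Nat.eq_of_mul_eq_mul_left (by omega : 0 < D.Y.card) (by rw [h, ← mul_assoc, h3])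
    rw [hδ, h8] at h1
    push_cast at h1
    have h9 : (D.e : ℤ) * n = D.A.card * n - D.B.card := by
      apply mul_left_cancel₀ hp0
      linear_combination h1 - h2'
    have h10 : (0 : ℤ) < n := by exact_mod_cast h5
    nlinarith

/-- decomposition of `1_P^G - 1_N^G` -/
theorem Hyp.ind_sub (H : D.Hyp n) {s : ℕ}
    (hs : (D.δ = 1 ∧ D.d = D.e ∧ s = 0) ∨ (D.δ = -1 ∧ D.Y.card * D.d = n * p + 1 ∧
      D.Y.card * s = n + 1)) (he : D.A.card * (n + 1) + s + 1 = D.e) :
    indFun 𝐏 (fun _ => 1) - indFun 𝐍 (fun _ => 1)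
      = ((n + 1 : ℕ) : ℂ) • ∑ χ ∈ D.A, (χ : G → ℂ) + (s : ℂ) • D.Θ := by
  have hp0 : (p : ℂ) ≠ 0 := Nat.cast_ne_zero.2 hp.out.ne_zero
  have hα : IsCharacter G (indFun 𝐏 (fun _ => 1)) := isCharacter_indFun _ isCharacter_one
  have hβ : IsCharacter G (indFun 𝐍 (fun _ => 1)) := isCharacter_indFun _ isCharacter_one
  obtain ⟨r, hr, -⟩ := hα.exists_coeff
  obtain ⟨b, hb, hb2⟩ := hβ.exists_coeff
  obtain ⟨c, hc, hc2⟩ := (isCharacter_ind_sub (le_normalizer (H := 𝐏))).exists_coeff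
  have hrbc : ∀ χ, r χ = b χ + c χ := fun χ => by
    have := hc χ
    rw [classInner_sub_left, hr, hb] at this
    exact_mod_cast (by linear_combination this : (r χ : ℂ) = b χ + c χ)
  have hr1 : r (irrOne G) = 1 := by
    have := D.mul_inner_X H.hx H.one
    rw [hr, D.ε_irrOne H.hx H.one, cast_charDegree (irrOne G).2.isCharacter, irrOne_apply] at this
    exact_mod_cast mul_left_cancel₀ hp0 (by linear_combination this : (p : ℂ) * r _ = p * 1)
  have hb1 : b (irrOne G) = 1 := by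
    classical
    have := hb (irrOne G)
    rw [classInner_indFun_left _ _ (irrOne G).2.isClassFunction] at this
    exact_mod_cast this.symm.trans isIrrCharacter_one.inner_self
  have hrA : ∀ χ ∈ D.A, r χ = n + 1 := fun χ hχ => by
    have := D.mul_inner_X H.hx (D.mem_A.1 hχ).1
    rw [hr, (D.mem_A.1 hχ).2.2, H.degA hχ] at this
    push_cast at this
    exact_mod_cast mul_left_cancel₀ hp0 (by linear_combination this : (p : ℂ) * r _ = p * (n + 1))
  have hrB : ∀ χ ∈ D.B, r χ = 0 := fun χ hχ => by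
    have := D.mul_inner_X H.hx (D.mem_B.1 hχ).1
    rw [hr, (D.mem_B.1 hχ).2.2, H.degB hχ, Nat.cast_sub hp.out.one_le] at this
    push_cast at this
    exact_mod_cast mul_left_cancel₀ hp0 (by linear_combination this : (p : ℂ) * r _ = p * 0)
  obtain ⟨θ₀, hθ₀⟩ := D.Y_nonempty
  have hrY0 : ∀ θ ∈ D.Y, r θ = r θ₀ := fun θ hθ => by
    have := D.inner_Y_eq H.one hα (fun g hg => indP_of_dvd H.hx H.hC hg) hθ hθ₀
    rw [hr, hr] at this
    exact_mod_cast this
  have hbY0 : ∀ θ ∈ D.Y, b θ = b θ₀ := fun θ hθ => by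
    have := D.inner_Y_eq H.one hβ (fun g hg => indN_of_dvd H.hx H.hC hg) hθ hθ₀
    rw [hb, hb] at this
    exact_mod_cast this
  have hrY : r θ₀ = s := by
    have h1 := D.mul_inner_Θ H.hx
    rw [Finset.sum_congr rfl (g := fun _ => (r θ₀ : ℂ)) fun θ hθ => by rw [hr, hrY0 θ hθ],
      Finset.sum_const, nsmul_eq_mul] at h1
    have ht0 : (D.Y.card : ℂ) ≠ 0 := Nat.cast_ne_zero.2 D.card_Y_pos.ne'
    have : (r θ₀ : ℂ) = s := by
      refine mul_left_cancel₀ ht0 (mul_left_cancel₀ hp0 ?_)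
      rcases hs with ⟨h2, h3, h4⟩ | ⟨h2, h3, h4⟩
      · rw [h1, h2, h3, h4, D.cardY, Nat.cast_sub hp.out.one_le]; simp
      · rw [h1, h2, h3, ← Nat.cast_mul, h4]; push_cast; ring
    exact_mod_cast this
  have hxd : p ∣ orderOf x := by rw [H.hx]
  have hx1 := ne_one H.hx
  have hval := congrFun hb2 x
  rw [indN_of_dvd H.hx H.hC hxd, Finset.sum_apply, D.sum_univ H.one] at hval
  simp only [Pi.smul_apply, smul_eq_mul] at hval
  rw [hb1, irrOne_apply,
    Finset.sum_congr (s₁ := D.A) rfl (g := fun χ => (b χ : ℂ)) fun χ hχ => by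
      rw [D.valX' (D.mem_A.1 hχ).1 (mem_zpowers x) hx1, (D.mem_A.1 hχ).2.2]; simp,
    Finset.sum_eq_zero (s := D.B) fun χ hχ => by
      have := hrbc χ
      rw [hrB χ hχ] at this
      rw [show b χ = 0 by omega]; simp,
    Finset.sum_congr (s₁ := D.Y) rfl (g := fun χ => (b θ₀ : ℂ) * (χ : G → ℂ) x) fun χ hχ => by
      rw [hbY0 χ hχ],
    ← Finset.mul_sum, D.sumY' (mem_zpowers x) hx1,
    Finset.sum_eq_zero (s := D.R) fun χ hχ => by
      rw [D.out H.hC χ (D.mem_R.1 hχ).1 (D.mem_R.1 hχ).2 x hxd, mul_zero]] at hval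
  have hz : (∑ χ ∈ D.A, b χ) + b θ₀ = 0 := by
    rcases hs with ⟨h2, -, h4⟩ | ⟨h2, -, -⟩
    · have h5 : b θ₀ = 0 := by have := hrbc θ₀; omega
      rw [h5] at hval ⊢
      have : ((∑ χ ∈ D.A, b χ : ℕ) : ℂ) = 0 := by push_cast at hval ⊢; linear_combination -hval
      exact_mod_cast this
    · rw [h2] at hval
      have : (((∑ χ ∈ D.A, b χ) + b θ₀ : ℕ) : ℂ) = 0 := by
        push_cast at hval ⊢; linear_combination -hval
      exact_mod_cast this
  have hc1 : c (irrOne G) = 0 := by have := hrbc (irrOne G); omega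
  have hcA : ∀ χ ∈ D.A, c χ = n + 1 := fun χ hχ => by
    have h1 := hrbc χ
    have h2 := Finset.sum_eq_zero_iff.1 (Nat.eq_zero_of_add_eq_zero_right hz) χ hχ
    rw [hrA χ hχ] at h1
    omega
  have hcB : ∀ χ ∈ D.B, c χ = 0 := fun χ hχ => by
    have h1 := hrbc χ
    rw [hrB χ hχ] at h1
    omega
  have hcY : ∀ χ ∈ D.Y, c χ = s := fun χ hχ => by
    have h1 := hrbc χ
    rw [hrY0 χ hχ, hbY0 χ hχ] at h1
    omega
  rw [D.sum_univ H.one, hc1,
    Finset.sum_congr (s₁ := D.A) rfl (g := fun χ => ((n + 1 : ℕ) : ℂ) • (χ : G → ℂ))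
      fun χ hχ => by rw [hcA χ hχ],
    Finset.sum_eq_zero (s := D.B) fun χ hχ => by rw [hcB χ hχ]; simp,
    Finset.sum_congr (s₁ := D.Y) rfl (g := fun χ => (s : ℂ) • (χ : G → ℂ))
      fun χ hχ => by rw [hcY χ hχ],
    ← Finset.smul_sum, ← Finset.smul_sum, ← Θ] at hc2
  simp only [Nat.cast_zero, zero_smul, zero_add, add_zero] at hc2
  have hR : ∑ χ ∈ D.R, (c χ : ℂ) • (χ : G → ℂ) = 0 := by
    refine (isCharacter_sum _ _ fun χ _ => χ.2.isCharacter.natCast_smul _).eq_zero_of_one ?_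
    have h1 := congrFun hc2 1
    simp only [Pi.sub_apply, Pi.add_apply, Pi.smul_apply, smul_eq_mul] at h1
    rw [indFun_one, indFun_one, H.hn, ← H.hC, D.index_C, H.hn, D.Θ_one, Finset.sum_apply,
      Finset.sum_congr (s₁ := D.A) rfl (g := fun _ => ((n * p + 1 : ℕ) : ℂ)) fun χ hχ => by
        rw [← cast_charDegree χ.2.isCharacter, H.degA hχ], Finset.sum_const, ← he] at h1
    rcases hs with ⟨-, -, h4⟩ | ⟨-, h3, -⟩
    · rw [h4] at h1
      simp only [nsmul_eq_mul] at h1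
      push_cast at h1
      linear_combination -h1
    · rw [h3] at h1
      simp only [nsmul_eq_mul] at h1
      push_cast at h1
      linear_combination -h1
  rw [hc2, hR, add_zero]

omit hp in
theorem _root_.Cfsg.Agent.Char.SelfC.sum_eq_of_vanish {H K : Subgroup G} [Fintype H] [Fintype K]
    (hHK : H ≤ K) {f : G → ℂ} (hf : ∀ g ∈ K, g ∉ H → f g = 0) : ∑ k : K, f k = ∑ h : H, f h := by
  classical
  rw [← Finset.sum_subtype (Finset.univ.filter (· ∈ K)) (p := (· ∈ K)) (by simp) f,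
    ← Finset.sum_subtype (Finset.univ.filter (· ∈ H)) (p := (· ∈ H)) (by simp) f]
  symm
  refine Finset.sum_subset (fun g hg => ?_) fun g hg hg' => hf g (by simpa using hg)
    (by simpa using hg')
  simp only [Finset.mem_filter, Finset.mem_univ, true_and] at hg ⊢
  exact hHK hg

theorem Hyp.case_one (H : D.Hyp n) (hδ : D.δ = 1) (hd : D.d = D.e)
    (he : D.A.card * (n + 1) + 1 = D.e) (he1 : D.e ≠ 1) : n = 1 ∧ D.Y.card = 2 := by
  classical
  have hp0 : (p : ℂ) ≠ 0 := Nat.cast_ne_zero.2 hp.out.ne_zero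
  have hγ := H.ind_sub (s := 0) (Or.inl ⟨hδ, hd, rfl⟩) he
  have hα : IsCharacter G (indFun 𝐏 (fun _ => 1)) := isCharacter_indFun _ isCharacter_one
  obtain ⟨r, hr, -⟩ := hα.exists_coeff
  obtain ⟨θ, hθ⟩ := D.Y_nonempty
  have hr0 : r θ = 0 := by
    have h1 := D.mul_inner_Θ H.hx
    rw [hd, D.cardY, hδ, Nat.cast_sub hp.out.one_le, Finset.sum_congr rfl fun θ _ => hr θ] at h1
    have h2 : ((∑ θ ∈ D.Y, r θ : ℕ) : ℂ) = 0 := by
      push_cast at h1 ⊢
      exact mul_left_cancel₀ hp0 (by linear_combination h1)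
    exact Finset.sum_eq_zero_iff.1 (Nat.cast_eq_zero.1 h2) θ hθ
  have hsum : ∑ z : 𝐏, (θ : G → ℂ) z = 0 := by
    rw [← card_mul_inner_ind 𝐏 θ.2.isClassFunction, θ.2.isCharacter.inner_symm hα, hr, hr0]
    simp
  have hφ : IsCharacter G ((θ : G → ℂ) * fun g => conj ((θ : G → ℂ) g)) :=
    θ.2.isCharacter.mul θ.2.isCharacter.conj
  set φ := (θ : G → ℂ) * fun g => conj ((θ : G → ℂ) g) with hφdef
  obtain ⟨m, hm, hm2⟩ := hφ.exists_coeff
  obtain ⟨R, hR⟩ := (θ.2.isCharacter.restrict 𝐏).exists_nat_inner (θ.2.isCharacter.restrict 𝐏)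
  have hRe : D.e ≤ R := by
    refine one_le_inner_self ?_ (θ.2.isCharacter.restrict 𝐏) ?_ hR
    · rintro ⟨_, i, rfl⟩ ⟨_, j, rfl⟩
      exact Subtype.ext (Commute.zpow_zpow_self x i j).eq
    · rw [← hd]; exact D.degY θ hθ
  have hP : ∑ z : 𝐏, φ z = p * R := by
    rw [← hR, ← card_zp H.hx, ← sum_mul_conj_eq]; rfl
  have h1 : classInner φ (indFun 𝐏 (fun _ => 1)) = R := by
    apply mul_left_cancel₀ hp0
    rw [← hP, ← card_mul_inner_ind 𝐏 hφ.isClassFunction, card_zp H.hx]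
  have h2 : D.e * classInner φ (indFun 𝐍 (fun _ => 1)) = R := by
    apply mul_left_cancel₀ hp0
    rw [← hP, ← sum_eq_of_vanish (le_normalizer (H := 𝐏)) fun g hg hgP => by
      rw [hφdef, Pi.mul_apply, apply_eq_zero H.hx H.hC θ.2.isCharacter hsum hg hgP, zero_mul],
      ← card_mul_inner_ind 𝐍 hφ.isClassFunction, card_normalizer H.hx, H.he]
    push_cast; ring
  have h3 : classInner φ (indFun 𝐏 (fun _ => 1) - indFun 𝐍 (fun _ => 1))
      = (n + 1) * (∑ χ ∈ D.A, m χ : ℕ) := by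
    rw [hγ, Nat.cast_zero, zero_smul, add_zero, classInner_smul_right, classInner_sum_right,
      Finset.sum_congr rfl fun χ _ => hm χ]
    simp
  rw [classInner_sub_right, h1] at h3
  set M := ∑ χ ∈ D.A, m χ with hM
  have h4 : D.e * ((n + 1) * M) + R = D.e * R := by
    have : ((D.e * ((n + 1) * M) + R : ℕ) : ℂ) = (D.e * R : ℕ) := by
      push_cast
      linear_combination (-D.e : ℂ) * h3 - h2
    exact_mod_cast this
  have hm1 : m (irrOne G) = 1 := by
    have := hm (irrOne G)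
    rw [show ((irrOne G : IrrCharacter G) : G → ℂ) = fun _ => 1 from rfl,
      classInner_one_right] at this
    exact_mod_cast this.symm.trans (θ.2.inner_self.symm.trans (classInner_def _ _)).symm
  have h5 : 1 + (n * p + 1) * M ≤ D.e ^ 2 := by
    have h6 := congrFun hm2 1
    rw [hφdef, Pi.mul_apply, D.degY θ hθ, hd, Finset.sum_apply] at h6
    have h7 : D.e ^ 2 = ∑ χ, m χ * charDegree (χ : G → ℂ) := by
      have : ((D.e ^ 2 : ℕ) : ℂ) = (∑ χ, m χ * charDegree (χ : G → ℂ) : ℕ) := by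
        push_cast
        rw [sq]
        refine Eq.trans (by simp) (h6.trans (Finset.sum_congr rfl fun χ _ => ?_))
        rw [cast_charDegree χ.2.isCharacter]; rfl
      exact_mod_cast this
    rw [h7, D.sum_univ H.one, hm1, charDegree_eq_of_eq (n := 1) (by simp [irrOne_apply]),
      Finset.sum_congr (s₁ := D.A) rfl (g := fun χ => (n * p + 1) * m χ) fun χ hχ => by
        rw [H.degA hχ, mul_comm], ← Finset.mul_sum, ← hM]
    omega
  have h8 := D.cardY
  have h9 := H.ht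
  have h10 := H.hn0
  have h11 := D.e_pos
  have h12 := hp.out.two_le
  obtain ⟨e', he'⟩ : ∃ e', D.e = e' + 1 := ⟨D.e - 1, by omega⟩
  rw [he'] at h4 h5 h8 hRe
  have he0 : 0 < e' := by omega
  have hp' : p = D.Y.card * (e' + 1) + 1 := by omega
  have h13 : e' ≤ (n + 1) * M := by
    apply Nat.le_of_mul_le_mul_left _ (Nat.succ_pos e')
    nlinarith
  have h14 : n * p + 1 ≤ (n + 1) * (e' + 2) := by
    apply Nat.le_of_mul_le_mul_left _ he0
    have h5' : (n * p + 1) * M ≤ e' * (e' + 2) := by nlinarith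
    calc e' * (n * p + 1) ≤ (n + 1) * M * (n * p + 1) := Nat.mul_le_mul_right _ h13
      _ = (n + 1) * ((n * p + 1) * M) := by ring
      _ ≤ (n + 1) * (e' * (e' + 2)) := Nat.mul_le_mul_left _ h5'
      _ = _ := by ring
  rw [hp'] at h14
  have h15 : n * D.Y.card ≤ n + 1 := by
    apply Nat.le_of_mul_le_mul_left _ (Nat.succ_pos e')
    nlinarith
  have h16 : n = 1 := by nlinarith
  subst h16
  omega

theorem Hyp.case_three (H : D.Hyp n) (hp2 : p ≠ 2) (hte : Even D.Y.card) (hδ : D.δ = -1)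
    (hd : D.Y.card * D.d = n * p + 1) {s : ℕ} (hs : D.Y.card * s = n + 1)
    (he : D.A.card * (n + 1) + s + 1 = D.e) {y : G} (hy : (y ∈ 𝐍 ∧ y ∉ 𝐏) ∨ 2 ∣ orderOf y) :
    Nat.card {g : G // g⁻¹ * y * g ∈ 𝐍} = (n + 1) * Nat.card 𝐍 := by
  classical
  have hp0 : (p : ℂ) ≠ 0 := Nat.cast_ne_zero.2 hp.out.ne_zero
  have hreg : ¬ p ∣ orderOf y := by
    rcases hy with ⟨h1, h2⟩ | h
    · exact not_dvd_of_not_mem H.hx H.hC h1 h2
    · intro h1
      rw [orderOf_eq_of_dvd H.hx H.hC h1] at h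
      exact hp2 ((Nat.prime_dvd_prime_iff_eq Nat.prime_two hp.out).1 h).symm
  have hy1 : y ≠ 1 := by
    rintro rfl
    rcases hy with ⟨-, h2⟩ | h
    · exact h2 (one_mem _)
    · simp at h
  have hB : ∑ χ ∈ D.B, (χ : G → ℂ) y = 0 := by
    refine Finset.sum_eq_zero fun χ hχ => ?_
    have hdeg : (χ : G → ℂ) 1 = (p - 1 : ℕ) := by
      rw [← cast_charDegree χ.2.isCharacter, H.degB hχ]
    rcases hy with ⟨h1, h2⟩ | h
    · refine apply_eq_zero H.hx H.hC χ.2.isCharacter ?_ h1 h2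
      rw [sum_subgroup_eq fun z hz hz1 => D.valX' (D.mem_B.1 hχ).1 hz hz1, card_zp H.hx,
        (D.mem_B.1 hχ).2.2, hdeg, Nat.cast_sub hp.out.one_le]
      simp
    · refine χ.2.eq_zero_of_defect_zero (r := p * D.d) Nat.prime_two hdeg ?_ ?_ h
      · rw [← card_mul_index 𝐍, card_normalizer H.hx, H.he, H.hn, ← hd, ← D.cardY]; ring
      · rw [Nat.Prime.dvd_mul Nat.prime_two]
        rintro (h1 | h1)
        · exact hp2 ((Nat.prime_dvd_prime_iff_eq Nat.prime_two hp.out).1 h1).symm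
        · have h2 : D.d = n * D.e + s := by
            apply Nat.eq_of_mul_eq_mul_left D.card_Y_pos
            have h3 := D.cardY
            have h4 := hp.out.two_le
            have h5 : p = D.Y.card * D.e + 1 := by omega
            rw [hd, mul_add, hs]
            nth_rewrite 1 [h5]
            ring
          obtain ⟨k, hk⟩ := hte
          obtain ⟨l, hl⟩ := h1
          rw [hk] at hs
          have h6 : n = 2 * (k * s - 1) + 1 := by
            have : (k + k) * s = 2 * (k * s) := by ring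
            omega
          rw [← he, hl, h6] at h2
          have h7 : 2 ∣ 1 := by
            have h8 : (2 * (k * s - 1) + 1) * (D.A.card * (2 * (k * s - 1) + 1 + 1) + s + 1) + s
              = 2 * ((k * s - 1) * (D.A.card * (2 * (k * s - 1) + 1 + 1) + s + 1)
                + D.A.card * (k * s - 1 + 1) + s) + 1 := by ring
            omega
          omega
  obtain ⟨θ, hθ⟩ := D.Y_nonempty
  have h1 := D.rel' H.one H.hx hθ hreg
  have h2 := congrFun (H.ind_sub (Or.inr ⟨hδ, hd, hs⟩) he) y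
  simp only [Pi.sub_apply, Pi.add_apply, Pi.smul_apply, smul_eq_mul, Finset.sum_apply] at h2
  rw [indP_of_not_dvd H.hx hreg hy1, Θ_apply,
    Finset.sum_congr (s₁ := D.Y) rfl fun θ' hθ' => D.agree θ' hθ' θ hθ y hreg, Finset.sum_const,
    PermChar.indFun_one_apply, nsmul_eq_mul] at h2
  rw [hδ, hB] at h1
  have h3 : (D.Y.card : ℂ) * s = n + 1 := by exact_mod_cast hs
  have h4 : (Nat.card 𝐍 : ℂ)⁻¹ * Nat.card {g : G // g⁻¹ * y * g ∈ 𝐍} = n + 1 := by
    generalize (Nat.card 𝐍 : ℂ)⁻¹ * Nat.card {g : G // g⁻¹ * y * g ∈ 𝐍} = w at h2 ⊢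
    push_cast at h1 h2
    linear_combination (-1 : ℂ) * h2 + (n + 1 : ℂ) * h1 - (θ : G → ℂ) y * h3
  rw [inv_mul_eq_iff_eq_mul₀ (card_ne_zero _), mul_comm] at h4
  exact_mod_cast h4

end B0Data

end Cfsg.Agent.Char.SelfC
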