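import Mathlib
import Cfsg.Agent.Char.SelfCentChar
import Cfsg.Agent.Small.SL2Invol

/-!
The group-theoretic end of the theorem of Brauer and Reynolds.
-/

set_option autoImplicit false
set_option linter.style.haveILetI false
set_option linter.unusedSectionVars false

namespace Cfsg.Agent.Char.SelfC

open Subgroup Cfsg.Agent.Small Cfsg.Agent.Grp Cfsg.Agent.Grp.SelfCent Cfsg.Agent.Char

variable {G : Type*} [Group G] [Finite G] {p : ℕ} [hp : Fact p.Prime] {x : G}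

local notation "𝐏" => zpowers x
local notation "𝐂" => centralizer (Singleton.singleton x : Set G)
local notation "𝐍" => normalizer ((zpowers x : Subgroup G) : Set G)

theorem eq_one_of_commute_of_not_mem (hx : orderOf x = p) (hC : 𝐂 = 𝐏) {y z : G} (hy : y ∉ 𝐏)
    (hz : z ∈ 𝐏) (h : y * z = z * y) : z = 1 := by
  by_contra h1
  exact hy (centralizer_of_mem hx hC hz h1 ▸ mem_centralizer_singleton_iff.2 h)

theorem not_mem_zp_of_two (hx : orderOf x = p) (hp2 : p ≠ 2) {u : G} (hu : orderOf u = 2) :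
    u ∉ 𝐏 := fun h => hp2 (by
  rw [← hu, orderOf_of_mem_zp hx h]
  rintro rfl
  simp at hu)

theorem conj_eq_inv (hx : orderOf x = p) (hC : 𝐂 = 𝐏) (hp2 : p ≠ 2) {u : G} (hu : orderOf u = 2)
    (huN : u ∈ 𝐍) : u * x * u⁻¹ = x⁻¹ := by
  have h1 : u * x * u⁻¹ ∈ 𝐏 := (mem_normalizer_iff.1 huN x).1 (mem_zpowers x)
  have h2 : u * u = 1 := by rw [← sq, ← hu, pow_orderOf_eq_one]
  have h3 : x * (u * x * u⁻¹) = (u * x * u⁻¹) * x :=
    (mem_centralizer_singleton_iff.1 (hC ▸ h1)).symm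
  have h4 := eq_one_of_commute_of_not_mem hx hC (not_mem_zp_of_two hx hp2 hu)
    (mul_mem (mem_zpowers x) h1) (by
      calc u * (x * (u * x * u⁻¹)) = (u * x * u⁻¹) * ((u * u) * x * (u * u)⁻¹) * u := by group
        _ = x * (u * x * u⁻¹) * u := by rw [h2, h3]; group)
  exact eq_inv_of_mul_eq_one_right h4

theorem exists_conj_involution (hx : orderOf x = p) (hC : 𝐂 = 𝐏) (hp2 : p ≠ 2) {u v : G}
    (hu : orderOf u = 2) (huN : u ∈ 𝐍) (hv : orderOf v = 2) (hvN : v ∈ 𝐍) :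
    ∃ w ∈ 𝐏, w * u * w⁻¹ = v := by
  have h1 := conj_eq_inv hx hC hp2 hu huN
  have h2 := conj_eq_inv hx hC hp2 hv hvN
  have h3 : v * u⁻¹ ∈ 𝐏 := by
    rw [← hC, mem_centralizer_singleton_iff]
    calc v * u⁻¹ * x = v * u⁻¹ * (x⁻¹)⁻¹ := by group
      _ = (v * x * v⁻¹)⁻¹ * (v * u⁻¹) := by rw [← h1]; group
      _ = x * (v * u⁻¹) := by rw [h2]; group
  obtain ⟨w, hw, h⟩ := exists_conj_eq_mul hx hC huN (not_mem_zp_of_two hx hp2 hu) h3
  exact ⟨w, hw, by rw [h]; group⟩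

theorem pow_relIndex_eq_one (hx : orderOf x = p) (hC : 𝐂 = 𝐏) {y : G} (hy : y ∈ 𝐍) (hyP : y ∉ 𝐏) :
    y ^ (𝐏).relIndex 𝐍 = 1 := by
  refine eq_one_of_mem_zp hx ?_ fun h =>
    not_dvd_of_not_mem hx hC hy hyP (h.trans (orderOf_pow_dvd _))
  exact pow_index_mem (H := (𝐏).subgroupOf 𝐍) (⟨y, hy⟩ : 𝐍)

omit hp in
theorem card_of_mul {L Q : Subgroup G} (h : L ⊓ Q = ⊥) (S : Set G)
    (hS : ∀ g, g ∈ S ↔ ∃ l ∈ L, ∃ w ∈ Q, g = l * w) : Nat.card S = Nat.card L * Nat.card Q := by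
  rw [← Nat.card_prod]
  symm
  refine Nat.card_congr (Equiv.ofBijective
    (fun a => ⟨a.1.1 * a.2.1, (hS _).2 ⟨_, a.1.2, _, a.2.2, rfl⟩⟩) ⟨?_, ?_⟩)
  · rintro ⟨l, w⟩ ⟨l', w'⟩ h1
    have h2 : l.1 * w.1 = l'.1 * w'.1 := congrArg Subtype.val h1
    have h3 : l'.1⁻¹ * l.1 = w'.1 * w.1⁻¹ := by
      calc l'.1⁻¹ * l.1 = l'.1⁻¹ * (l.1 * w.1) * w.1⁻¹ := by group
        _ = _ := by rw [h2]; group
    have h4 : l'.1⁻¹ * l.1 ∈ L ⊓ Q :=
      mem_inf.2 ⟨mul_mem (inv_mem l'.2) l.2, h3 ▸ mul_mem w'.2 (inv_mem w.2)⟩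
    rw [h, mem_bot] at h4
    rw [h4] at h3
    exact Prod.ext (Subtype.ext (inv_mul_eq_one.1 h4).symm)
      (Subtype.ext (mul_inv_eq_one.1 h3.symm).symm)
  · rintro ⟨g, hg⟩
    obtain ⟨l, hl, w, hw, rfl⟩ := (hS g).1 hg
    exact ⟨(⟨l, hl⟩, ⟨w, hw⟩), rfl⟩

omit hp in
theorem mem_zpowers_mul_of_odd {z u : G} (hu : orderOf u = 2) (hz : Odd (orderOf z))
    (h : Commute z u) : u ∈ zpowers (z * u) ∧ z ∈ zpowers (z * u) := by
  have h2 : u * u = 1 := by rw [← sq, ← hu, pow_orderOf_eq_one]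
  have h1 : (z * u) ^ orderOf z = u := by
    rw [h.mul_pow, pow_orderOf_eq_one, one_mul]
    obtain ⟨k, hk⟩ := hz
    rw [hk, pow_succ, pow_mul, sq, h2, one_pow, one_mul]
  have h3 : u ∈ zpowers (z * u) := by
    have := pow_mem (mem_zpowers (z * u)) (orderOf z)
    rwa [h1] at this
  refine ⟨h3, ?_⟩
  simpa using mul_mem (mem_zpowers (z * u)) (inv_mem h3)

theorem endgame (hx : orderOf x = p) (hC : 𝐂 = 𝐏) (hp2 : p ≠ 2) {n t e s a : ℕ}
    (hn : (𝐍).index = n * p + 1) (he : (𝐏).relIndex 𝐍 = e) (hte : t * e = p - 1)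
    (hs : t * s = n + 1) (ha : a * (n + 1) + s + 1 = e) (ht : Even t)
    (hT : ∀ y : G, (y ∈ 𝐍 ∧ y ∉ 𝐏) ∨ 2 ∣ orderOf y →
      Nat.card {g : G // g⁻¹ * y * g ∈ 𝐍} = (n + 1) * Nat.card 𝐍) :
    (n = 1 ∧ t = 2) ∨ ∃ (u : G) (m : ℕ), orderOf u = 2 ∧ 2 ≤ m ∧ p = 2 ^ m + 1 ∧
      Nat.card (centralizer ({u} : Set G)) = 2 ^ m ∧
      (∀ v ∈ centralizer ({u} : Set G), v * v = 1) ∧ (∀ v : G, orderOf v = 2 → IsConj u v) ∧
      Nat.card G = (2 ^ m + 1) * 2 ^ m * (2 ^ m - 1) := by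
  have hp1 := hp.out.two_le
  have hpe : p = t * e + 1 := by omega
  have hNc : Nat.card 𝐍 = p * e := by rw [card_normalizer hx, he]
  have hG : Nat.card G = p * e * (n * p + 1) := by rw [← card_mul_index 𝐍, hNc, hn]
  have he0 : 0 < e := by omega
  have ht0 : 0 < t := Nat.pos_of_ne_zero (by rintro rfl; omega)
  have hs0 : 0 < s := Nat.pos_of_ne_zero (by rintro rfl; omega)
  let T : G → Set G := fun y => {g | g⁻¹ * y * g ∈ 𝐍}
  have hTne : ∀ y : G, 2 ∣ orderOf y → ∃ g, g⁻¹ * y * g ∈ 𝐍 := by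
    intro y hy
    have h1 := hT y (Or.inr hy)
    have : 0 < Nat.card {g : G // g⁻¹ * y * g ∈ 𝐍} := by
      rw [h1]; exact Nat.mul_pos (Nat.succ_pos _) Nat.card_pos
    obtain ⟨⟨g, hg⟩⟩ := (Nat.card_pos_iff.1 this).1
    exact ⟨g, hg⟩
  have hTeq : ∀ y y' : G, (y ∈ 𝐍 ∧ y ∉ 𝐏) ∨ 2 ∣ orderOf y → (y' ∈ 𝐍 ∧ y' ∉ 𝐏) ∨ 2 ∣ orderOf y' →
      y' ∈ zpowers y → T y = T y' := by
    rintro y _ hy hy' ⟨k, rfl⟩
    refine Set.eq_of_subset_of_ncard_le (fun g hg => ?_) ?_ (Set.toFinite _)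
    · have := zpow_mem (show g⁻¹ * y * g⁻¹⁻¹ ∈ 𝐍 by rw [inv_inv]; exact hg) k
      rw [conj_zpow, inv_inv] at this
      exact this
    · rw [← Nat.card_coe_set_eq, ← Nat.card_coe_set_eq]
      exact ((hT _ hy').trans (hT _ hy).symm).le
  have hconjord : ∀ g y : G, orderOf (g⁻¹ * y * g) = orderOf y := fun g y => by
    simpa using (MulAut.conj g⁻¹).orderOf_eq y
  -- an involution in `N`
  obtain ⟨u, hu, huN⟩ : ∃ u : G, orderOf u = 2 ∧ u ∈ 𝐍 := by
    haveI : Fact (Nat.Prime 2) := ⟨Nat.prime_two⟩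
    have h1 : 2 ∣ Nat.card G := by
      rw [hG]
      refine Dvd.dvd.mul_left (even_iff_two_dvd.1 (Odd.add_one (Odd.mul ?_ ?_))) _
      · have := ht.mul_right s
        rw [hs] at this
        exact Nat.not_even_iff_odd.1 (Nat.even_add_one.1 this)
      · exact hp.out.odd_of_ne_two hp2
    obtain ⟨v, hv⟩ := exists_prime_orderOf_dvd_card' 2 h1
    obtain ⟨g, hg⟩ := hTne v (by rw [hv])
    exact ⟨_, (hconjord g v).trans hv, hg⟩
  have huP := not_mem_zp_of_two hx hp2 hu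
  have huu : u * u = 1 := by rw [← sq, ← hu, pow_orderOf_eq_one]
  set L := centralizer ({u} : Set G) with hLdef
  have hmemL : ∀ l, l ∈ L ↔ l * u = u * l := fun l => mem_centralizer_singleton_iff
  have hLP : L ⊓ 𝐏 = ⊥ := by
    rw [eq_bot_iff]
    rintro z ⟨h1, h2⟩
    exact eq_one_of_commute_of_not_mem hx hC huP h2 ((hmemL z).1 h1).symm
  have hTu : ∀ g, g ∈ T u ↔ ∃ l ∈ L, ∃ w ∈ 𝐏, g = l * w := by
    intro g
    constructor
    · intro hg
      obtain ⟨w, hw, h⟩ := exists_conj_involution hx hC hp2 hu huN ((hconjord g u).trans hu) hg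
      refine ⟨g * w, (hmemL _).2 ?_, w⁻¹, inv_mem hw, by group⟩
      calc g * w * u = g * (w * u * w⁻¹) * w := by group
        _ = u * (g * w) := by rw [h]; group
    · rintro ⟨l, hl, w, hw, rfl⟩
      have : (l * w)⁻¹ * u * (l * w) = w⁻¹ * u * w := by
        calc (l * w)⁻¹ * u * (l * w) = w⁻¹ * l⁻¹ * (u * l) * w := by group
          _ = _ := by rw [← (hmemL l).1 hl]; group
      change (l * w)⁻¹ * u * (l * w) ∈ 𝐍
      rw [this]
      exact mul_mem (mul_mem (inv_mem (le_normalizer hw)) huN) (le_normalizer hw)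
  have hconj : ∀ v : G, orderOf v = 2 → IsConj u v := by
    intro v hv
    obtain ⟨g, hg⟩ := hTne v (by rw [hv])
    obtain ⟨w, -, h⟩ := exists_conj_involution hx hC hp2 hu huN ((hconjord g v).trans hv) hg
    refine isConj_iff.2 ⟨g * w, ?_⟩
    calc g * w * u * (g * w)⁻¹ = g * (w * u * w⁻¹) * g⁻¹ := by group
      _ = v := by rw [h]; group
  have hL : Nat.card L = (n + 1) * e := by
    have h1 := card_of_mul hLP (T u) hTu
    have h2 := hT u (Or.inr (by rw [hu]))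
    rw [card_zp hx] at h1
    rw [hNc] at h2
    refine Nat.eq_of_mul_eq_mul_right hp.out.pos ?_
    rw [← h1]
    exact h2.trans (by ring)
  have hs1 : s = 1 := by
    have h1 := card_subgroup_dvd_card L
    have h2 : n * p + 1 = t * (n * e + s) := by rw [mul_add, hs, hpe]; ring
    rw [hL, hG, h2, ← hs] at h1
    have h3 : s ∣ p * (n * e + s) := by
      refine Nat.dvd_of_mul_dvd_mul_left (Nat.mul_pos ht0 he0) ?_
      rw [show t * e * s = t * s * e by ring,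
        show t * e * (p * (n * e + s)) = p * e * (t * (n * e + s)) by ring]
      exact h1
    have h4 : s.Coprime e := by
      rw [← ha, ← hs, show a * (t * s) + s + 1 = 1 + s * (a * t + 1) by ring]
      simp
    have h5 : s.Coprime n := by
      have : s ∣ n + 1 := hs ▸ dvd_mul_left s t
      exact (Nat.coprime_self_add_left.2 (Nat.coprime_one_left n)).coprime_dvd_left
        (by rwa [add_comm] at this ⊢)
    have h6 : s.Coprime (n * e + s) := by
      rw [Nat.coprime_add_self_right]; exact h5.mul_right h4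
    have h7 : s ∣ p := h6.dvd_of_dvd_mul_right h3
    rcases (Nat.dvd_prime hp.out).1 h7 with h | h
    · exact h
    · exfalso
      have := Nat.le_mul_of_pos_left e ht0
      omega
  subst hs1
  rw [mul_one] at hs
  set E := 𝐍 ⊓ L with hEdef
  have hEP : E ⊓ 𝐏 = ⊥ := eq_bot_iff.2 (hLP ▸ inf_le_inf_right _ inf_le_right)
  have hE : Nat.card E = e := by
    have h1 := card_of_mul hEP (𝐍 : Set G) fun g => ⟨fun hg => by
      obtain ⟨l, hl, w, hw, rfl⟩ := (hTu g).1 (mul_mem (mul_mem (inv_mem hg) huN) hg)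
      refine ⟨l, ⟨?_, hl⟩, w, hw, rfl⟩
      simpa using mul_mem hg (inv_mem (le_normalizer hw)), by
      rintro ⟨l, hl, w, hw, rfl⟩
      exact mul_mem hl.1 (le_normalizer hw)⟩
    rw [card_zp hx] at h1
    refine Nat.eq_of_mul_eq_mul_right hp.out.pos ?_
    rw [← h1]
    exact hNc.trans (mul_comm _ _)
  have hTodd : ∀ z ∈ L, Odd (orderOf z) → T (z * u) = T u := by
    intro z hz hzo
    obtain ⟨h1, -⟩ := mem_zpowers_mul_of_odd hu hzo ((hmemL z).1 hz)
    exact hTeq _ _ (Or.inr (hu ▸ orderOf_dvd_of_mem_zpowers h1)) (Or.inr (by rw [hu])) h1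
  have hodd : ∀ z ∈ L, Odd (orderOf z) → z ∈ 𝐍 := by
    intro z hz hzo
    have h1 : (1 : G) ∈ T (z * u) := by
      rw [hTodd z hz hzo]
      simpa [T] using huN
    have h2 : z * u ∈ 𝐍 := by simpa [T] using h1
    simpa using mul_mem h2 (inv_mem huN)
  obtain ⟨k, hk⟩ : ∃ k, t = 2 ^ k := by
    refine ⟨_, Nat.eq_prime_pow_of_unique_prime_dvd ht0.ne' fun {q} hq hqt => ?_⟩
    by_contra hq2
    haveI := Fact.mk hq
    obtain ⟨Q⟩ : Nonempty (Sylow q L) := inferInstance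
    have h1 : (Q : Subgroup L) ≤ E.subgroupOf L := by
      intro z hz
      refine ⟨hodd z z.2 ?_, z.2⟩
      obtain ⟨j, hj⟩ := IsPGroup.iff_orderOf.1 Q.isPGroup' ⟨z, hz⟩
      rw [← orderOf_coe] at hj
      rw [orderOf_coe, hj]
      exact (hq.odd_of_ne_two hq2).pow
    have h2 := card_mul_index (E.subgroupOf L)
    rw [Nat.card_congr (subgroupOfEquivOfLe (inf_le_right : E ≤ L)).toEquiv, hE, hL, ← hs,
      mul_comm] at h2
    have h3 := index_dvd_of_le h1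
    rw [Nat.eq_of_mul_eq_mul_right he0 h2] at h3
    exact Q.not_dvd_index (hqt.trans h3)
  by_cases ht2 : t = 2
  · left; omega
  right
  have hk2 : 2 ≤ k := by
    rcases k with _ | _ | k
    · rw [hk] at ht; simp at ht
    · exact absurd hk ht2
    · omega
  have ht4 : 4 ∣ t := hk ▸ pow_dvd_pow 2 hk2
  have he4 : ¬ 4 ∣ e := by
    rw [← ha, ← hs]
    have := Dvd.dvd.mul_left ht4 a
    omega
  have hinv : ∀ v : G, v ≠ 1 → (∃ j, orderOf v = 2 ^ j) → orderOf v = 2 := by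
    rintro v hv1 ⟨j, hj⟩
    rcases j with _ | _ | j
    · exact absurd (orderOf_eq_one_iff.1 hj) hv1
    · exact hj
    exfalso
    obtain ⟨g, hg⟩ := hTne v (by rw [hj]; exact dvd_pow_self 2 (by omega))
    have h4 : 4 ∣ orderOf (g⁻¹ * v * g) := by
      rw [hconjord, hj]; exact pow_dvd_pow 2 (by omega : 2 ≤ j + 1 + 1)
    have h1 : g⁻¹ * v * g ∉ 𝐏 := fun h => by
      have h2 := Subgroup.orderOf_dvd_natCard _ h
      rw [card_zp hx] at h2
      exact hp2 ((Nat.prime_dvd_prime_iff_eq Nat.prime_two hp.out).1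
        (((by norm_num : 2 ∣ 4).trans h4).trans h2)).symm
    have h2 := pow_relIndex_eq_one hx hC hg h1
    rw [he, ← orderOf_dvd_iff_pow_eq_one] at h2
    exact he4 (h4.trans h2)
  have ha0 : a = 0 := by
    by_contra ha0
    obtain ⟨c, hc⟩ := ht4
    have hb : e = 2 * (2 * (a * c) + 1) := by rw [← ha, ← hs, hc]; ring
    have hc0 : 0 < a * c := Nat.mul_pos (Nat.pos_of_ne_zero ha0) (by omega)
    obtain ⟨q, hq, hqb⟩ := Nat.exists_prime_and_dvd (by omega : 2 * (a * c) + 1 ≠ 1)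
    have hq2 : q ≠ 2 := by rintro rfl; omega
    haveI := Fact.mk hq
    obtain ⟨⟨d, hdN, hdL⟩, hd⟩ := exists_prime_orderOf_dvd_card' (G := E) q
      (by rw [hE, hb]; exact hqb.mul_left 2)
    rw [← orderOf_coe] at hd
    simp only at hd
    have hqo : Odd q := hq.odd_of_ne_two hq2
    have hEcomm : ∀ a ∈ E, ∀ b ∈ E, a * b = b * a := by
      intro a ha b hb
      have h1 : a * b * a⁻¹ * b⁻¹ ∈ E ⊓ 𝐏 :=
        mem_inf.2 ⟨mul_mem (mul_mem (mul_mem ha hb) (inv_mem ha)) (inv_mem hb),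
          commute_of_normalizer hC ha.1 hb.1⟩
      rw [hEP, mem_bot] at h1
      calc a * b = (a * b * a⁻¹ * b⁻¹) * (b * a) := by group
        _ = b * a := by rw [h1, one_mul]
    have key : ∀ v ∈ L, orderOf v = 2 → v ≠ u → v * d * v⁻¹ = d⁻¹ := by
      intro v hvL hv hvu
      have hvv : v * v = 1 := by rw [← sq, ← hv, pow_orderOf_eq_one]
      have h1 : v * d * v⁻¹ ∈ L := mul_mem (mul_mem hvL hdL) (inv_mem hvL)
      have h2 : orderOf (v * d * v⁻¹) = q := ((MulAut.conj v).orderOf_eq d).trans hd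
      have h3 : v * d * v⁻¹ ∈ E := ⟨hodd _ h1 (h2 ▸ hqo), h1⟩
      have h4 : Commute d (v * d * v⁻¹) := hEcomm d ⟨hdN, hdL⟩ _ h3
      set w := d * (v * d * v⁻¹) with hw
      by_contra hcon
      have hw1 : w ≠ 1 := fun h => hcon (eq_inv_of_mul_eq_one_right h)
      have hwE : w ∈ E := mul_mem ⟨hdN, hdL⟩ h3
      have hwo : Odd (orderOf w) := by
        refine Odd.of_dvd_nat hqo (orderOf_dvd_of_pow_eq_one ?_)
        rw [hw, h4.mul_pow, ← hd, pow_orderOf_eq_one, hd, ← h2, pow_orderOf_eq_one, one_mul]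
      have hwv : w * v = v * w := by
        calc w * v = (v * d * v⁻¹ * d) * v := by rw [hw, h4.eq]
          _ = v * (d * (v * v)⁻¹ * (v * d * v⁻¹) * (v * v)) := by group
          _ = v * w := by rw [hvv, hw]; group
      have hwP : w ∉ 𝐏 := fun h => hw1 (by
        have : w ∈ E ⊓ 𝐏 := ⟨hwE, h⟩
        rwa [hEP, mem_bot] at this)
      obtain ⟨g, hg⟩ := isConj_iff.1 (hconj v hv)
      have h5 : g⁻¹ * w * g ∈ L := by
        rw [hmemL]
        calc g⁻¹ * w * g * u = g⁻¹ * (w * (g * u * g⁻¹)) * g := by group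
          _ = g⁻¹ * ((g * u * g⁻¹) * w) * g := by rw [hg, hwv]
          _ = _ := by group
      have h6 : g ∈ T w := hodd _ h5 (by rw [hconjord]; exact hwo)
      have h7 : T w = T u := by
        obtain ⟨h8, h9⟩ := mem_zpowers_mul_of_odd hu hwo ((hmemL w).1 hwE.2)
        rw [← hTodd w hwE.2 hwo]
        exact (hTeq _ _ (Or.inr (hu ▸ orderOf_dvd_of_mem_zpowers h8)) (Or.inl ⟨hwE.1, hwP⟩) h9).symm
      rw [h7, hTu] at h6
      obtain ⟨l, hl, z, hz, rfl⟩ := h6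
      have h8 : l⁻¹ * w * l ∈ L := mul_mem (mul_mem (inv_mem hl) hwE.2) hl
      have h9 : l⁻¹ * w * l ∈ 𝐍 := hodd _ h8 (by rw [hconjord]; exact hwo)
      have h10 : l⁻¹ * w * l ∉ 𝐏 := fun h => by
        have h11 : l⁻¹ * w * l ∈ L ⊓ 𝐏 := ⟨h8, h⟩
        rw [hLP, mem_bot] at h11
        have h12 := hconjord l w
        rw [h11, orderOf_one] at h12
        exact hw1 (orderOf_eq_one_iff.1 h12.symm)
      have h11 : z⁻¹ * ((l⁻¹ * w * l) * z * (l⁻¹ * w * l)⁻¹) ∈ L ⊓ 𝐏 := by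
        refine mem_inf.2 ⟨?_, mul_mem (inv_mem hz) ((mem_normalizer_iff.1 h9 z).1 hz)⟩
        have := mul_mem h5 (inv_mem h8)
        convert this using 1
        group
      rw [hLP, mem_bot] at h11
      have h12 : z = 1 := eq_one_of_commute_of_not_mem hx hC h10 hz (by
        calc l⁻¹ * w * l * z = z * (z⁻¹ * ((l⁻¹ * w * l) * z * (l⁻¹ * w * l)⁻¹)) * (l⁻¹ * w * l) := by
              group
          _ = _ := by rw [h11, mul_one])
      apply hvu
      rw [← hg, h12, mul_one, (hmemL l).1 hl]; group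
    haveI : Fact (Nat.Prime 2) := ⟨Nat.prime_two⟩
    obtain ⟨S, hS⟩ := Sylow.exists_subgroup_card_pow_prime (G := L) 2 (n := 3)
      (by rw [hL, ← hs, hb, hc]; exact ⟨c * (2 * (a * c) + 1), by ring⟩)
    set S' := S.map L.subtype with hS'
    have hS'c : Nat.card S' = 8 := by rw [hS', card_map_of_injective L.subtype_injective, hS]; rfl
    have hS'L : S' ≤ L := map_subtype_le S
    have hS'o : ∀ v ∈ S', v ≠ 1 → orderOf v = 2 := fun v hv hv1 => hinv v hv1 (by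
      have h1 := Subgroup.orderOf_dvd_natCard _ hv
      rw [hS'c] at h1
      obtain ⟨j, -, hj⟩ := (Nat.dvd_prime_pow Nat.prime_two (m := 3)).1 h1
      exact ⟨j, hj⟩)
    have pick : ∀ A : Finset G, A.card ≤ 4 → ∃ v ∈ S', v ∉ A := by
      intro A hA
      have := Set.exists_mem_notMem_of_ncard_lt_ncard (s := (A : Set G)) (t := (S' : Set G)) (by
        rw [Set.ncard_coe_finset, ← Nat.card_coe_set_eq]
        exact lt_of_le_of_lt hA (by rw [show Nat.card (S' : Set G) = 8 from hS'c]; norm_num))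
      simpa using this
    classical
    obtain ⟨v, hv, hv'⟩ := pick {1, u} (Finset.card_le_two.trans (by norm_num))
    obtain ⟨w, hw, hw'⟩ := pick {1, u, v⁻¹, v⁻¹ * u} Finset.card_le_four
    simp only [Finset.mem_insert, Finset.mem_singleton, not_or] at hv' hw'
    have h1 := key v (hS'L hv) (hS'o v hv hv'.1) hv'.2
    have h2 := key w (hS'L hw) (hS'o w hw hw'.1) hw'.2.1
    have h3 := key (v * w) (hS'L (mul_mem hv hw)) (hS'o _ (mul_mem hv hw) fun h =>
      hw'.2.2.1 (eq_inv_of_mul_eq_one_right h)) fun h => hw'.2.2.2 (by rw [← h]; group)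
    have h4 : d ^ 2 = 1 := by
      have h5 : v * w * d * (v * w)⁻¹ = (v * d * v⁻¹)⁻¹ := by
        calc v * w * d * (v * w)⁻¹ = v * (w * d * w⁻¹) * v⁻¹ := by group
          _ = _ := by rw [h2]; group
      rw [h5, h1, inv_inv] at h3
      rw [sq]; nth_rewrite 1 [h3]; group
    rw [← orderOf_dvd_iff_pow_eq_one, hd] at h4
    exact hq2 ((Nat.prime_dvd_prime_iff_eq hq Nat.prime_two).1 h4)
  subst ha0
  have he2 : e = 2 := by omega
  subst he2
  have hL' : Nat.card L = 2 ^ (k + 1) := by rw [hL, ← hs, hk, pow_succ]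
  refine ⟨u, k + 1, hu, by omega, by rw [hpe, hk, pow_succ], hL', fun v hv => ?_, hconj, ?_⟩
  · by_cases hv1 : v = 1
    · rw [hv1, one_mul]
    · have h1 := Subgroup.orderOf_dvd_natCard _ hv
      rw [hL'] at h1
      obtain ⟨j, -, hj⟩ := (Nat.dvd_prime_pow Nat.prime_two).1 h1
      rw [← sq, ← hinv v hv1 ⟨j, hj⟩, pow_orderOf_eq_one]
  · rw [hG, pow_succ, ← hk, hpe, hs, show (n + 1) * 2 - 1 = 2 * n + 1 by omega]
    ring

end Cfsg.Agent.Char.SelfC
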