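import Mathlib
import Cfsg.Agent.Char.BrauerReynolds
import Cfsg.Agent.Char.BrauerReynoldsEnd

/-!
The theorem of Brauer and Reynolds, given the principal block data.
-/

set_option autoImplicit false
set_option linter.style.haveILetI false
set_option linter.unusedSectionVars false

namespace Cfsg.Agent.Char.SelfC

open Subgroup Cfsg.Agent.Small Cfsg.Agent.Grp Cfsg.Agent.Grp.SelfCent Cfsg.Agent.Char
open scoped MatrixGroups

variable {G : Type*} [Group G] [Finite G] {p : ℕ} [hp : Fact p.Prime] {x : G}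

local notation "𝐏" => zpowers x
local notation "𝐂" => centralizer (Singleton.singleton x : Set G)
local notation "𝐍" => normalizer ((zpowers x : Subgroup G) : Set G)

omit [Finite G] hp in
theorem comm_mem_centralizer {a b : G} (ha : a ∈ 𝐍) (hb : b ∈ 𝐍) : a * b * a⁻¹ * b⁻¹ ∈ 𝐂 := by
  obtain ⟨i, hi⟩ : a⁻¹ * x * a ∈ zpowers x := by
    have := (mem_normalizer_iff.1 (inv_mem ha) x).1 (mem_zpowers x)
    simpa using this
  obtain ⟨j, hj⟩ : b⁻¹ * x * b ∈ zpowers x := by
    have := (mem_normalizer_iff.1 (inv_mem hb) x).1 (mem_zpowers x)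
    simpa using this
  simp only at hi hj
  have h1 : (a * b)⁻¹ * x * (a * b) = x ^ (j * i) := by
    have : (a * b)⁻¹ * x * (a * b) = b⁻¹ * (a⁻¹ * x * a) * b⁻¹⁻¹ := by group
    rw [this, ← hi, ← conj_zpow, inv_inv, ← hj, ← zpow_mul]
  have h2 : (b * a)⁻¹ * x * (b * a) = x ^ (j * i) := by
    have : (b * a)⁻¹ * x * (b * a) = a⁻¹ * (b⁻¹ * x * b) * a⁻¹⁻¹ := by group
    rw [this, ← hj, ← conj_zpow, inv_inv, ← hi, ← zpow_mul, mul_comm i j]
  rw [mem_centralizer_singleton_iff]
  have h3 := h1.trans h2.symm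
  calc a * b * a⁻¹ * b⁻¹ * x = a * b * ((b * a)⁻¹ * x * (b * a)) * (b * a)⁻¹ := by group
    _ = a * b * ((a * b)⁻¹ * x * (a * b)) * (b * a)⁻¹ := by rw [h3]
    _ = x * (a * b * a⁻¹ * b⁻¹) := by group

/-- Burnside: in a perfect group a Sylow subgroup of order `p` is not central in its normalizer -/
theorem relIndex_ne_one_of_perfect (hG : _root_.commutator G = ⊤) (P : Sylow p G)
    (hP : (P : Subgroup G) = 𝐏) (hx : orderOf x = p) : (𝐂).relIndex 𝐍 ≠ 1 := by
  intro he
  rw [relIndex_eq_one] at he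
  have h1 : normalizer ((P : Subgroup G) : Set G) ≤ centralizer ((P : Subgroup G) : Set G) := by
    rw [hP, centralizer_zpowers]; exact he
  have h2 := MonoidHom.ker_transferSylow_isComplement' P h1
  set K := (MonoidHom.transferSylow P h1).ker
  have h4 : K.index = p := by rw [h2.symm.index_eq_card, hP, card_zp hx]
  haveI : IsCyclic (G ⧸ K) := isCyclic_of_prime_card (p := p) h4
  have h5 : _root_.commutator G ≤ K := by
    rw [_root_.commutator_def, commutator_le]
    intro g _ k _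
    rw [← QuotientGroup.eq_one_iff]
    obtain ⟨z, hz⟩ := IsCyclic.exists_generator (α := G ⧸ K)
    obtain ⟨i, hi⟩ := hz (g : G ⧸ K)
    obtain ⟨j, hj⟩ := hz (k : G ⧸ K)
    simp only [commutatorElement_def, QuotientGroup.mk_mul, QuotientGroup.mk_inv]
    simp only at hi hj
    rw [← hi, ← hj]
    group
  rw [hG, top_le_iff] at h5
  rw [h5, index_top] at h4
  exact hp.out.one_lt.ne h4

theorem ne_two_of_perfect (hG : _root_.commutator G = ⊤) (P : Sylow p G)
    (hP : (P : Subgroup G) = 𝐏) (hx : orderOf x = p) : p ≠ 2 := by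
  intro h
  have h1 := relIndex_dvd_of_card_prime 𝐏 (card_zp hx)
  rw [centralizer_zpowers, h] at h1
  exact relIndex_ne_one_of_perfect hG P hP hx (Nat.dvd_one.1 h1)

theorem index_normalizer_ne_one_of_perfect (hG : _root_.commutator G = ⊤) (P : Sylow p G)
    (hP : (P : Subgroup G) = 𝐏) (hx : orderOf x = p) : (𝐍).index ≠ 1 := by
  intro h
  rw [index_eq_one] at h
  refine relIndex_ne_one_of_perfect hG P hP hx ?_
  rw [relIndex_eq_one, h, ← hG, _root_.commutator_def, commutator_le]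
  intro a _ b _
  exact comm_mem_centralizer (h ▸ mem_top a) (h ▸ mem_top b)

theorem exists_index_normalizer (P : Sylow p G) (hP : (P : Subgroup G) = 𝐏) :
    ∃ n, (𝐍).index = n * p + 1 ∧ Nat.card (Sylow p G) = n * p + 1 := by
  have h1 : Nat.card (Sylow p G) = (𝐍).index := by rw [← hP]; exact P.card_eq_index_normalizer
  have h2 := card_sylow_modEq_one p G
  rw [Nat.ModEq, Nat.mod_eq_of_lt hp.out.one_lt] at h2
  have h3 := Nat.div_add_mod (Nat.card (Sylow p G)) p
  rw [h2, mul_comm] at h3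
  exact ⟨_, h1 ▸ h3.symm, h3.symm⟩

theorem brauerReynolds_core (D : B0Data p x) (hG : _root_.commutator G = ⊤)
    (hO : pPrimeCore p G = ⊥) (P : Sylow p G) (hP : (P : Subgroup G) = 𝐏) (hx : orderOf x = p)
    {n : ℕ} (hn : (𝐍).index = n * p + 1) (hT : ¬ Third p n) :
    (∃ (F : Type) (_ : Field F) (_ : Fintype F), Fintype.card F = p ∧ 3 < p ∧
      Nonempty (G ≃* PSL(2, F))) ∨
    (∃ (m : ℕ) (F : Type) (_ : Field F) (_ : Fintype F), Fintype.card F = 2 ^ m ∧ p = 2 ^ m + 1 ∧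
      3 < p ∧ Nonempty (G ≃* PSL(2, F))) := by
  haveI := Fintype.ofFinite G
  have hp2 := ne_two_of_perfect hG P hP hx
  have hn0 : 0 < n := Nat.pos_of_ne_zero fun h =>
    index_normalizer_ne_one_of_perfect hG P hP hx (by rw [hn, h]; simp)
  have he1 : D.e ≠ 1 := D.he ▸ relIndex_ne_one_of_perfect hG P hP hx
  obtain ⟨ψ, hψ, hψ1, hψ2⟩ := D.exists_deg_pred hx hG hn hn0 hT
  have hC := centralizer_eq_of_deg_pred P hP hx hO hψ hψ1 hψ2
  have he : (𝐏).relIndex 𝐍 = D.e := by rw [← D.he, hC]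
  have hte : Even D.Y.card := by
    refine (even_or_even hx hC hp2 hψ hψ1 (fun z hz hz1 => ?_) (he ▸ D.cardY)).resolve_right ?_
    · simpa using hψ2 z hz hz1 1 (one_mem _) not_dvd_orderOf_one
    · rw [hG, index_top]; exact Nat.not_even_one
  have ht : 2 ≤ D.Y.card := Nat.le_of_dvd D.card_Y_pos (even_iff_two_dvd.1 hte)
  have H : D.Hyp n := ⟨hx, hC, hG, hn, hn0, hT, ht⟩
  haveI := isSimpleGroup_of_perfect hx hC hG hO
  have hpsl : n = 1 ∧ D.Y.card = 2 → ∃ (F : Type) (_ : Field F) (_ : Fintype F),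
      Fintype.card F = p ∧ 3 < p ∧ Nonempty (G ≃* PSL(2, F)) := by
    rintro ⟨h1, h2⟩
    have h3 := D.cardY
    have h4 := D.e_pos
    have h5 := hp.out.two_le
    rw [h2] at h3
    refine ⟨ZMod p, inferInstance, inferInstance, ZMod.card p, by omega,
      Perm.ZassPSL.psl_of_card hp.out (by omega) ?_ (Nat.card_zmod p)⟩
    rw [← card_mul_index 𝐍, card_normalizer hx, he, hn, h1]
    generalize D.e = e at h3 h4 ⊢
    rw [show p = 2 * e + 1 by omega,
      show (2 * e + 1) ^ 2 - 1 = 4 * e * (e + 1) from Nat.sub_eq_of_eq_add (by ring)]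
    ring
  rcases H.cases with ⟨h1, h2, h3⟩ | ⟨h1, h2, s, h3, h4, -⟩
  · exact Or.inl (hpsl (H.case_one h1 h2 h3 he1))
  rcases endgame hx hC hp2 hn he D.cardY h3 h4 hte
    (fun y hy => H.case_three hp2 hte h1 h2 h3 h4 hy) with h | ⟨u, m, hu, hm, hpm, hL, h5, h6, h7⟩
  · exact Or.inl (hpsl h)
  · obtain ⟨F, _, _, hF, e⟩ := psl_of_involution_centralizer hu hm hL h5 h6 h7
    have : 2 ^ 2 ≤ 2 ^ m := Nat.pow_le_pow_right two_pos hm
    exact Or.inr ⟨m, F, inferInstance, inferInstance, by rw [← Nat.card_eq_fintype_card, hF], hpm,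
      by omega, e⟩

/-- passage to a quotient by a normal `p'`-subgroup -/
theorem exists_quotient_data (hG : _root_.commutator G = ⊤) (P : Sylow p G)
    (hP : (P : Subgroup G) = 𝐏) (hx : orderOf x = p) (H : Subgroup G) [H.Normal]
    (hH : ¬ p ∣ Nat.card H) {n : ℕ} (hn : (𝐍).index = n * p + 1) (hT : ¬ Third p n) :
    _root_.commutator (G ⧸ H) = ⊤ ∧ orderOf (x : G ⧸ H) = p ∧
    (∃ Q : Sylow p (G ⧸ H), (Q : Subgroup (G ⧸ H)) = zpowers (x : G ⧸ H)) ∧
    (normalizer ((zpowers (x : G ⧸ H) : Subgroup (G ⧸ H)) : Set (G ⧸ H))).index = n * p + 1 := by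
  have hsurj := QuotientGroup.mk'_surjective H
  have h1 : _root_.commutator (G ⧸ H) = ⊤ := by
    have := map_commutator_eq G (QuotientGroup.mk' H)
    rw [hG, ← MonoidHom.range_eq_map, MonoidHom.range_eq_top.2 hsurj] at this
    exact this.symm
  have h2 := orderOf_mk hx H hH
  have h3 : ((P.mapSurjective hsurj : Sylow p (G ⧸ H)) : Subgroup (G ⧸ H))
      = zpowers (x : G ⧸ H) := by
    rw [Sylow.coe_mapSurjective, hP, MonoidHom.map_zpowers]; rfl
  refine ⟨h1, h2, ⟨_, h3⟩, ?_⟩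
  obtain ⟨n', hn', -⟩ := exists_index_normalizer _ h3
  have h4 : n' * p + 1 ∣ n * p + 1 := by
    rw [← hn', ← hn, ← index_comap_of_surjective _ hsurj]
    refine index_dvd_of_le fun g hg => ?_
    rw [mem_comap, mem_normalizer_zpowers_iff]
    obtain ⟨i, hi⟩ := (mem_normalizer_zpowers_iff x g).1 hg
    refine ⟨i, ?_⟩
    simp only at hi
    simp only [QuotientGroup.mk'_apply]
    rw [← QuotientGroup.mk_zpow, hi]; rfl
  have hn0 : n' ≠ 0 := fun h =>
    index_normalizer_ne_one_of_perfect h1 _ h3 h2 (by rw [hn', h]; simp)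
  obtain ⟨c, hc⟩ := h4
  obtain ⟨m, rfl⟩ : ∃ m, c = m * p + 1 := by
    have h5 : c % p = 1 := by
      have h6 := congrArg (· % p) hc
      simp only [Nat.mul_add_mod_self_right, Nat.mod_eq_of_lt hp.out.one_lt, add_mul, one_mul] at h6
      rw [mul_right_comm, Nat.mul_add_mod_self_right] at h6
      exact h6.symm
    exact ⟨c / p, by have := Nat.div_add_mod c p; rw [h5, mul_comm] at this; omega⟩
  rw [hn', hc]
  by_cases hm : m = 0
  · rw [hm]; simp
  exfalso
  have h6 : n = n' + m + n' * m * p :=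
    Nat.eq_of_mul_eq_mul_right hp.out.pos (by nlinarith)
  exact hT ⟨n' * (1 + m), m, by positivity, Nat.pos_of_ne_zero hm, by rw [h6]; ring⟩

end Cfsg.Agent.Char.SelfC
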