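import Mathlib
import Cfsg.Agent.Char.BrauerReynoldsMain
import Cfsg.Agent.Char.PrimeB0Ex

/-!
The theorem of Brauer and Reynolds and groups of order less than `p ^ 3`.
-/

set_option autoImplicit false
set_option linter.style.haveILetI false
set_option linter.unusedSectionVars false

namespace Cfsg.Agent.Char.SelfC

open Subgroup Cfsg.Agent.Small Cfsg.Agent.Grp Cfsg.Agent.Grp.SelfCent Cfsg.Agent.Char
open scoped MatrixGroups

variable {G : Type*} [Group G] [Finite G] {p : ℕ} [hp : Fact p.Prime] {x : G}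

local notation "𝐏" => zpowers x
local notation "𝐂" => centralizer (Singleton.singleton x : Set G)
local notation "𝐍" => normalizer ((zpowers x : Subgroup G) : Set G)

omit hp in
theorem le_of_third {n : ℕ} (h : Third p n) : p + 3 ≤ 2 * n := by
  obtain ⟨h, u, hh, hu, e⟩ := h
  apply Nat.le_of_mul_le_mul_right _ (Nat.succ_pos u)
  obtain ⟨h, rfl⟩ : ∃ k, h = k + 1 := ⟨h - 1, by omega⟩
  obtain ⟨u, rfl⟩ : ∃ k, u = k + 1 := ⟨u - 1, by omega⟩
  rw [mul_assoc, Nat.succ_eq_add_one, e]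
  nlinarith [Nat.zero_le (h * u * p), Nat.zero_le (h * p), Nat.zero_le (u * p), Nat.zero_le (u * u)]

theorem brauerReynolds (hG : _root_.commutator G = ⊤) (P : Sylow p G) (hP : (P : Subgroup G) = 𝐏)
    (hx : orderOf x = p) {n : ℕ} (hn : (𝐍).index = n * p + 1) (hT : ¬ Third p n) :
    pPrimeCore p G ≤ 𝐍 ∧
    ((∃ (F : Type) (_ : Field F) (_ : Fintype F), Fintype.card F = p ∧ 3 < p ∧
      Nonempty (G ⧸ pPrimeCore p G ≃* PSL(2, F))) ∨
    (∃ (m : ℕ) (F : Type) (_ : Field F) (_ : Fintype F), Fintype.card F = 2 ^ m ∧ p = 2 ^ m + 1 ∧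
      3 < p ∧ Nonempty (G ⧸ pPrimeCore p G ≃* PSL(2, F)))) := by
  obtain ⟨h1, h2, ⟨Q, hQ⟩, h3⟩ := exists_quotient_data hG P hP hx (pPrimeCore p G)
    (not_dvd_card_pPrimeCore p G) hn hT
  obtain ⟨D⟩ := exists_b0Data (ne_two_of_perfect h1 Q hQ h2) Q hQ h2
  refine ⟨?_, brauerReynolds_core D h1 (pPrimeCore_quotient_pPrimeCore p G) Q hQ h2 h3 hT⟩
  rw [← index_comap_of_surjective _ (QuotientGroup.mk'_surjective _), ← hn] at h3
  set K := comap (QuotientGroup.mk' (pPrimeCore p G))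
    (normalizer ((zpowers (x : G ⧸ pPrimeCore p G) : Subgroup _) : Set (G ⧸ pPrimeCore p G)))
  have h4 : 𝐍 ≤ K := fun g hg => by
    rw [mem_comap, mem_normalizer_zpowers_iff]
    obtain ⟨i, hi⟩ := (mem_normalizer_zpowers_iff x g).1 hg
    refine ⟨i, ?_⟩
    simp only at hi
    simp only [QuotientGroup.mk'_apply]
    rw [← QuotientGroup.mk_zpow, hi]; rfl
  have h5 : K ≤ 𝐍 := by
    rw [← relIndex_eq_one]
    have := relIndex_mul_index h4
    rw [h3] at this
    exact (Nat.mul_eq_right index_ne_zero_of_finite).1 this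
  refine le_trans (fun g hg => ?_) h5
  rw [mem_comap, QuotientGroup.mk'_apply, (QuotientGroup.eq_one_iff g).2 hg]
  exact one_mem _

theorem brauerReynolds_of_bot (hG : _root_.commutator G = ⊤) (hO : pPrimeCore p G = ⊥)
    (P : Sylow p G) (hP : (P : Subgroup G) = 𝐏)
    (hx : orderOf x = p) {n : ℕ} (hn : (𝐍).index = n * p + 1) (hT : ¬ Third p n) :
    (∃ (F : Type) (_ : Field F) (_ : Fintype F), Fintype.card F = p ∧ 3 < p ∧
      Nonempty (G ≃* PSL(2, F))) ∨
    (∃ (m : ℕ) (F : Type) (_ : Field F) (_ : Fintype F), Fintype.card F = 2 ^ m ∧ p = 2 ^ m + 1 ∧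
      3 < p ∧ Nonempty (G ≃* PSL(2, F))) := by
  obtain ⟨D⟩ := exists_b0Data (ne_two_of_perfect hG P hP hx) P hP hx
  exact brauerReynolds_core D hG hO P hP hx hn hT

theorem card_sylow_eq_of_lt_cube (hdvd : p ∣ Nat.card G) (hbig : Nat.card G < p ^ 3)
    (P : Sylow p G) (hP : ¬ (P : Subgroup G).Normal) : Nat.card (P : Subgroup G) = p := by
  obtain ⟨k, hk⟩ := P.isPGroup'.exists_card_eq
  have h1 := card_mul_index (P : Subgroup G)
  have h2 := P.not_dvd_index
  have hp1 := hp.out.one_lt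
  rcases k with _ | _ | k
  · rw [hk, pow_zero, one_mul] at h1
    exact absurd (h1 ▸ hdvd) h2
  · rw [hk, zero_add, pow_one]
  exfalso
  have h3 : Nat.card (Sylow p G) ∣ (P : Subgroup G).index := P.card_dvd_index
  have h4 := card_sylow_modEq_one p G
  have h5 : (P : Subgroup G).index < p := by
    by_contra h6
    have h7 : p ^ 2 ≤ p ^ (k + 1 + 1) := Nat.pow_le_pow_right hp.out.pos (by omega)
    have h8 : p ^ 2 * p ≤ p ^ (k + 1 + 1) * (P : Subgroup G).index :=
      Nat.mul_le_mul h7 (not_lt.1 h6)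
    rw [← hk, h1, ← pow_succ] at h8
    exact absurd hbig (not_lt.2 h8)
  have h6 := Nat.le_of_dvd (Nat.pos_of_ne_zero index_ne_zero_of_finite) h3
  rw [Nat.ModEq, Nat.mod_eq_of_lt hp1, Nat.mod_eq_of_lt (by omega)] at h4
  haveI := (Nat.card_eq_one_iff_unique.1 h4).1
  exact hP (Sylow.normal_of_subsingleton P)

theorem not_third_of_lt_cube (hG : _root_.commutator G = ⊤) (P : Sylow p G)
    (hP : (P : Subgroup G) = 𝐏) (hx : orderOf x = p) {n : ℕ} (hn : (𝐍).index = n * p + 1)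
    (hbig : Nat.card G < p ^ 3) : ¬ Third p n := by
  intro hT
  have h1 := le_of_third hT
  have h2 := relIndex_ne_one_of_perfect hG P hP hx
  have hCN : 𝐂 ≤ 𝐍 := by rw [← centralizer_zpowers]; exact centralizer_le_normalizer _
  have h3 := relIndex_mul_index hCN
  have h4 := card_mul_index 𝐂
  have h5 : p ≤ Nat.card 𝐂 := by
    rw [← card_zp hx]
    exact card_le_of_le (zpowers_le.2 (mem_centralizer_singleton_iff.2 rfl))
  have h6 : (𝐂).relIndex 𝐍 ≠ 0 := index_ne_zero_of_finite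
  rw [← h3, hn] at h4
  have h7 : p * (2 * (n * p + 1)) ≤ Nat.card G :=
    h4 ▸ Nat.mul_le_mul h5 (Nat.mul_le_mul_right _ (by omega))
  have h8 : (p + 3) * p ≤ 2 * n * p := Nat.mul_le_mul_right _ h1
  nlinarith [Nat.mul_le_mul_left p h8]

end Cfsg.Agent.Char.SelfC
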