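import Mathlib
import Cfsg.Agent.Char.GoodClass
import Cfsg.Agent.S3734

/-! The Okuyama–Wajima argument (relative form): a character extends over an abelian
`p'`-section iff its Glauberman correspondent does. -/

set_option autoImplicit false
open Cfsg Subgroup
open scoped ComplexConjugate

namespace Cfsg.Agent.Char
open Cfsg.Agent.Char Cfsg.Agent.PLocal.Amb

variable {Γ : Type*} [Group Γ] [Finite Γ]

theorem exists_cocyclic_mod {C A R E : Subgroup Γ} (hCA : C ≤ A) (hAA : ⁅A, A⁆ ≤ C)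
    (hAR : A ≤ 𝐍[R]) (hRC : R ≤ 𝐍[C]) (hcop : (C.relIndex A).Coprime (C.relIndex R))
    (hCE : C ≤ E) (hne : ¬ R ≤ E) :
    ∃ (V₀ : Subgroup Γ) (a x : Γ), C ≤ V₀ ∧ V₀ ≤ A ∧ a ∈ A ∧ V₀ ⊔ zpowers a = A ∧ x ∈ R ∧ x ∉ E ∧
      ∀ v ∈ V₀, v * x * v⁻¹ * x⁻¹ ∈ C := by
  have hAC : A ≤ 𝐍[C] := mem_normalizer_of_commutator_le hAA hCA
  haveI hn : (C.subgroupOf 𝐍[C]).Normal := normal_subgroupOf' le_rfl
  let f := QuotientGroup.mk' (C.subgroupOf 𝐍[C])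
  have hf : ∀ x y : 𝐍[C], f x = f y ↔ (x : Γ) * (y : Γ)⁻¹ ∈ C := fun x y => by
    rw [← mul_inv_eq_one, ← map_inv, ← map_mul]
    exact QuotientGroup.eq_one_iff _
  have hcard : ∀ X ≤ 𝐍[C], Nat.card ((X.subgroupOf 𝐍[C]).map f) = C.relIndex X := fun X hX => by
    rw [← relIndex_ker, QuotientGroup.ker_mk', relIndex_subgroupOf hX]
  by_contra hcon
  push Not at hcon
  have key := S3734.le_of_cocyclic ((A.subgroupOf 𝐍[C]).map f) ((R.subgroupOf 𝐍[C]).map f)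
    ⟨⟨by
      rintro ⟨_, a, ha, rfl⟩ ⟨_, b, hb, rfl⟩
      apply Subtype.ext
      simp only [coe_mul, ← map_mul]
      rw [hf]
      have := hAA (commutator_mem_commutator ha hb)
      rw [commutatorElement_def] at this
      simpa [mul_assoc] using this⟩⟩
    (by
      refine le_trans (map_mono ?_) (le_normalizer_map f)
      intro a ha
      rw [mem_normalizer_iff]
      intro k
      simp only [SetLike.mem_coe, mem_subgroupOf, coe_mul, coe_inv]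
      exact (mem_normalizer_iff.1 (hAR ha)) k)
    (by rwa [hcard A hAC, hcard R hRC]) ((E.subgroupOf 𝐍[C]).map f) (by
      rintro B hB ⟨_, ⟨a, ha, rfl⟩, hBa⟩ _ ⟨⟨x, hx, rfl⟩, hxB⟩
      have h1 : C ≤ (B.comap f).map 𝐍[C].subtype := fun c hc =>
        ⟨⟨c, le_normalizer hc⟩, by
          rw [SetLike.mem_coe, mem_comap, show f ⟨c, le_normalizer hc⟩ = 1 from
            (QuotientGroup.eq_one_iff _).2 hc]
          exact one_mem _, rfl⟩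
      have h2 : (B.comap f).map 𝐍[C].subtype ≤ A := by
        rintro _ ⟨v, hv, rfl⟩
        obtain ⟨w, hw, e⟩ := hB hv
        have := mul_mem (inv_mem (hCA ((hf _ _).1 e))) hw
        simpa using this
      have h3 : (B.comap f).map 𝐍[C].subtype ⊔ zpowers (a : Γ) = A := by
        refine le_antisymm (sup_le h2 (zpowers_le.2 ha)) fun y hy => ?_
        have hy' : f ⟨y, hAC hy⟩ ∈ B ⊔ zpowers (f a) := hBa ▸ ⟨_, hy, rfl⟩
        have : B ⊔ zpowers (f a) ≤ (((B.comap f).map 𝐍[C].subtype ⊔ zpowers (a : Γ)).subgroupOf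
            𝐍[C]).map f := by
          refine sup_le (fun b hb => ?_) (zpowers_le.2 ⟨a, mem_sup_right (mem_zpowers _), rfl⟩)
          obtain ⟨w, rfl⟩ := QuotientGroup.mk'_surjective _ b
          exact ⟨w, mem_sup_left ⟨w, hb, rfl⟩, rfl⟩
        obtain ⟨w, hw, e⟩ := this hy'
        have := mul_mem (inv_mem (mem_sup_left (h1 ((hf _ _).1 e)))) hw
        simpa using this
      by_contra hxE
      obtain ⟨_, ⟨v, hv, rfl⟩, h4⟩ := hcon _ a x h1 h2 ha h3 hx fun h => hxE ⟨x, h, rfl⟩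
      refine h4 ?_
      have h5 : f (v * x) = f (x * v) := by rw [map_mul, map_mul]; exact hxB _ hv
      simpa [mul_assoc] using (hf _ _).1 h5)
  refine hne fun x hx => ?_
  obtain ⟨w, hw, e⟩ := key ⟨⟨x, hRC hx⟩, hx, rfl⟩
  have := mul_mem (inv_mem (hCE ((hf _ _).1 e))) hw
  simpa using this

variable {p : ℕ} [hp : Fact p.Prime]

theorem not_dvd_of_zmod_eq {a b c : ℕ} (h : (a : ZMod p) = b * c) (hb : ¬ p ∣ b) :
    ¬ p ∣ a ↔ ¬ p ∣ c := by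
  rw [← ZMod.natCast_eq_zero_iff] at hb
  rw [← ZMod.natCast_eq_zero_iff, ← ZMod.natCast_eq_zero_iff, h, mul_eq_zero]
  tauto

/-- extensions correspond under compatible Glauberman correspondences -/
theorem isRes_iff_of_gcorr {M M₁ V V₁ P : Subgroup Γ} (hMV : M ≤ V) (h1 : V₁ ≤ V) (h2 : M₁ ≤ M)
    (h3 : M₁ ≤ V₁) (hV : V ≤ 𝐍[M]) (hV₁ : V₁ ≤ 𝐍[M₁]) (hsup : V ≤ M ⊔ V₁) (hinf : M ⊓ V₁ ≤ M₁)
    (hab : ⁅V, V⁆ ≤ M) (hP : IsPGroup p P) (hPV : P ≤ 𝐍[V]) (hPV₁ : P ≤ 𝐍[V₁])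
    (hPM₁ : P ≤ 𝐍[M₁]) (hc : ∀ x ∈ P, ∀ v ∈ V, x * v * x⁻¹ * v⁻¹ ∈ M)
    (gV : GCorr p P h1) (gM : GCorr p P h2) {θ : IrrCharacter M} {θ₁ : IrrCharacter M₁}
    (hθ : InvBy P θ.1) (hθ₁ : InvBy P θ₁.1) (hm : ¬ p ∣ nmult h2 θ.1 θ₁.1)
    {χ : IrrCharacter V} {χ₁ : IrrCharacter V₁} (hχ : InvBy P χ.1) (hχ₁ : InvBy P χ₁.1)
    (hm' : ¬ p ∣ nmult h1 χ.1 χ₁.1) : IsRes χ.1 θ.1 ↔ IsRes χ₁.1 θ₁.1 := by
  have hp1 : ¬ p ∣ 1 := hp.out.not_dvd_one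
  constructor
  · intro e
    obtain ⟨ξ, hξ⟩ := exists_isRes_of_linPerm h3 hV₁
      (le_trans (le_inf ((commutator_mono h1 h1).trans hab) (commutator_le_self _)) hinf) χ₁
      fun μ hμ hμ' => by
        obtain ⟨lam, h4, h5⟩ := exists_hom_ext_sup hMV h1 hV hsup μ
          fun v hv => hμ v (hinf ⟨hv, v.2⟩)
        have h6 : lam.comp (inclusion h1) = μ := MonoidHom.ext h5
        have h7 := nmult_linPerm h1 χ χ₁ lam
        rw [h6, hμ'] at h7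
        have h8 := gV.inj _ _ (hχ.linPerm lam h4 hc) hχ χ₁ hχ₁ (h7 ▸ hm') hm'
        rw [← h6, e.eq_one_of_linPerm hMV hV lam h4 h8, MonoidHom.one_comp]
    have hξP := hξ.invBy h3 hχ₁
    have h4 := gV.nmult_trans_eq h3 hP hPV hPV₁ hPM₁ hχ hχ₁ hm' hξP
    have h5 := (not_dvd_of_zmod_eq h4 hm').2 (by rwa [hξ.nmult_eq_one])
    rw [show nmult (h3.trans h1) χ.1 ξ.1 = _ from e.nmult_eq hMV h2 ξ.1] at h5
    rwa [gM.uniq θ hθ _ _ hθ₁ hξP hm h5]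
  · intro e
    obtain ⟨ξ, hξ⟩ := exists_isRes_of_linPerm hMV hV hab χ fun lam h4 h5 => by
      have h7 := nmult_linPerm h1 χ χ₁ lam
      rw [h5] at h7
      have h8 := gV.uniq χ hχ _ _ (hχ₁.linPerm (K := M₁) (lam.comp (inclusion h1))
        (fun v hv => h4 _ (h2 hv)) fun x hx v hv => hinf ⟨hc x hx v (h1 hv),
          V₁.mul_mem (conj_mem_of_mem_normalizer (hPV₁ hx) hv) (V₁.inv_mem hv)⟩) hχ₁ (h7 ▸ hm') hm'
      have h9 := e.eq_one_of_linPerm h3 hV₁ _ (fun v hv => h4 _ (h2 hv)) h8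
      ext1 v
      obtain ⟨a, ha, b, hb, e⟩ := (mem_sup_of_le_normalizer_left (h1.trans hV)).1 (hsup v.2)
      have : v = ⟨a, hMV ha⟩ * inclusion h1 ⟨b, hb⟩ := Subtype.ext e
      rw [this, map_mul, h4 _ ha, one_mul]
      exact DFunLike.congr_fun h9 ⟨b, hb⟩
    have hξP := hξ.invBy hMV hχ
    have h4 := gV.nmult_trans_eq h3 hP hPV hPV₁ hPM₁ hχ hχ₁ hm' hθ₁
    have h5 := (not_dvd_of_zmod_eq h4 hm').2 (by rwa [e.nmult_eq_one])
    rw [show nmult (h3.trans h1) χ.1 θ₁.1 = _ from hξ.nmult_eq hMV h2 θ₁.1] at h5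
    rwa [gM.inj _ _ hθ hξP θ₁ hθ₁ hm h5]

omit hp in
theorem hasExt_sup_iff {K V H : Subgroup Γ} (hKV : K ≤ V) {a : Γ} (ha : a ∈ 𝐍[V])
    (hH : H = V ⊔ zpowers a) (θ : IrrCharacter K) :
    HasExt θ.1 H ↔ ∃ χ : IrrCharacter V, IsRes χ.1 θ.1 ∧ InvBy (zpowers a) χ.1 := by
  subst hH
  constructor
  · rintro ⟨ψ, hψ⟩
    exact ⟨⟨_, hψ.isIrr_restrict hKV le_sup_left ψ.2.isCharacter θ.2⟩, hψ.of_restrict le_sup_left,
      ((invBy_self ψ.2.isClassFunction).mono le_sup_right).restrict le_sup_left⟩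
  · rintro ⟨χ, h1, h2⟩
    exact (hasExt_sup_zpowers ha χ h2).trans hKV h1

theorem invBy_of_over_of_comm {M V P : Subgroup Γ} (hMV : M ≤ V) (hV : V ≤ 𝐍[M])
    (hP : IsPGroup p P) (hPV : P ≤ 𝐍[V]) (hPM : P ≤ 𝐍[M])
    (hc : ∀ x ∈ P, ∀ v ∈ V, x * v * x⁻¹ * v⁻¹ ∈ M) (hi : ¬ p ∣ M.relIndex V)
    {θ : IrrCharacter M} (hθ : InvBy P θ.1) (χ : IrrCharacter V) (h : nmult hMV χ.1 θ.1 ≠ 0) :
    InvBy P χ.1 := by
  obtain ⟨k, hk⟩ := relIndex_sup_eq_pow hP hPM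
  rw [relIndex_sup_amb hPM] at hk
  refine (invBy_of_relCent hMV hV hPV hPM
    (hk ▸ ((hp.out.coprime_iff_not_dvd.2 hi).symm.pow_right k)) χ θ h hθ).mono fun x hx => ?_
  exact ⟨hx, fun v hv => comm_mem_symm (hc x hx v hv)⟩

omit [Finite Γ] hp in
theorem invBy_sup_iff {L P X : Subgroup Γ} (hL : L ≤ X) (hP : P ≤ 𝐍[X]) (χ : IrrCharacter X) :
    InvBy (L ⊔ P) χ.1 ↔ InvBy P χ.1 :=
  ⟨fun h => h.mono le_sup_right, fun h => InvBy.sup (hL.trans le_normalizer) hP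
    ((invBy_self χ.2.isClassFunction).mono hL) h⟩

omit hp in
theorem GCorr.invBy_iff_sup {L P G C S : Subgroup Γ} {hCG : C ≤ G} (h : GCorr p P hCG)
    (hL : L ≤ C) (hPG : P ≤ 𝐍[G]) (hPC : P ≤ 𝐍[C]) (hSG : S ≤ 𝐍[G]) (hSC : S ≤ 𝐍[C])
    (hS : S ≤ 𝐍[L ⊔ P]) {χ : IrrCharacter G} {ξ : IrrCharacter C} (hχ : InvBy P χ.1)
    (hξ : InvBy P ξ.1) (hm : ¬ p ∣ nmult hCG χ.1 ξ.1) : InvBy S χ.1 ↔ InvBy S ξ.1 :=
  h.invBy_iff hSG hSC
    (fun χ hχ y => (((invBy_sup_iff (hL.trans hCG) hPG χ).2 hχ).smul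
      (sup_le ((hL.trans hCG).trans le_normalizer) hPG) _ (hS y.2)).mono le_sup_right)
    (fun ξ hξ y => (((invBy_sup_iff hL hPC ξ).2 hξ).smul
      (sup_le (hL.trans le_normalizer) hPC) _ (hS y.2)).mono le_sup_right) hχ hξ hm

omit [Finite Γ] hp in
theorem relCent_sup_eq {L M P : Subgroup Γ} (hML : M ≤ 𝐍[L]) (hPL : P ≤ 𝐍[L]) :
    relCent L M hML (L ⊔ P : Subgroup Γ) = relCent L M hML P := by
  refine le_antisymm (fun g hg => ⟨hg.1, fun x hx => hg.2 x (mem_sup_right hx)⟩)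
    fun g hg => ⟨hg.1, fun x hx => ?_⟩
  obtain ⟨a, ha, b, hb, rfl⟩ := (mem_sup_of_le_normalizer_left hPL).1 hx
  have := mul_mem (mul_mem ha (hg.2 b hb)) (conj_mem_of_mem_normalizer (hML hg.1) (inv_mem ha))
  convert this using 1
  group

/-- the Okuyama–Wajima theorem -/
theorem okuyama_wajima {L P A C : Subgroup Γ} (hP : IsPGroup p P) (hPL : P ≤ 𝐍[L])
    (hCA : C ≤ A) (hAA : ⁅A, A⁆ ≤ C) (hAL : A ≤ 𝐍[L]) (hAP : A ≤ 𝐍[L ⊔ P])
    (hpA : ¬ p ∣ L.relIndex A) {φ : IrrCharacter C} (hφ : InvBy P φ.1) (M : Subgroup Γ) :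
    ∀ (hLM : L ≤ M) (hML : M ≤ 𝐍[L]) (hPM : P ≤ 𝐍[M]) (hpM : ¬ p ∣ L.relIndex M)
      (hC : C = relCent L M hML P) (hCM : C ≤ M) (hAM : A ≤ 𝐍[M]) (θ : IrrCharacter M)
      (hθ : InvBy P θ.1) (hθA : InvBy A θ.1) (hm : ¬ p ∣ nmult hCM θ.1 φ.1),
      HasExt θ.1 (M ⊔ A) ↔ HasExt φ.1 A := by
  induction M using WellFoundedLT.induction with
  | ind M ih =>
  intro hLM hML hPM hpM hC hCM hAM θ hθ hθA hm
  have hLC : L ≤ C := hC ▸ le_relCent hML hLM hPL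
  by_cases hMC : M = C
  · subst hMC
    have : θ = φ := by
      by_contra hne
      rw [nmult_refl, if_neg hne] at hm
      exact hm (dvd_zero p)
    rw [this, sup_eq_right.2 hCA]
  have hPt : L ⊔ P ≤ 𝐍[L] := sup_le le_normalizer hPL
  have hPtM : L ⊔ P ≤ 𝐍[M] := sup_le (hLM.trans le_normalizer) hPM
  have hPC : P ≤ 𝐍[C] := hC ▸ normalizer_relCent' hML hPM hPL le_normalizer
  have hinL : ∀ x ∈ L ⊔ P, x ∈ M → x ∈ L := fun x h1 h2 =>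
    mem_of_mem_sup_of_not_dvd hP hPL hML hpM h1 h2
  have hAM' : ∀ a ∈ A, a ∈ M → a ∈ C := fun a ha ha' => by
    rw [hC]
    refine ⟨ha', fun x hx => hinL _ ?_
      (mul_mem (conj_mem_of_mem_normalizer (hPM hx) ha') (inv_mem ha'))⟩
    have := mul_mem (mem_sup_right hx : x ∈ L ⊔ P)
      (conj_mem_of_mem_normalizer (hAP ha) (inv_mem (mem_sup_right hx)))
    simpa [mul_assoc] using this
  -- the kernel of the action on `M/L` and the centre modulo it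
  set D := relCent L (L ⊔ P) hPt M with hD
  have hLD : L ≤ D := le_relCent hPt le_sup_left hML
  have hPD : L ⊔ P ≤ 𝐍[D] := normalizer_relCent' hPt le_normalizer hPt hPtM
  have hAD : A ≤ 𝐍[D] := normalizer_relCent' hPt hAP hAL hAM
  set R := relCent D (L ⊔ P) hPD (L ⊔ P : Subgroup Γ) with hR
  have hRP : R ≤ L ⊔ P := relCent_le _ _
  have hAR : A ≤ 𝐍[R] := normalizer_relCent' hPD hAP hAD hAP
  have hPtC : L ⊔ P ≤ 𝐍[C] := sup_le (hLC.trans le_normalizer) hPC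
  have hne : ¬ R ≤ D ⊔ C := by
    intro hle
    have h1 : ¬ P ≤ relCent L P hPL M := fun h => hMC (le_antisymm
      (hC ▸ fun g hg => ⟨hg, fun x hx => comm_mem_symm ((h hx).2 g hg)⟩) hCM)
    obtain ⟨s, hs, h2, h3⟩ := exists_central_mod hP hPM hPL h1
    have h4 : s ∈ R := by
      refine ⟨mem_sup_right hs, fun x hx => ?_⟩
      obtain ⟨a, ha, b, hb, rfl⟩ := (mem_sup_of_le_normalizer_left hPL).1 hx
      have h5 := h3 b⁻¹ (inv_mem hb)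
      have h6 : b * s * b⁻¹ * s⁻¹ ∈ D := by
        rw [inv_inv] at h5
        exact ⟨mem_sup_right h5.1, h5.2⟩
      have := mul_mem (mul_mem (hLD ha) h6)
        (hLD (conj_mem_of_mem_normalizer (hPL hs) (inv_mem ha)))
      convert this using 1
      group
    obtain ⟨d, hd, c, hc, e⟩ := (mem_sup_of_le_normalizer_left
      (N := D) (H := C) (hCA.trans hAD)).1 (hle h4)
    have h5 : c ∈ L := hinL c (by
      have := mul_mem (inv_mem hd.1) (mem_sup_right hs : s ∈ L ⊔ P)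
      rwa [e, inv_mul_cancel_left] at this) (hCM hc)
    exact h2 ⟨hs, (e ▸ mul_mem hd (hLD h5) : s ∈ D).2⟩
  obtain ⟨V₀, a, x, hCV, hVA, ha, hVa, hxR, hxD, hxV⟩ := exists_cocyclic_mod hCA hAA hAR
    (hRP.trans hPtC) (by
      obtain ⟨k, hk⟩ := relIndex_sup_eq_pow hP hPL
      haveI := normal_subgroupOf' hPt
      have h1 : C.relIndex R ∣ p ^ k := by
        refine (relIndex_dvd_of_le_left R hLC).trans ?_
        rw [← hk, ← relIndex_subgroupOf hRP]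
        exact relIndex_dvd_index_of_normal _ _
      exact (((hp.out.coprime_iff_not_dvd.2 hpA).symm.pow_right k).coprime_dvd_left
        (relIndex_dvd_of_le_left A hLC)).coprime_dvd_right h1) le_sup_right hne
  have hRL : R ≤ 𝐍[L] := hRP.trans hPt
  have hAV₀ : A ≤ 𝐍[V₀] := mem_normalizer_of_commutator_le (hAA.trans hCV) hVA
  set Q := relCent L R hRL V₀ with hQ
  have hLQ : L ≤ Q := le_relCent hRL (hLD.trans (le_relCent hPD (relCent_le _ _) hPD))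
    (hVA.trans hAL)
  have hQP : Q ≤ L ⊔ P := (relCent_le _ _).trans hRP
  have hxQ : x ∈ Q := ⟨hxR, fun v hv => hinL _ (mul_mem (conj_mem_of_mem_normalizer
    (hAP (hVA hv)) (hRP hxR)) (inv_mem (hRP hxR))) (hCM (hxV v hv))⟩
  have hAQ : A ≤ 𝐍[Q] := normalizer_relCent' hRL hAR hAL hAV₀
  set P₂ := P ⊓ Q with hP₂
  have hQ2 : L ⊔ P₂ = Q := by
    rw [hP₂, ← sup_inf_of_le_normalizer' hLQ hPL, inf_eq_right.2 hQP]
  have hP2 : IsPGroup p P₂ := hP.to_inf_left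
  have hP2P : P₂ ≤ P := inf_le_left
  set M₁ := relCent L M hML P₂ with hM₁
  have hM₁M : M₁ ≤ M := relCent_le _ _
  have hM₁Q : M₁ = relCent L M hML Q := by rw [← hQ2, relCent_sup_eq hML (hP2P.trans hPL)]
  have hlt : M₁ < M := lt_of_le_of_ne hM₁M fun h => hxD (mem_sup_left
    ⟨hRP hxR, fun g hg => comm_mem_symm ((hM₁Q ▸ (h.ge hg : g ∈ M₁) :
      g ∈ relCent L M hML Q).2 x hxQ)⟩)
  have hCM₁ : C ≤ M₁ := hC ▸ fun g hg => ⟨hg.1, fun y hy => hg.2 y (hP2P hy)⟩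
  have hLM₁ : L ≤ M₁ := hLC.trans hCM₁
  have hAM₁ : A ≤ 𝐍[M₁] := hM₁Q ▸ normalizer_relCent' hML hAM hAL hAQ
  have hPM₁ : P ≤ 𝐍[M₁] := by
    refine mem_normalizer_relCent hML (fun y hy => hPM (hP2P hy)) hPM hPL fun y hy z hz => ?_
    refine ⟨z, hz, fun g hg => comm_mem_symm ?_⟩
    have := (hz.2.1.2 y⁻¹ (mem_sup_right (inv_mem hy))).2 g hg
    rwa [inv_inv] at this
  have hC₁ : C = relCent L M₁ (hM₁M.trans hML) P :=
    le_antisymm (fun g hg => ⟨hCM₁ hg, (hC ▸ hg : g ∈ relCent L M hML P).2⟩)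
      (hC ▸ fun g hg => ⟨hM₁M hg.1, hg.2⟩)
  have hpM₁ : ¬ p ∣ L.relIndex M₁ := fun h => hpM (h.trans
    (Dvd.intro _ (relIndex_mul_relIndex L M₁ M hLM₁ hM₁M)))
  have gM : GCorr p P₂ hM₁M := gcorr_relCent hP2 (hP2P.trans hPL) M hLM hML (hP2P.trans hPM) hpM
    _ rfl hM₁M
  have gM' : GCorr p P hM₁M := gM.of_le hP hP2P hPM hPM₁
  obtain ⟨θ₁, hθ₁, hm₁⟩ := gM'.ex θ hθ
  have hAQ' : A ≤ 𝐍[L ⊔ P₂] := hQ2 ▸ hAQ
  have hθ₁A : InvBy A θ₁.1 := (gM.invBy_iff_sup hLM₁ (hP2P.trans hPM) (hP2P.trans hPM₁) hAM hAM₁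
    hAQ' (hθ.mono hP2P) (hθ₁.mono hP2P) hm₁).1 hθA
  have hm₂ : ¬ p ∣ nmult hCM₁ θ₁.1 φ.1 :=
    (not_dvd_of_zmod_eq (gM'.nmult_trans_eq hCM₁ hP hPM hPM₁ hPC hθ hθ₁ hm₁ hφ) hm₁).1 hm
  rw [← ih M₁ hlt hLM₁ (hM₁M.trans hML) hPM₁ hpM₁ hC₁ hCM₁ hAM₁ θ₁ hθ₁ hθ₁A hm₂]
  -- the groups `V = M V₀` and `V₁ = M₁ V₀`
  have hc0 : ∀ y ∈ P₂, ∀ v ∈ V₀, y * v * y⁻¹ * v⁻¹ ∈ L := fun y hy v hv =>
    comm_mem_symm (hy.2.2 v hv)
  have key : ∀ X : Subgroup Γ, L ≤ X → C ≤ X → X ≤ M → A ≤ 𝐍[X] → P₂ ≤ 𝐍[X] →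
      X ⊔ V₀ ≤ 𝐍[X] ∧ (∀ y ∈ P₂, ∀ v ∈ X ⊔ V₀, y * v * y⁻¹ * v⁻¹ ∈ X) ∧ P₂ ≤ 𝐍[X ⊔ V₀] ∧
        A ≤ 𝐍[X ⊔ V₀] ∧ ¬ p ∣ X.relIndex (X ⊔ V₀) ∧ X ⊔ A = X ⊔ V₀ ⊔ zpowers a := by
    intro X hLX hCX hXM hAX hPX
    have h1 : ∀ y ∈ P₂, ∀ v ∈ X ⊔ V₀, y * v * y⁻¹ * v⁻¹ ∈ X := fun y hy v hv => by
      obtain ⟨m, hm, w, hw, rfl⟩ := (mem_sup_of_le_normalizer_left (hVA.trans hAX)).1 hv
      have := mul_mem (mul_mem (conj_mem_of_mem_normalizer (hPX hy) hm) (hLX (hc0 y hy w hw)))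
        (inv_mem hm)
      convert this using 1
      group
    refine ⟨sup_le le_normalizer (hVA.trans hAX), h1, ?_, le_normalizer_sup hAX hAV₀, ?_,
      by rw [sup_assoc, hVa]⟩
    · refine le_normalizer_iff_cj.2 fun y hy => cj_le_iff_forall.2 fun v hv => ?_
      have := mul_mem (mem_sup_left (h1 y hy v hv)) hv
      rwa [inv_mul_cancel_right] at this
    · rw [relIndex_sup_amb (hVA.trans hAX)]
      exact fun h => hpA ((h.trans (relIndex_dvd_of_le_left V₀ hLX)).trans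
        (Dvd.intro _ (relIndex_mul_relIndex L V₀ A (hLC.trans hCV) hVA)))
  obtain ⟨a1, a2, a3, a4, a5, a6⟩ := key M hLM hCM le_rfl hAM (hP2P.trans hPM)
  obtain ⟨b1, b2, b3, b4, b5, b6⟩ := key M₁ hLM₁ hCM₁ hM₁M hAM₁ (hP2P.trans hPM₁)
  have hV1 : M₁ ⊔ V₀ ≤ M ⊔ V₀ := sup_le_sup_right hM₁M _
  have hVL : M ⊔ V₀ ≤ 𝐍[L] := sup_le hML (hVA.trans hAL)
  have gV : GCorr p P₂ hV1 := by
    refine gcorr_relCent hP2 (hP2P.trans hPL) _ (hLM.trans le_sup_left) hVL a3 ?_ _ ?_ hV1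
    · rw [← relIndex_mul_relIndex L M _ hLM le_sup_left]
      exact hp.out.not_dvd_mul hpM a5
    · refine le_antisymm (sup_le (fun g hg => ⟨mem_sup_left hg.1, hg.2⟩)
        fun g hg => ⟨mem_sup_right hg, fun y hy => hc0 y hy g hg⟩) fun g hg => ?_
      obtain ⟨m, hm, w, hw, rfl⟩ := (mem_sup_of_le_normalizer_left (hVA.trans hAM)).1 hg.1
      refine mul_mem (mem_sup_left ⟨hm, fun y hy => ?_⟩) (mem_sup_right hw)
      have := mul_mem (hg.2 y hy) (inv_mem (conj_mem_of_mem_normalizer (hML hm) (hc0 y hy w hw)))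
      have h2 := conj_mem_of_mem_normalizer (hML (mul_mem (conj_mem_of_mem_normalizer
        (hPM (hP2P hy)) hm) (inv_mem hm))) (inv_mem (conj_mem_of_mem_normalizer (hML hm)
          (hc0 y hy w hw)))
      have h3 := mul_mem h2 (hg.2 y hy)
      convert h3 using 1
      group
  have hres : ∀ {χ : IrrCharacter ↥(M ⊔ V₀)} {χ₁ : IrrCharacter ↥(M₁ ⊔ V₀)}, InvBy P₂ χ.1 →
      InvBy P₂ χ₁.1 → ¬ p ∣ nmult hV1 χ.1 χ₁.1 →
      (IsRes χ.1 θ.1 ∧ InvBy (zpowers a) χ.1 ↔ IsRes χ₁.1 θ₁.1 ∧ InvBy (zpowers a) χ₁.1) := by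
    intro χ χ₁ h1 h2 h3
    have haA := zpowers_le.2 ha
    refine and_congr (isRes_iff_of_gcorr le_sup_left hV1 hM₁M le_sup_left a1 b1
      (sup_le_sup_left le_sup_right _) ?_ ?_ hP2 a3 b3 (hP2P.trans hPM₁) a2 gV gM (hθ.mono hP2P)
      (hθ₁.mono hP2P) hm₁ h1 h2 h3) (gV.invBy_iff_sup (hLM₁.trans le_sup_left) a3 b3
        (haA.trans a4) (haA.trans b4) (haA.trans hAQ') h1 h2 h3)
    · rw [inf_comm, sup_inf_of_le_normalizer' hM₁M (hVA.trans hAM₁)]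
      exact sup_le le_rfl fun g hg => hCM₁ (hAM' g (hVA hg.1) hg.2)
    · haveI := normal_subgroupOf' a1
      rw [commutator_le]
      intro u hu v hv
      obtain ⟨m, hm, w, hw, rfl⟩ := (mem_sup_of_le_normalizer_left (hVA.trans hAM)).1 hu
      obtain ⟨m', hm', w', hw', rfl⟩ := (mem_sup_of_le_normalizer_left (hVA.trans hAM)).1 hv
      have h4 := hCM (hAA (commutator_mem_commutator (hVA hw) (hVA hw')))
      have h5 := mul_mem (mul_mem (mul_mem (mul_mem hm (conj_mem_of_mem_normalizer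
        (hAM (hVA hw)) hm')) h4) (conj_mem_of_mem_normalizer (hAM (hVA hw')) (inv_mem hm)))
        (inv_mem hm')
      rw [commutatorElement_def] at h5 ⊢
      convert h5 using 1
      group
  rw [hasExt_sup_iff le_sup_left (a4 ha) a6, hasExt_sup_iff le_sup_left (b4 ha) b6]
  constructor
  · rintro ⟨χ, h1⟩
    have h2 := invBy_of_over_of_comm le_sup_left a1 hP2 a3 (hP2P.trans hPM) a2 a5 (hθ.mono hP2P) χ
      (by rw [h1.1.nmult_eq_one]; exact one_ne_zero)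
    obtain ⟨χ₁, h3, h4⟩ := gV.ex χ h2
    exact ⟨χ₁, (hres h2 h3 h4).1 h1⟩
  · rintro ⟨χ₁, h1⟩
    have h2 := invBy_of_over_of_comm le_sup_left b1 hP2 b3 (hP2P.trans hPM₁) b2 b5
      (hθ₁.mono hP2P) χ₁ (by rw [h1.1.nmult_eq_one]; exact one_ne_zero)
    obtain ⟨χ, h3, h4⟩ := gV.surj χ₁ h2
    exact ⟨χ, (hres h3 h2 h4).2 h1⟩

end Cfsg.Agent.Char
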