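import Mathlib
import Cfsg.Agent.Char.OkuWaj
import Cfsg.Agent.PLocal.PSolv

/-! The relative McKay equality for `p`-solvable groups (also for real characters of odd
degree when `p = 2`). -/

set_option autoImplicit false
open Cfsg Subgroup
open scoped ComplexConjugate commutatorElement

namespace Cfsg.Agent.Char
open Cfsg.Agent.Char Cfsg.Agent.PLocal.Amb

variable {Γ : Type*} [Group Γ] [Finite Γ] {p : ℕ} {r : Prop}

/-- `p'`-degree, and real if `r` -/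
def PF (p : ℕ) (r : Prop) {H : Type*} [Group H] [Finite H] (χ : IrrCharacter H) : Prop :=
  ¬ p ∣ charDegree χ.1 ∧ (r → irrConj χ = χ)

/-- the number of `PF` characters over `ν` -/
noncomputable def mkCnt (p : ℕ) (r : Prop) {L H : Subgroup Γ} (h : L ≤ H) (ν : IrrCharacter L) :
    ℕ := Nat.card {χ : IrrCharacter H // PF p r χ ∧ nmult h χ.1 ν.1 ≠ 0}

theorem mkCnt_congr {L H H' : Subgroup Γ} (e : H = H') (h : L ≤ H) (h' : L ≤ H')
    (ν : IrrCharacter L) : mkCnt p r h ν = mkCnt p r h' ν := by subst e; rfl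

section Grp

theorem relIndex_ne_zero_fin {H K : Subgroup Γ} : H.relIndex K ≠ 0 := index_ne_zero_of_finite

theorem relIndex_lt_right {L T G : Subgroup Γ} (h : L ≤ T) (h' : T < G) :
    L.relIndex T < L.relIndex G := by
  rw [← relIndex_mul_relIndex L T G h h'.le]
  refine lt_mul_of_one_lt_right (Nat.pos_of_ne_zero relIndex_ne_zero_fin) ?_
  have h1 : T.relIndex G ≠ 0 := relIndex_ne_zero_fin
  have h2 : T.relIndex G ≠ 1 := fun e => h'.not_ge (relIndex_eq_one.1 e)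
  omega

theorem relIndex_lt_left {L T G : Subgroup Γ} (h : L < T) (h' : T ≤ G) :
    T.relIndex G < L.relIndex G := by
  rw [← relIndex_mul_relIndex L T G h.le h']
  refine lt_mul_of_one_lt_left (Nat.pos_of_ne_zero relIndex_ne_zero_fin) ?_
  have h1 : L.relIndex T ≠ 0 := relIndex_ne_zero_fin
  have h2 : L.relIndex T ≠ 1 := fun e => h.not_ge (relIndex_eq_one.1 e)
  omega

theorem relIndex_sup_sup_dvd {K Q A : Subgroup Γ} (hQ : Q ≤ A) (hA : A ≤ 𝐍[K]) :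
    (K ⊔ Q).relIndex (K ⊔ A) ∣ Q.relIndex A := by
  have h1 := relIndex_mul_relIndex K (K ⊔ Q) (K ⊔ A) le_sup_left (sup_le_sup_left hQ K)
  rw [relIndex_sup_amb hA, relIndex_sup_amb (hQ.trans hA), ← inf_relIndex_right K Q,
    ← inf_relIndex_right K A] at h1
  have h2 := relIndex_mul_relIndex (K ⊓ Q) Q A inf_le_right hQ
  have h3 := relIndex_mul_relIndex (K ⊓ Q) (K ⊓ A) A (inf_le_inf_left K hQ) inf_le_right
  rw [← h1, ← h2] at h3
  refine Dvd.intro_left ((K ⊓ Q).relIndex (K ⊓ A)) (Nat.eq_of_mul_eq_mul_left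
    (Nat.pos_of_ne_zero (relIndex_ne_zero_fin (H := K ⊓ Q) (K := Q))) ?_)
  rw [← h3]; ring

theorem sup_inf_sup_le_of_ne {p q : ℕ} (hp : p.Prime) (hq : q.Prime) (hne : p ≠ q)
    {X S Q : Subgroup Γ} (hS : IsPGroup p S) (hQ : IsPGroup q Q) (hSX : S ≤ 𝐍[X])
    (hQX : Q ≤ 𝐍[X]) : (X ⊔ S) ⊓ (X ⊔ Q) ≤ X := fun x hx => by
  obtain ⟨a, ha⟩ := exists_pow_mem_of_mem_sup hS hSX hx.1
  obtain ⟨b, hb⟩ := exists_pow_mem_of_mem_sup hQ hQX hx.2
  exact mem_of_pow_coprime (((Nat.coprime_primes hp hq).2 hne).pow a b) ha hb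

omit [Finite Γ] in
theorem commutator_sup_le_sup {K S : Subgroup Γ} (hS : S ≤ 𝐍[K]) :
    ⁅K ⊔ S, K ⊔ S⁆ ≤ K ⊔ ⁅S, S⁆ := by
  rw [commutator_le]
  intro u hu v hv
  obtain ⟨m, hm, w, hw, rfl⟩ := (mem_sup_of_le_normalizer_left hS).1 hu
  obtain ⟨m', hm', w', hw', rfl⟩ := (mem_sup_of_le_normalizer_left hS).1 hv
  have h5 := mul_mem (mul_mem (mem_sup_left (mul_mem hm (conj_mem_of_mem_normalizer (hS hw) hm')))
    (mem_sup_right (commutator_mem_commutator hw hw'))) (mem_sup_left (S := K) (T := ⁅S, S⁆)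
      (mul_mem (conj_mem_of_mem_normalizer (hS hw') (inv_mem hm)) (inv_mem hm')))
  rw [commutatorElement_def] at h5 ⊢
  convert h5 using 1
  group

theorem le_sup_of_relIndex_eq_pow [hp : Fact p.Prime] {L M G S : Subgroup Γ} (hLM : L ≤ M)
    (hMG : M ≤ G) (hG : G ≤ 𝐍[M]) (hS : IsSyl p S G) {k : ℕ} (hk : L.relIndex M = p ^ k) :
    M ≤ L ⊔ S := by
  have h1 := (hS.inf_of_le hMG hG).not_dvd_relIndex
  have h2 : (L ⊔ (S ⊓ M)).relIndex M = 1 :=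
    Nat.eq_one_of_dvd_coprimes ((hp.out.coprime_iff_not_dvd.2 h1).pow_left k)
      (hk ▸ relIndex_dvd_of_le_left M le_sup_left) (relIndex_dvd_of_le_left M le_sup_right)
  exact (relIndex_eq_one.1 h2).trans (sup_le_sup_left inf_le_left L)

end Grp

theorem invBy_irrConj {S H : Subgroup Γ} {χ : IrrCharacter H} (h : InvBy S χ.1) :
    InvBy S (irrConj χ).1 := fun s hs g g' e => congrArg conj (h s hs g g' e)

variable [hp : Fact p.Prime]

theorem mkCnt_clifford {L T H : Subgroup Γ} (hLT : L ≤ T) (hTH : T ≤ H) (hH : H ≤ 𝐍[L])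
    {ν : IrrCharacter L} (hT : H ⊓ invSubgroup ν.1 ≤ T) (hi : ¬ p ∣ T.relIndex H)
    (hν : r → irrConj ν = ν) : mkCnt p r (hLT.trans hTH) ν = mkCnt p r hLT ν := by
  have key : ∀ (χ : IrrCharacter H) (ψ : IrrCharacter T), nmult hLT ψ.1 ν.1 ≠ 0 →
      nmult hTH χ.1 ψ.1 ≠ 0 → (PF p r χ ↔ PF p r ψ) := by
    intro χ ψ h1 h2
    refine and_congr ?_ (forall_congr' fun hr => ⟨fun h => ?_, fun h => ?_⟩)
    · rw [clifford_amb_degree hLT hTH hH hT χ ψ h1 h2, hp.out.dvd_mul]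
      tauto
    · exact clifford_amb_uniq hLT hTH hH hT χ (by rwa [← hν hr, nmult_irrConj])
        (by rwa [← h, nmult_irrConj]) h1 h2
    · exact clifford_amb_inj hLT hTH hH hT ψ h1 (by rwa [← h, nmult_irrConj]) h2
  refine card_eq_of_rel (fun χ ψ => nmult hTH χ.1.1 ψ.1.1 ≠ 0) (fun χ => ?_)
    (fun χ ψ ψ' h1 h2 => Subtype.ext (clifford_amb_uniq hLT hTH hH hT χ.1 ψ.2.2 h1 ψ'.2.2 h2))
    (fun ψ => ?_)
    (fun χ χ' ψ h1 h2 => Subtype.ext (clifford_amb_inj hLT hTH hH hT ψ.1 ψ.2.2 h1 h2))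
  · obtain ⟨ψ, h1, h2⟩ := exists_nmult_between hTH hLT χ.1.2.isCharacter ν.2.isCharacter χ.2.2
    exact ⟨⟨ψ, (key χ.1 ψ h2 h1).1 χ.2.1, h2⟩, h1⟩
  · obtain ⟨χ, h1⟩ := exists_nmult_ne_zero_above hTH ψ.1
    exact ⟨⟨χ, (key χ ψ.1 ψ.2.2 h1).2 ψ.2.1,
      nmult_trans_ne_zero hTH hLT χ.2.isCharacter ψ.1 ν.2.isCharacter h1 ψ.2.2⟩, h1⟩

theorem PF.exists_under (hr : r → p = 2) {M H S : Subgroup Γ} (hMH : M ≤ H) (hS : IsPGroup p S)
    (hSH : S ≤ H) (hSM : S ≤ 𝐍[M]) {χ : IrrCharacter H} (hχ : PF p r χ) :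
    ∃ θ : IrrCharacter M, InvBy S θ.1 ∧ (r → irrConj θ = θ) ∧ nmult hMH χ.1 θ.1 ≠ 0 := by
  classical
  have hχS : InvBy S χ.1 := (invBy_self χ.2.isClassFunction).mono hSH
  have hSH' : S ≤ 𝐍[H] := hSH.trans le_normalizer
  by_cases h : r
  swap
  · obtain ⟨θ, h1, h2, -⟩ := exists_invBy_under_not_dvd hMH hS hSH' hSM χ hχS hχ.1
    exact ⟨θ, h1, fun h' => absurd h' h, fun h3 => h2 (h3 ▸ dvd_zero p)⟩
  obtain rfl := hr h
  letI : MulAction S (IrrCharacter M) := MulAction.compHom _ (inclusion hSM)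
  have h1 := sum_eq_sum_fixed_zmod hS
    (fun θ : IrrCharacter M => ((nmult hMH χ.1 θ.1 * charDegree θ.1 : ℕ) : ZMod 2))
    (fun a θ => by
      have e1 := nmult_smul hMH χ θ (inclusion hSH' a) (inclusion hSM a) rfl
      rw [(invBy_iff_smul hSH' χ).1 hχS a] at e1
      have e2 := charDegree_congr_one (irr_smul_one (inclusion hSM a) θ)
      show ((nmult hMH χ.1 (inclusion hSM a • θ : IrrCharacter M).1 *
        charDegree (inclusion hSM a • θ : IrrCharacter M).1 : ℕ) : ZMod 2) = _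
      rw [e1, e2])
  rw [← Nat.cast_sum, ← charDegree_eq_sum_nmult hMH χ.2.isCharacter, ← Nat.cast_sum,
    Finset.sum_filter] at h1
  obtain ⟨θ, h2, h3⟩ := exists_real_odd_of_odd_sum
    (fun θ : IrrCharacter M => if InvBy S θ.1 then nmult hMH χ.1 θ.1 * charDegree θ.1 else 0)
    (fun θ => by
      have e1 := nmult_irrConj hMH χ θ
      rw [hχ.2 h] at e1
      refine if_congr ⟨fun h4 => ?_, invBy_irrConj⟩ (by rw [e1, charDegree_irrConj]) rfl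
      simpa using invBy_irrConj h4) (by
      rw [← Nat.not_even_iff_odd, even_iff_two_dvd, ← ZMod.natCast_eq_zero_iff]
      have h2 := mt (ZMod.natCast_eq_zero_iff _ _).1 hχ.1
      rw [h1] at h2
      convert h2 using 5 with θ
      exact invBy_iff_smul hSM θ)
  by_cases h4 : InvBy S θ.1
  · rw [if_pos h4] at h3
    exact ⟨θ, h4, fun _ => irrConj_eq_self_iff.2 h2, fun h5 => by simp [h5] at h3⟩
  · simp [h4] at h3

theorem exists_smul_eq_of_isSyl {M H S : Subgroup Γ} (hMH : M ≤ H) (hH : H ≤ 𝐍[M])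
    (hS : IsSyl p S H) (χ : IrrCharacter H) {θ θ' : IrrCharacter M} (hθ : InvBy S θ.1)
    (hθ' : InvBy S θ'.1) (h : nmult hMH χ.1 θ.1 ≠ 0) (h' : nmult hMH χ.1 θ'.1 ≠ 0) :
    ∃ g : 𝐍[M], (g : Γ) ∈ H ⊓ 𝐍[S] ∧ g • θ = θ' := by
  obtain ⟨x, hx⟩ := exists_smul_eq_of_nmult hMH hH χ θ θ' h h'
  have hSM := hS.le.trans hH
  have h1 : IsSyl p S (H ⊓ invSubgroup θ'.1) :=
    hS.mono (le_inf hS.le ((invBy_iff_le hSM).1 hθ')) inf_le_left
  have h2 : IsSyl p cj((x : Γ), S) (H ⊓ invSubgroup θ'.1) := by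
    refine (hS.cj_of_mem x.2).mono (le_inf (cj_le_of_mem hS.le x.2) ?_) inf_le_left
    refine cj_le_iff_forall.2 fun s hs => ?_
    have h3 : (x : Γ) * s * (x : Γ)⁻¹ ∈ 𝐍[M] :=
      mul_mem (mul_mem (hH x.2) (hSM hs)) (inv_mem (hH x.2))
    refine ⟨h3, (irr_smul_eq_iff ⟨_, h3⟩ θ').1 ?_⟩
    have : (⟨_, h3⟩ : 𝐍[M]) = inclusion hH x * ⟨s, hSM hs⟩ * (inclusion hH x)⁻¹ := rfl
    rw [this, ← hx, ← mul_smul, inv_mul_cancel_right, mul_smul, hθ.smul_eq hs]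
  obtain ⟨t, ht, e⟩ := h1.exists_cj_eq h2
  rw [← cj_mul, cj_eq_iff] at e
  refine ⟨⟨t, ht.2.1⟩ * inclusion hH x, ⟨mul_mem ht.1 x.2, e⟩, ?_⟩
  rw [mul_smul, hx]
  exact (irr_smul_eq_iff _ θ').2 ht.2.2

omit hp in
theorem nmult_smul_of_mem {M H : Subgroup Γ} (hMH : M ≤ H) (χ : IrrCharacter H)
    (θ : IrrCharacter M) (g : 𝐍[M]) (hg : (g : Γ) ∈ H) :
    nmult hMH χ.1 (g • θ : IrrCharacter M).1 = nmult hMH χ.1 θ.1 := by
  rw [← nmult_smul hMH χ θ ⟨g, le_normalizer hg⟩ g rfl, irr_smul_of_mem χ hg]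

theorem mkCnt_orbit (hr : r → p = 2) {L M C G H S : Subgroup Γ} (hLC : L ≤ C) (hCM : C ≤ M)
    (hMG : M ≤ G) (hCH : C ≤ H) (hGL : G ≤ 𝐍[L]) (hGM : G ≤ 𝐍[M])
    (hHC : H ≤ 𝐍[C]) (hHG : H ≤ G) (hS : IsSyl p S G) (hSH : S ≤ H) (hN : G ⊓ 𝐍[S] ≤ H)
    (g : GCorr p S hCM) {ν : IrrCharacter L} (hν : InvBy G ν.1)
    (hfib : ∀ (θ : IrrCharacter M) (φ : IrrCharacter C), InvBy S θ.1 → InvBy S φ.1 →
      (r → irrConj θ = θ) → (r → irrConj φ = φ) → ¬ p ∣ nmult hCM θ.1 φ.1 →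
      nmult (hLC.trans hCM) θ.1 ν.1 ≠ 0 → nmult hLC φ.1 ν.1 ≠ 0 →
      mkCnt p r hMG θ = mkCnt p r hCH φ) :
    mkCnt p r ((hLC.trans hCM).trans hMG) ν = mkCnt p r (hLC.trans hCH) ν := by
  have hLM := hLC.trans hCM
  have hSM := hS.le.trans hGM
  have hSC := hSH.trans hHC
  have hne : ∀ {n : ℕ}, ¬ p ∣ n → n ≠ 0 := fun h e => h (e ▸ dvd_zero p)
  have hreal : ∀ {θ : IrrCharacter M} {φ : IrrCharacter C}, InvBy S θ.1 → InvBy S φ.1 →
      ¬ p ∣ nmult hCM θ.1 φ.1 → (irrConj θ = θ ↔ irrConj φ = φ) := fun h1 h2 h3 => by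
    rw [irrConj_eq_self_iff, irrConj_eq_self_iff]; exact g.real_iff h1 h2 h3
  let X := {θ : IrrCharacter M // InvBy S θ.1 ∧ (r → irrConj θ = θ) ∧ nmult hLM θ.1 ν.1 ≠ 0}
  let s : Setoid X :=
    { r := fun x y => ∃ a : 𝐍[M], (a : Γ) ∈ G ⊓ 𝐍[S] ∧ a • x.1 = y.1
      iseqv :=
        { refl := fun x => ⟨1, one_mem _, one_smul _ _⟩
          symm := fun ⟨a, h1, h2⟩ => ⟨a⁻¹, inv_mem h1, by rw [← h2, inv_smul_smul]⟩
          trans := fun ⟨a, h1, h2⟩ ⟨b, h3, h4⟩ =>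
            ⟨b * a, mul_mem h3 h1, by rw [mul_smul, h2, h4]⟩ } }
  refine card_eq_of_orbits s (fun χ x => nmult hMG χ.1.1 x.1.1 ≠ 0)
    (fun ψ x => ∃ φ : IrrCharacter C, InvBy S φ.1 ∧ ¬ p ∣ nmult hCM x.1.1 φ.1 ∧
      nmult hCH ψ.1.1 φ.1 ≠ 0) (fun χ => ?_) (fun χ x y h => ⟨fun h' => ?_, ?_⟩)
    (fun ψ => ?_) ?_ fun x => ?_
  · obtain ⟨θ, h1, h2, h3⟩ := χ.2.1.exists_under hr hMG hS.pgrp hS.le hSM
    exact ⟨⟨θ, h1, h2, nmult_below_of_invBy hLM hMG hGL χ.1 θ hν χ.2.2 h3⟩, h3⟩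
  · exact exists_smul_eq_of_isSyl hMG hGM hS χ.1 x.2.1 y.2.1 h h'
  · rintro ⟨a, h1, h2⟩
    rwa [← h2, nmult_smul_of_mem hMG χ.1 x.1 a h1.1]
  · obtain ⟨φ, h1, h2, h3⟩ := ψ.2.1.exists_under hr hCH hS.pgrp hSH hSC
    obtain ⟨θ, h4, h5⟩ := g.surj φ h1
    exact ⟨⟨θ, h4, fun h => (hreal h4 h1 h5).2 (h2 h),
      nmult_trans_ne_zero hCM hLC θ.2.isCharacter φ ν.2.isCharacter (hne h5)
        (nmult_below_of_invBy hLC hCH (hHG.trans hGL) ψ.1 φ (hν.mono hHG) ψ.2.2 h3)⟩, φ, h1, h5, h3⟩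
  · rintro ψ x y ⟨φ, h1, h2, h3⟩
    constructor
    · rintro ⟨φ', h4, h5, h6⟩
      obtain ⟨a, h7, h8⟩ := exists_smul_eq_of_isSyl hCH hHC (hS.mono hSH hHG) ψ.1 h1 h4 h3 h6
      refine ⟨⟨a, hGM (hHG h7.1)⟩, ⟨hHG h7.1, h7.2⟩,
        g.inj _ _ (x.2.1.smul hSM _ h7.2) y.2.1 φ' h4 ?_ h5⟩
      rwa [← h8, nmult_smul hCM x.1 φ _ a rfl]
    · rintro ⟨a, h4, h5⟩
      refine ⟨(⟨a, hHC (hN h4)⟩ : 𝐍[C]) • φ, h1.smul hSC _ h4.2, ?_, ?_⟩
      · rwa [← h5, nmult_smul hCM x.1 φ a _ rfl]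
      · rwa [nmult_smul_of_mem hCH ψ.1 φ _ (hN h4)]
  · obtain ⟨φ, h1, h2⟩ := g.ex x.1 x.2.1
    have h3 := nmult_below_of_invBy hLC hCM (hMG.trans hGL) x.1 φ (hν.mono hMG) x.2.2.2 (hne h2)
    refine Eq.trans ?_ ((hfib x.1 φ x.2.1 h1 x.2.2.1 (fun h => (hreal x.2.1 h1 h2).1 (x.2.2.1 h))
      h2 x.2.2.2 h3).trans ?_)
    · refine Nat.card_congr ((Equiv.subtypeSubtypeEquivSubtypeInter _
        (fun χ : IrrCharacter G => nmult hMG χ.1 x.1.1 ≠ 0)).trans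
        (Equiv.subtypeEquivRight fun χ => ⟨fun h => ⟨h.1.1, h.2⟩, fun h => ⟨⟨h.1, ?_⟩, h.2⟩⟩))
      exact nmult_trans_ne_zero hMG hLM χ.2.isCharacter x.1 ν.2.isCharacter h.2 x.2.2.2
    · refine (Nat.card_congr ((Equiv.subtypeSubtypeEquivSubtypeInter _
        (fun ψ : IrrCharacter H => ∃ φ : IrrCharacter C, InvBy S φ.1 ∧
          ¬ p ∣ nmult hCM x.1.1 φ.1 ∧ nmult hCH ψ.1 φ.1 ≠ 0)).trans
        (Equiv.subtypeEquivRight fun ψ => ⟨?_, fun h => ⟨⟨h.1, ?_⟩, φ, h1, h2, h.2⟩⟩))).symm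
      · rintro ⟨h4, φ', h5, h6, h7⟩
        exact ⟨h4.1, g.uniq x.1 x.2.1 _ _ h5 h1 h6 h2 ▸ h7⟩
      · exact nmult_trans_ne_zero hCH hLC ψ.2.isCharacter φ ν.2.isCharacter h.2 h3

section Final
variable {K H S : Subgroup Γ}

theorem exists_isRes_of_not_dvd (hKH : K ≤ H) (hSH : S ≤ H) (hS : IsPGroup p S) (hH : H ≤ 𝐍[K])
    (hH' : H ≤ 𝐍[K ⊔ S]) {θ : IrrCharacter K} (hθ : InvBy H θ.1) (χ : IrrCharacter H)
    (hd : ¬ p ∣ charDegree χ.1) (h : nmult hKH χ.1 θ.1 ≠ 0) :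
    ∃ η : IrrCharacter ↥(K ⊔ S), IsRes η.1 θ.1 ∧ nmult (sup_le hKH hSH) χ.1 η.1 ≠ 0 := by
  have hle := sup_le hKH hSH
  obtain ⟨η, h1, h2⟩ := exists_nmult_between hle le_sup_left χ.2.isCharacter θ.2.isCharacter h
  obtain ⟨e, h3, -⟩ := exists_deg_of_normal hle hH' χ η h1
  obtain ⟨h4, h5⟩ := exists_deg_of_invBy le_sup_left (hle.trans hH) η θ (hθ.mono hle) h2
  obtain ⟨k, hk⟩ := relIndex_sup_eq_pow hS (hSH.trans hH)
  rw [hk] at h5
  have h6 : nmult le_sup_left η.1 θ.1 = 1 := Nat.eq_one_of_dvd_coprimes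
    ((hp.out.coprime_iff_not_dvd.2 fun h6 => hd
      (h3 ▸ Dvd.dvd.mul_left (h4 ▸ h6.mul_right _) e)).pow_left k) h5 dvd_rfl
  exact ⟨η, isRes_of_nmult_of_le _ h2 (by rw [h4, h6, one_mul]), h1⟩

omit hp in
theorem mkCnt_eq_zero_of_dvd (hKH : K ≤ H) (hH : H ≤ 𝐍[K]) {θ : IrrCharacter K}
    (hd : p ∣ charDegree θ.1) : mkCnt p r hKH θ = 0 := by
  rw [mkCnt, Nat.card_eq_zero]
  refine Or.inl ⟨fun χ => χ.2.1.1 ?_⟩
  obtain ⟨e, h, -⟩ := exists_deg_of_normal hKH hH χ.1 θ χ.2.2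
  exact h ▸ hd.mul_left e

theorem mkCnt_eq_zero_of_not_hasExt (hKH : K ≤ H) (hSH : S ≤ H) (hS : IsPGroup p S)
    (hH : H ≤ 𝐍[K]) (hH' : H ≤ 𝐍[K ⊔ S]) {θ : IrrCharacter K} (hθ : InvBy H θ.1)
    (h : ¬ HasExt θ.1 (K ⊔ S)) : mkCnt p r hKH θ = 0 := by
  rw [mkCnt, Nat.card_eq_zero]
  refine Or.inl ⟨fun χ => h ?_⟩
  obtain ⟨η, h1, -⟩ := exists_isRes_of_not_dvd hKH hSH hS hH hH' hθ χ.1 χ.2.1.1 χ.2.2
  exact ⟨η, h1⟩

omit [Finite Γ] hp in
theorem le_normalizer_sup_commutator (hS : S ≤ 𝐍[K]) (hH : H ≤ 𝐍[K]) (hH' : H ≤ 𝐍[K ⊔ S]) :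
    H ≤ 𝐍[K ⊔ ⁅S, S⁆] := by
  have : K ⊔ ⁅S, S⁆ = K ⊔ ⁅K ⊔ S, K ⊔ S⁆ :=
    le_antisymm (sup_le_sup_left (commutator_mono le_sup_right le_sup_right) K)
      (sup_le le_sup_left (commutator_sup_le_sup hS))
  rw [this]
  exact le_normalizer_sup hH (le_normalizer_commutator hH' hH')

omit hp in
theorem IsRes.of_isRes_sup (hS : S ≤ 𝐍[K]) {θ : IrrCharacter K} {η₀ η : IrrCharacter ↥(K ⊔ S)}
    (h₀ : IsRes η₀.1 θ.1) (h : IsRes η.1 θ.1) {θ' : IrrCharacter ↥(K ⊔ ⁅S, S⁆)}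
    (h' : IsRes η₀.1 θ'.1) : IsRes η.1 θ'.1 := by
  obtain ⟨lam, h1, rfl⟩ := exists_linPerm_of_isRes le_sup_left (sup_le le_normalizer hS) h₀ h
  intro k hk
  have h2 : K ⊔ ⁅S, S⁆ ≤ lam.ker.map (K ⊔ S).subtype := by
    refine sup_le (fun k hk => ⟨⟨k, mem_sup_left hk⟩, h1 _ hk, rfl⟩) (commutator_le.2 ?_)
    intro a ha b hb
    refine ⟨⁅(⟨a, mem_sup_right ha⟩ : ↥(K ⊔ S)), ⟨b, mem_sup_right hb⟩⁆, ?_, rfl⟩
    rw [SetLike.mem_coe, MonoidHom.mem_ker, map_commutatorElement,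
      commutatorElement_eq_one_iff_mul_comm, mul_comm]
  obtain ⟨w, hw, e⟩ := h2 k.2
  have h3 : lam ⟨k, hk⟩ = 1 := by rw [show (⟨k, hk⟩ : ↥(K ⊔ S)) = w from Subtype.ext e.symm]; exact hw
  rw [linPerm_apply, h3, h' k hk, Units.val_one, mul_one]

omit hp in
theorem invBy_of_isRes_sup (hS : S ≤ 𝐍[K]) (hH : H ≤ 𝐍[K]) (hH' : H ≤ 𝐍[K ⊔ S])
    {θ : IrrCharacter K} (hθ : InvBy H θ.1) {η₀ : IrrCharacter ↥(K ⊔ S)}
    (h₀ : IsRes η₀.1 θ.1) {θ' : IrrCharacter ↥(K ⊔ ⁅S, S⁆)} (h' : IsRes η₀.1 θ'.1) :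
    InvBy H θ'.1 := by
  intro x hx g g' e
  have hle : K ⊔ ⁅S, S⁆ ≤ K ⊔ S := sup_le_sup_left (commutator_le_self S) K
  have h1 : IsRes ((⟨x, hH' hx⟩ : 𝐍[K ⊔ S]) • η₀ : IrrCharacter ↥(K ⊔ S)).1 θ.1 := fun k hk => by
    have hk' := inv_conj_mem_of_mem_normalizer (hH hx) k.2
    rw [irr_smul_apply_of_eq (g := ⟨x⁻¹ * k * x, mem_sup_left hk'⟩) _ η₀ (by simp [mul_assoc]),
      h₀ ⟨_, hk'⟩]
    exact (hθ x hx _ _ (by simp [mul_assoc])).symm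
  rw [← h₀.of_isRes_sup hS h1 h' g' (hle g'.2), ← h' g (hle g.2)]
  exact irr_smul_apply_of_eq _ η₀ e

theorem mkCnt_eq_card_over (hKH : K ≤ H) (hS : IsSyl p S H) (hH : H ≤ 𝐍[K])
    (hH' : H ≤ 𝐍[K ⊔ S]) {θ : IrrCharacter K} (hθ : InvBy H θ.1) (hd : ¬ p ∣ charDegree θ.1)
    {η₀ : IrrCharacter ↥(K ⊔ S)} (h₀ : IsRes η₀.1 θ.1) {θ' : IrrCharacter ↥(K ⊔ ⁅S, S⁆)}
    (h' : IsRes η₀.1 θ'.1) (hle : K ⊔ ⁅S, S⁆ ≤ H) (hr : ¬ r) :
    mkCnt p r hKH θ = Nat.card {χ : IrrCharacter H // nmult hle χ.1 θ'.1 ≠ 0} := by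
  have hSK := hS.le.trans hH
  have h1 : K ⊔ ⁅S, S⁆ ≤ K ⊔ S := sup_le_sup_left (commutator_le_self S) K
  have h2 : K ⊔ S ≤ H := sup_le hKH hS.le
  refine Nat.card_congr (Equiv.subtypeEquivRight fun χ => ⟨fun h => ?_, fun h => ⟨⟨?_,
    fun h => absurd h hr⟩, ?_⟩⟩)
  · obtain ⟨η, h3, h4⟩ := exists_isRes_of_not_dvd hKH hS.le hS.pgrp hH hH' hθ χ h.1.1 h.2
    exact nmult_trans_ne_zero h2 h1 χ.2.isCharacter η θ'.2.isCharacter h4
      (by rw [(h₀.of_isRes_sup hSK h3 h').nmult_eq_one]; exact one_ne_zero)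
  · obtain ⟨η, h3, h4⟩ := exists_nmult_between h2 h1 χ.2.isCharacter θ'.2.isCharacter h
    obtain ⟨lam, -, h5⟩ := exists_linear_of_over h1
      (h2.trans (le_normalizer_sup_commutator hSK hH hH')) (commutator_sup_le_sup hSK) η₀ η θ'
      (by rw [h'.nmult_eq_one]; exact one_ne_zero) h4
    obtain ⟨e, h6, h7⟩ := exists_deg_of_normal h2 hH' χ η h3
    have h8 : charDegree η.1 = charDegree θ.1 := by
      rw [← h₀.charDegree_eq]
      exact charDegree_congr_one (by rw [h5, map_one, Units.val_one, mul_one])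
    rw [h6, h8]
    exact hp.out.not_dvd_mul (fun h => hS.not_dvd_relIndex
      ((h.trans h7).trans (relIndex_dvd_of_le_left H le_sup_right))) hd
  · have h3 : IsRes θ'.1 θ.1 := fun k hk => (h' ⟨k, hk⟩ (h1 hk)).symm.trans (h₀ k _)
    exact nmult_trans_ne_zero hle le_sup_left χ.2.isCharacter θ' θ.2.isCharacter h
      (by rw [h3.nmult_eq_one]; exact one_ne_zero)

theorem hasExt_commutator_sup_iff {A : Subgroup Γ} (hKH : K ≤ H) (hS : IsSyl p S H)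
    (hH : H ≤ 𝐍[K]) (hH' : H ≤ 𝐍[K ⊔ S]) {θ : IrrCharacter K} (hθ : InvBy H θ.1)
    {η₀ : IrrCharacter ↥(K ⊔ S)} (h₀ : IsRes η₀.1 θ.1) {θ' : IrrCharacter ↥(K ⊔ ⁅S, S⁆)}
    (h' : IsRes η₀.1 θ'.1) (hA : A ≤ H) :
    HasExt θ'.1 (K ⊔ ⁅S, S⁆ ⊔ A) ↔ ∀ q : ℕ, q.Prime → q ≠ p → ∀ Q : Subgroup Γ, IsPGroup q Q →
      Q ≤ A → HasExt θ.1 (K ⊔ Q) := by
  have hSK := hS.le.trans hH
  have h1 : K ⊔ ⁅S, S⁆ ≤ K ⊔ S := sup_le_sup_left (commutator_le_self S) K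
  have h2 : K ⊔ S ≤ H := sup_le hKH hS.le
  have h3 : IsRes θ'.1 θ.1 := fun k hk => (h' ⟨k, hk⟩ (h1 hk)).symm.trans (h₀ k _)
  have h4 := le_normalizer_sup_commutator hSK hH hH'
  have h5 := invBy_of_isRes_sup hSK hH hH' hθ h₀ h'
  constructor
  · intro h q _ _ Q _ hQ
    exact (h.trans le_sup_left h3).mono le_sup_left (sup_le_sup le_sup_left hQ)
  · intro h
    have hle : K ⊔ ⁅S, S⁆ ⊔ A ≤ H := sup_le (h1.trans h2) hA
    refine hasExt_of_sylow le_sup_left (hle.trans h4) θ' (h5.mono hle) fun q hq => ?_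
    haveI := Fact.mk hq
    obtain ⟨Q, hQ⟩ := exists_isSyl q A
    refine ⟨Q, hQ.pgrp, hQ.le.trans le_sup_right, fun h => hQ.not_dvd_relIndex
      (h.trans (relIndex_sup_sup_dvd hQ.le (hA.trans h4))), ?_⟩
    have hQH := hQ.le.trans hA
    by_cases hqp : q = p
    · subst hqp
      obtain ⟨g, hg, h6⟩ := hS.exists_le_cj hQ.pgrp hQH
      exact HasExt.mono le_sup_left (sup_le h1 (h6.trans
        (cj_le_of_mem_normalizer le_sup_right (hH' hg)))) ⟨η₀, h'⟩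
    · have hle' : K ⊔ ⁅S, S⁆ ⊔ Q ≤ H := sup_le (h1.trans h2) hQH
      refine hasExt_of_coprime_nmult le_sup_left (hle'.trans h4) (sup_le_sup_right le_sup_left Q)
        (sup_le_sup_left le_sup_right _) (le_antisymm (le_inf le_sup_left le_sup_left) ?_)
        le_sup_left θ' (h5.mono hle') θ (h q hq hqp Q hQ.pgrp hQ.le) ?_
      · exact (inf_le_inf_right _ h1).trans (sup_inf_sup_le_of_ne hp.out hq (Ne.symm hqp) hS.pgrp
          hQ.pgrp hSK (hQH.trans hH))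
      · rw [h3.nmult_eq_one]
        exact Nat.coprime_one_left _

end Final

/-- the invariant case of the last step -/
theorem mkCnt_final_inv (hr : ¬ r) {L M C G N S : Subgroup Γ} (hLM : L ≤ M) (hMG : M ≤ G)
    (hGL : G ≤ 𝐍[L]) (hGM : G ≤ 𝐍[M]) (hGS : G ≤ 𝐍[M ⊔ S]) (hS : IsSyl p S G)
    (hi : ¬ p ∣ L.relIndex M) (hNG : N ≤ G) (hSN : S ≤ N) (hN : N ≤ 𝐍[L ⊔ S]) (hsup : G ≤ M ⊔ N)
    (hC : C = relCent L M (hMG.trans hGL) S) (hC' : C = M ⊓ N) (hCM : C ≤ M) (hCN : C ≤ N)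
    {θ : IrrCharacter M} {φ : IrrCharacter C} (hθ : InvBy G θ.1) (hφ : InvBy N φ.1)
    (hm : ¬ p ∣ nmult hCM θ.1 φ.1) : mkCnt p r hMG θ = mkCnt p r hCN φ := by
  have hSM := hS.le.trans hGM
  have hSL := hS.le.trans hGL
  have hNC : N ≤ 𝐍[C] := hC' ▸ le_normalizer_inf (hNG.trans hGM) le_normalizer
  have hSC := hSN.trans hNC
  have hLC : L ≤ C := hC ▸ le_relCent _ hLM hSL
  have hNS : N ≤ 𝐍[C ⊔ S] := by
    rw [← sup_eq_left.2 hLC, sup_assoc]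
    exact le_normalizer_sup hNC hN
  have g : GCorr p S hCM := gcorr_relCent hS.pgrp hSL M hLM _ hSM hi C hC hCM
  have hS' : IsSyl p S N := hS.mono hSN hNG
  have hdeg := g.degree hS.pgrp hSM hSC (hθ.mono hS.le) (hφ.mono hSN) hm
  by_cases hd : p ∣ charDegree θ.1
  · rw [mkCnt_eq_zero_of_dvd hMG hGM hd, mkCnt_eq_zero_of_dvd hCN hNC
      (not_iff_not.1 (not_dvd_of_zmod_eq hdeg hm) |>.1 hd)]
  have hd' := (not_dvd_of_zmod_eq hdeg hm).1 hd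
  obtain ⟨k, hk⟩ := relIndex_sup_eq_pow hS.pgrp hSM
  obtain ⟨k', hk'⟩ := relIndex_sup_eq_pow hS.pgrp hSC
  have hMS : M ⊔ S ≤ G := sup_le hMG hS.le
  have hCS : C ⊔ S ≤ N := sup_le hCN hSN
  have hext : HasExt θ.1 (M ⊔ S) ↔ HasExt φ.1 (C ⊔ S) := by
    constructor
    · rintro ⟨η, hη⟩
      have h1 := nmult_trans (sup_le_sup_right hCM S) le_sup_left η.2.isCharacter φ.2.isCharacter
      rw [show nmult _ η.1 φ.1 = _ from hη.nmult_eq le_sup_left hCM φ.1] at h1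
      obtain ⟨ζ, h2⟩ : ∃ ζ : IrrCharacter ↥(C ⊔ S), ¬ p ∣ nmult le_sup_left ζ.1 φ.1 := by
        by_contra hcon
        push Not at hcon
        exact hm (h1 ▸ Finset.dvd_sum fun ζ _ => (hcon ζ).mul_left _)
      have h3 : nmult le_sup_left ζ.1 φ.1 ≠ 0 := fun e => h2 (e ▸ dvd_zero p)
      obtain ⟨h4, h5⟩ := exists_deg_of_invBy le_sup_left (hCS.trans hNC) ζ φ (hφ.mono hCS) h3
      have h6 : nmult le_sup_left ζ.1 φ.1 = 1 := Nat.eq_one_of_dvd_coprimes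
        ((hp.out.coprime_iff_not_dvd.2 h2).pow_left k') (hk' ▸ h5) dvd_rfl
      exact ⟨ζ, isRes_of_nmult_of_le _ h3 (by rw [h4, h6, one_mul])⟩
    · intro h
      refine hasExt_of_coprime_nmult le_sup_left (hMS.trans hGM) (sup_le_sup_right hCM S)
        (sup_le_sup_left le_sup_right M) (le_antisymm (le_inf hCM le_sup_left)
          (hC' ▸ inf_le_inf_left M (hC' ▸ hCS))) hCM θ (hθ.mono hMS) φ h ?_
      rw [hk]
      exact (hp.out.coprime_iff_not_dvd.2 hm).symm.pow_right k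
  by_cases he : HasExt θ.1 (M ⊔ S)
  swap
  · rw [mkCnt_eq_zero_of_not_hasExt hMG hS.le hS.pgrp hGM hGS hθ he,
      mkCnt_eq_zero_of_not_hasExt hCN hSN hS.pgrp hNC hNS hφ (mt hext.2 he)]
  obtain ⟨ζ₀, hζ₀⟩ := hext.1 he
  obtain ⟨η₀, hη₀⟩ := he
  have h1 : M ⊔ ⁅S, S⁆ ≤ M ⊔ S := sup_le_sup_left (commutator_le_self S) M
  have h2 : C ⊔ ⁅S, S⁆ ≤ C ⊔ S := sup_le_sup_left (commutator_le_self S) C
  let θ' : IrrCharacter ↥(M ⊔ ⁅S, S⁆) :=
    ⟨_, hη₀.isIrr_restrict le_sup_left h1 η₀.2.isCharacter θ.2⟩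
  let φ' : IrrCharacter ↥(C ⊔ ⁅S, S⁆) :=
    ⟨_, hζ₀.isIrr_restrict le_sup_left h2 ζ₀.2.isCharacter φ.2⟩
  have hθ' : IsRes η₀.1 θ'.1 := isRes_restrict h1 _
  have hφ' : IsRes ζ₀.1 φ'.1 := isRes_restrict h2 _
  have hS2 : ⁅S, S⁆ ≤ S := commutator_le_self S
  rw [mkCnt_eq_card_over hMG hS hGM hGS hθ hd hη₀ hθ' (h1.trans hMS) hr,
    mkCnt_eq_card_over hCN hS' hNC hNS hφ hd' hζ₀ hφ' (h2.trans hCS) hr]
  refine card_over_eq_of_hasExt_iff _ (le_normalizer_sup_commutator hSM hGM hGS) hNG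
    (hsup.trans (sup_le_sup_right le_sup_left N)) ?_ _
    (invBy_of_isRes_sup hSM hGM hGS hθ hη₀ hθ') (invBy_of_isRes_sup hSC hNC hNS hφ hζ₀ hφ')
    fun A hA1 hA2 hA3 => ?_
  · rw [sup_comm M, sup_inf_of_le_normalizer (hS2.trans hSN) (hS2.trans hSM), ← hC', sup_comm]
  have e := hasExt_commutator_sup_iff hCN hS' hNC hNS hφ hζ₀ hφ' hA2
  rw [sup_eq_right.2 hA1] at e
  rw [e, hasExt_commutator_sup_iff hMG hS hGM hGS hθ hη₀ hθ' (hA2.trans hNG)]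
  refine forall₃_congr fun q hq hqp => forall₃_congr fun Q hQ hQA => ?_
  haveI := Fact.mk hq
  have hQN := hQA.trans hA2
  have hle : C ⊔ Q ≤ N := sup_le hCN hQN
  have hCQ : C ⊔ Q ≤ A := sup_le (le_sup_left.trans hA1) hQA
  have := okuyama_wajima hS.pgrp hSL (le_sup_left : C ≤ C ⊔ Q)
    ((le_inf (((commutator_mono hCQ hCQ).trans hA3).trans h2) (commutator_le_self _)).trans
      (sup_inf_sup_le_of_ne hp.out hq (Ne.symm hqp) hS.pgrp hQ hSC (hQN.trans hNC)))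
    ((hle.trans hNG).trans hGL) (hle.trans hN) (by
      obtain ⟨j, hj⟩ := relIndex_sup_eq_pow hQ (hQN.trans hNC)
      rw [← relIndex_mul_relIndex L C _ hLC le_sup_left, hj]
      refine hp.out.not_dvd_mul (fun h => hi (h.trans
        (Dvd.intro _ (relIndex_mul_relIndex L C M hLC hCM)))) fun h => hqp ?_
      exact ((Nat.prime_dvd_prime_iff_eq hp.out hq).1 (hp.out.dvd_of_dvd_pow h)).symm)
    (hφ.mono hSN) M hLM (hMG.trans hGL) hSM hi hC hCM ((hle.trans hNG).trans hGM) θ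
    (hθ.mono hS.le) (hθ.mono (hle.trans hNG)) hm
  rwa [← sup_assoc, sup_eq_left.2 hCM] at this

omit hp in
theorem eq_of_real_over {L M : Subgroup Γ} (hLM : L ≤ M) (hM : M ≤ 𝐍[L])
    (hodd : ¬ 2 ∣ L.relIndex M) {ν : IrrCharacter L} (hν : irrConj ν = ν)
    {θ θ' : IrrCharacter M} (h1 : irrConj θ = θ) (h2 : irrConj θ' = θ')
    (h3 : nmult hLM θ.1 ν.1 ≠ 0) (h4 : nmult hLM θ'.1 ν.1 ≠ 0) : θ = θ' := by
  letI : Fintype M := Fintype.ofFinite M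
  letI : Fintype (L.subgroupOf M) := Fintype.ofFinite _
  haveI := normal_subgroupOf' hM
  refine (existsUnique_real_over (L.subgroupOf M) (by
    rwa [← Nat.not_even_iff_odd, even_iff_two_dvd]) (isIrr_subgroupOf hLM ν.2)
    (fun n => irrConj_eq_self_iff.1 hν _)).unique ⟨irrConj_eq_self_iff.1 h1, ?_⟩
    ⟨irrConj_eq_self_iff.1 h2, ?_⟩
  · rw [← coe_nmult_subgroupOf hLM θ.2.isCharacter ν.2.isCharacter]; exact_mod_cast h3
  · rw [← coe_nmult_subgroupOf hLM θ'.2.isCharacter ν.2.isCharacter]; exact_mod_cast h4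

omit hp in
theorem isRes_of_real_over {L M : Subgroup Γ} (hLM : L ≤ M) (hM : M ≤ 𝐍[L])
    (hodd : ¬ 2 ∣ L.relIndex M) {ν : IrrCharacter L} (hν : irrConj ν = ν) (hν' : InvBy M ν.1)
    {θ : IrrCharacter M} (h1 : irrConj θ = θ) (h3 : nmult hLM θ.1 ν.1 ≠ 0) : IsRes θ.1 ν.1 := by
  letI : Fintype M := Fintype.ofFinite M
  letI : Fintype (L.subgroupOf M) := Fintype.ofFinite _
  haveI := normal_subgroupOf' hM
  have := (fsInd_eq_and_inner_eq_one_of_real_over (L.subgroupOf M) (by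
    rwa [← Nat.not_even_iff_odd, even_iff_two_dvd]) (isIrr_subgroupOf hLM ν.2)
    (fun n => irrConj_eq_self_iff.1 hν _) θ.2 (irrConj_eq_self_iff.1 h1) (by
      rw [← coe_nmult_subgroupOf hLM θ.2.isCharacter ν.2.isCharacter]; exact_mod_cast h3)).2
  rw [← coe_nmult_subgroupOf hLM θ.2.isCharacter ν.2.isCharacter, Nat.cast_eq_one] at this
  exact isRes_of_nmult_of_le hLM h3
    (by rw [(exists_deg_of_invBy hLM hM θ ν hν' h3).1, this, one_mul])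

omit hp in
theorem irrConj_smul {M : Subgroup Γ} (x : 𝐍[M]) (θ : IrrCharacter M) :
    irrConj (x • θ) = x • irrConj θ := rfl

omit hp in
theorem mkCnt_restrict {K G N D : Subgroup Γ} (hKG : K ≤ G) (hG : G ≤ 𝐍[K])
    (hN : N ≤ G) (hsup : G ≤ K ⊔ N) (hD : D = K ⊓ N) (hDN : D ≤ N) {θ : IrrCharacter K}
    (hθ : InvBy G θ.1) {φ : IrrCharacter D} (hφ : IsRes θ.1 φ.1) (hr : r → irrConj θ = θ) :
    mkCnt p r hKG θ = mkCnt p r hDN φ := by
  have hDK : D ≤ K := hD ▸ inf_le_left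
  have key : ∀ (χ : IrrCharacter G) (ψ : IrrCharacter N), nmult hKG χ.1 θ.1 ≠ 0 →
      IsRes χ.1 ψ.1 → (PF p r χ ↔ PF p r ψ) := by
    intro χ ψ h1 h2
    have h3 : IsRes (irrConj χ).1 (irrConj ψ).1 := fun k hk => congrArg conj (h2 k hk)
    refine and_congr (by rw [h2.charDegree_eq]) (forall_congr' fun h => ⟨fun h4 => ?_, fun h4 => ?_⟩)
    · rw [h4] at h3
      exact Subtype.ext ((h3.eq hN).symm.trans (h2.eq hN))
    · rw [h4] at h3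
      exact eq_of_isRes_supplement hKG hG hN hsup hD hθ hφ (by rwa [← hr h, nmult_irrConj]) h1 h3 h2
  refine card_eq_of_rel (fun χ ψ => IsRes χ.1.1 ψ.1.1) (fun χ => ?_)
    (fun χ ψ ψ' h1 h2 => Subtype.ext (Subtype.ext ((h1.eq hN).symm.trans (h2.eq hN))))
    (fun ψ => ?_) (fun χ χ' ψ h1 h2 => Subtype.ext
      (eq_of_isRes_supplement hKG hG hN hsup hD hθ hφ χ.2.2 χ'.2.2 h1 h2))
  · exact ⟨⟨⟨_, isIrr_restrict_supplement hKG hG hN hsup hD hθ hφ χ.1 χ.2.2⟩,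
      (key χ.1 _ χ.2.2 (isRes_restrict hN _)).1 χ.2.1,
      nmult_trans_ne_zero hKG hDK χ.1.2.isCharacter θ φ.2.isCharacter χ.2.2
        (by rw [hφ.nmult_eq_one]; exact one_ne_zero)⟩, isRes_restrict hN _⟩
  · obtain ⟨χ, h1, h2⟩ := exists_isRes_supplement hKG hG hN hsup hD hDN hθ hφ ψ.1 ψ.2.2
    exact ⟨⟨χ, (key χ ψ.1 h1 h2).2 ψ.2.1, h1⟩, h2⟩

theorem mkCnt_final (hr : r → p = 2) {L M G S : Subgroup Γ} (hLM : L ≤ M) (hMG : M ≤ G)
    (hGL : G ≤ 𝐍[L]) (hGM : G ≤ 𝐍[M]) (hGS : G ≤ 𝐍[M ⊔ S]) (hS : IsSyl p S G)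
    (hi : ¬ p ∣ L.relIndex M) {ν : IrrCharacter L} (hν : InvBy G ν.1) (hν' : r → irrConj ν = ν)
    (h : L ≤ G ⊓ 𝐍[L ⊔ S]) : mkCnt p r (hLM.trans hMG) ν = mkCnt p r h ν := by
  set N := G ⊓ 𝐍[L ⊔ S] with hN
  have hSM := hS.le.trans hGM
  have hSL := hS.le.trans hGL
  have hML := hMG.trans hGL
  have hNG : N ≤ G := inf_le_left
  have hSN : S ≤ N := le_inf hS.le (le_sup_right.trans le_normalizer)
  have hN' : G ⊓ 𝐍[S] ≤ N :=
    le_inf inf_le_left (le_normalizer_sup (inf_le_left.trans hGL) inf_le_right)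
  set C := relCent L M hML S with hC
  have hCM : C ≤ M := relCent_le _ _
  have hLC : L ≤ C := le_relCent _ hLM hSL
  have hC' : C = M ⊓ N := by
    refine le_antisymm (le_inf hCM (le_inf (hCM.trans hMG) ?_)) fun c hc => ⟨hc.1, fun x hx => ?_⟩
    · refine le_normalizer_iff_cj.2 fun c hc => ?_
      rw [cj_sup, cj_of_mem_normalizer (hML hc.1)]
      refine sup_le le_sup_left (cj_le_iff_forall.2 fun x hx => ?_)
      have := mul_mem (mem_sup_left (comm_mem_symm (hc.2 x hx))) (mem_sup_right hx : x ∈ L ⊔ S)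
      rwa [inv_mul_cancel_right] at this
    · refine mem_of_mem_sup_of_not_dvd hS.pgrp hSL hML hi ?_
        (mul_mem (conj_mem_of_mem_normalizer (hSM hx) hc.1) (inv_mem hc.1))
      have := mul_mem (mem_sup_right hx : x ∈ L ⊔ S)
        (conj_mem_of_mem_normalizer hc.2.2 (inv_mem (mem_sup_right hx)))
      simpa [mul_assoc] using this
  have hCN : C ≤ N := hC' ▸ inf_le_right
  have hNC : N ≤ 𝐍[C] := hC' ▸ le_normalizer_inf (hNG.trans hGM) le_normalizer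
  have hMS : M ⊔ S ≤ G := sup_le hMG hS.le
  have hsup : G ≤ M ⊔ N := by
    rw [← (hS.mono le_sup_right hMS).frattini_sup hMS hGS]
    exact sup_le (sup_le_sup_left hSN M) (hN'.trans le_sup_right)
  have g : GCorr p S hCM := gcorr_relCent hS.pgrp hSL M hLM _ hSM hi C hC hCM
  refine mkCnt_orbit hr hLC hCM hMG hCN hGL hGM hNC hNG hS hSN hN' g hν
    fun θ φ h1 h2 h3 h4 h5 h6 h7 => ?_
  by_cases hr' : r
  · obtain rfl := hr hr'
    have h8 := isRes_of_real_over hLM hML hi (hν' hr') (hν.mono hMG) (h3 hr') h6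
    have h9 : InvBy G θ.1 := (invBy_iff_smul hGM θ).2 fun x =>
      eq_of_real_over hLM hML hi (hν' hr') (by rw [irrConj_smul, h3 hr']) (h3 hr')
        (by rwa [← hν.smul_eq (x := inclusion hGL x) x.2, nmult_smul hLM θ ν _ _ rfl]) h6
    let φ' : IrrCharacter C := ⟨_, h8.isIrr_restrict hLC hCM θ.2.isCharacter ν.2⟩
    have h10 : φ' = φ := eq_of_real_over hLC (hCM.trans hML) (fun h => hi (h.trans
      (Dvd.intro _ (relIndex_mul_relIndex L C M hLC hCM)))) (hν' hr')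
      (Subtype.ext (funext fun c => congrFun (congrArg Subtype.val (h3 hr')) _)) (h4 hr') h6 h7
    exact mkCnt_restrict hMG hGM hNG hsup hC' hCN h9 (h10 ▸ isRes_restrict hCM _) h3
  · set T := G ⊓ invSubgroup θ.1 with hT
    have hMT : M ≤ T := le_inf hMG ((invBy_iff_le le_normalizer).1 (invBy_self θ.2.isClassFunction))
    have hST : S ≤ T := le_inf hS.le ((invBy_iff_le hSM).1 h1)
    have hiff : ∀ y ∈ N, y ∈ invSubgroup θ.1 ↔ y ∈ invSubgroup φ.1 := fun y hy => by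
      have hy' := zpowers_le.2 hy
      rw [← zpowers_le, ← zpowers_le, ← invBy_iff_le (hy'.trans (hNG.trans hGM)),
        ← invBy_iff_le (hy'.trans hNC)]
      exact g.invBy_iff_sup hLC hSM (hSN.trans hNC) (hy'.trans (hNG.trans hGM)) (hy'.trans hNC)
        (hy'.trans inf_le_right) h1 h2 h5
    have hCT : C ≤ T ⊓ N := le_inf (hCM.trans hMT) hCN
    rw [mkCnt_clifford hMT inf_le_left hGM le_rfl (fun h => hS.not_dvd_relIndex
        (h.trans (relIndex_dvd_of_le_left G hST))) h3,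
      mkCnt_clifford hCT inf_le_right hNC (fun y hy => ⟨⟨hNG hy.1, (hiff y hy.1).2 hy.2⟩, hy.1⟩)
        (fun h => (hS.mono hSN hNG).not_dvd_relIndex
          (h.trans (relIndex_dvd_of_le_left N (le_inf hST hSN)))) h4]
    refine mkCnt_final_inv hr' hLM hMT (inf_le_left.trans hGL) (inf_le_left.trans hGM)
      (inf_le_left.trans hGS) (hS.mono hST inf_le_left) hi inf_le_left (le_inf hST hSN)
      (inf_le_right.trans inf_le_right) ?_ hC ?_ hCM hCT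
      ((invBy_iff_le (inf_le_left.trans hGM)).2 inf_le_right)
      ((invBy_iff_le (inf_le_right.trans hNC)).2 fun y hy => (hiff y hy.2).1 hy.1.2) h5
    · rw [inf_comm T, ← sup_inf_of_le_normalizer' hMT (hNG.trans hGM)]
      exact le_inf (inf_le_left.trans hsup) le_rfl
    · rw [← inf_assoc, inf_eq_left.2 hMT, hC']

/-- the relative McKay equality for `p`-solvable groups -/
theorem mkCnt_eq_normalizer (hr : r → p = 2) {S : Subgroup Γ} (n : ℕ) :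
    ∀ {L G : Subgroup Γ} (hLG : L ≤ G), L.relIndex G = n → G ≤ 𝐍[L] → IsSyl p S G →
      IsPSolvable p G → ∀ {ν : IrrCharacter L}, InvBy S ν.1 → (r → irrConj ν = ν) →
      ∀ h : L ≤ G ⊓ 𝐍[L ⊔ S], mkCnt p r hLG ν = mkCnt p r h ν := by
  induction n using Nat.strong_induction_on with
  | _ n ih =>
  intro L G hLG hn hGL hS hsol ν hν hν' h
  subst hn
  have hSL := hS.le.trans hGL
  have hSN : S ≤ G ⊓ 𝐍[L ⊔ S] := le_inf hS.le (le_sup_right.trans le_normalizer)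
  set T := G ⊓ invSubgroup ν.1 with hT
  have hLT : L ≤ T := le_inf hLG ((invBy_iff_le le_normalizer).1 (invBy_self ν.2.isClassFunction))
  have hST : S ≤ T := le_inf hS.le ((invBy_iff_le hSL).1 hν)
  rcases (inf_le_left : T ≤ G).lt_or_eq with hlt | heq
  · have h1 : L ≤ T ⊓ 𝐍[L ⊔ S] := le_inf hLT (h.trans inf_le_right)
    rw [mkCnt_clifford hLT inf_le_left hGL le_rfl (fun h => hS.not_dvd_relIndex
        (h.trans (relIndex_dvd_of_le_left G hST))) hν',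
      ih _ (relIndex_lt_right hLT hlt) hLT rfl (inf_le_left.trans hGL) (hS.mono hST inf_le_left)
        (PLocal.IsPSolvable.of_le hsol inf_le_left) hν hν' h1]
    exact (mkCnt_clifford h1 (inf_le_inf_right _ inf_le_left) (inf_le_left.trans hGL)
      (fun y hy => ⟨⟨hy.1.1, hy.2⟩, hy.1.2⟩) (fun h => (hS.mono hSN inf_le_left).not_dvd_relIndex
        (h.trans (relIndex_dvd_of_le_left _ (le_inf hST (hSN.trans inf_le_right))))) hν').symm
  have hνG : InvBy G ν.1 := (invBy_iff_le hGL).2 (heq.ge.trans inf_le_right)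
  rcases hLG.lt_or_eq with hlt | rfl
  swap
  · exact mkCnt_congr (le_antisymm h inf_le_left) _ _ _
  obtain ⟨M', hM1, hM2, hM3⟩ := PLocal.isPSolvable_iff_exists_lt.1 hsol (L.subgroupOf G)
    (normal_subgroupOf' hGL) fun e => hlt.not_ge (subgroupOf_eq_top.1 e)
  set M := M'.map G.subtype with hM
  have hMG : M ≤ G := map_subtype_le _
  have hGM : G ≤ 𝐍[M] := le_normalizer_map_subtype M'
  have hLM : L < M := by
    rw [← map_subgroupOf_of_le hLG]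
    exact (map_lt_map_iff_of_injective G.subtype_injective).2 hM2
  rw [← map_subtype_subgroupOf M', relIndex_subgroupOf hMG] at hM3
  have hMN : M ≤ G ⊓ 𝐍[M ⊔ S] := le_inf hMG (le_sup_left.trans le_normalizer)
  have hSN' : S ≤ G ⊓ 𝐍[M ⊔ S] := le_inf hS.le (le_sup_right.trans le_normalizer)
  have e1 : mkCnt p r hLG ν = mkCnt p r (hLM.le.trans hMN) ν := by
    refine mkCnt_orbit hr hLM.le le_rfl hMG hMN hGL hGM (inf_le_left.trans hGM) inf_le_left hS hSN'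
      (le_inf inf_le_left (le_normalizer_sup (inf_le_left.trans hGM) inf_le_right))
      (GCorr.refl hp.out S M) hνG fun θ φ h1 _ h3 _ h5 _ _ => ?_
    have : θ = φ := by
      by_contra hne
      rw [nmult_refl, if_neg hne] at h5
      exact h5 (dvd_zero p)
    subst this
    exact ih _ (relIndex_lt_left hLM hMG) hMG rfl hGM hS hsol h1 h3 hMN
  rcases hM3 with ⟨k, hk⟩ | hM3
  · rw [e1]
    refine mkCnt_congr ?_ _ _ _
    rw [le_antisymm (sup_le (le_sup_of_relIndex_eq_pow hLM.le hMG hGM hS hk) le_sup_right)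
      (sup_le_sup_right hLM.le S)]
  rcases (inf_le_left : G ⊓ 𝐍[M ⊔ S] ≤ G).lt_or_eq with hlt' | heq'
  · rw [e1, ih _ (relIndex_lt_right (hLM.le.trans hMN) hlt') _ rfl (inf_le_left.trans hGL)
      (hS.mono hSN' inf_le_left) (PLocal.IsPSolvable.of_le hsol inf_le_left) hν hν'
      (le_inf (hLM.le.trans hMN) (h.trans inf_le_right))]
    refine mkCnt_congr (le_antisymm (inf_le_inf_right _ inf_le_left)
      (le_inf (le_inf inf_le_left ?_) inf_le_right)) _ _ _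
    rw [← sup_eq_left.2 hLM.le, sup_assoc]
    exact le_normalizer_sup (inf_le_left.trans hGM) inf_le_right
  · exact mkCnt_final hr hLM.le hMG hGL hGM (heq'.ge.trans inf_le_right) hS
      (hp.out.coprime_iff_not_dvd.1 hM3.symm) hνG hν' h

end Cfsg.Agent.Char
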