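import Mathlib
import Cfsg.Agent.Char.DefectZero
import Cfsg.Agent.Char.Quot
import Cfsg.Agent.Char.Integrality
import Cfsg.Agent.Perm.ZassPrime
import Cfsg.Agent.S0742
import Cfsg.Agent.Class.FieldTransport
import Cfsg.Agent.KSG.SL2Deg

/-!
Element orders from character degrees (defect zero vanishing and the column relation), and the
recognition of `PSL₂(q)`, `q ≡ 1 (mod 4)`, by its order and a self-centralising abelian Sylow
subgroup of order `q`.
-/

set_option autoImplicit false

namespace Cfsg.Agent.DegVan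

open Cfsg Cfsg.Agent.Char MulAction Subgroup
open scoped Pointwise

section Deg

variable {G : Type*} [Group G] [Finite G]

/-- If every non-trivial irreducible character vanishes at `g ≠ 1` or has degree divisible by
`m`, then `m = 1`. -/
theorem eq_one_of_van {g : G} (hg : g ≠ 1) {m : ℕ}
    (h : ∀ χ : IrrCharacter G, χ ≠ irrOne G →
      (χ : G → ℂ) g = 0 ∨ m ∣ charDegree (χ : G → ℂ)) : m = 1 := by
  classical
  have := Fintype.ofFinite G
  have h0 := sum_irr_one_mul hg
  rw [← Finset.add_sum_erase _ _ (Finset.mem_univ (irrOne G))] at h0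
  have key : ∀ χ ∈ (Finset.univ.erase (irrOne G)), ∃ a : ℂ, IsIntegral ℤ a ∧
      (χ : G → ℂ) 1 * (χ : G → ℂ) g = m * a := by
    intro χ hχ
    rcases h χ (Finset.ne_of_mem_erase hχ) with h1 | ⟨k, hk⟩
    · exact ⟨0, isIntegral_zero, by rw [h1]; simp⟩
    · refine ⟨k * (χ : G → ℂ) g, (isIntegral_natCast k).mul (χ.2.isCharacter.isIntegral g), ?_⟩
      rw [← coe_charDegree_irr, hk]
      push_cast
      ring
  choose! a ha using key
  rw [Finset.sum_congr rfl fun χ hχ => (ha χ hχ).2, ← Finset.mul_sum] at h0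
  have hi : IsIntegral ℤ (∑ χ ∈ Finset.univ.erase (irrOne G), a χ) :=
    IsIntegral.sum _ fun χ hχ => (ha χ hχ).1
  generalize (∑ χ ∈ Finset.univ.erase (irrOne G), a χ) = s at h0 hi
  have h1 : (1 : ℂ) + m * s = 0 := by simpa [irrOne] using h0
  have hm : m ≠ 0 := by
    rintro rfl
    simp at h1
  have hm' : (m : ℂ) ≠ 0 := Nat.cast_ne_zero.2 hm
  refine Nat.dvd_one.1 (dvd_of_isIntegral_div hm ?_)
  have : ((1 : ℕ) : ℂ) / (m : ℂ) = -s := by
    field_simp
    push_cast
    linear_combination h1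
  rw [this]
  exact hi.neg

theorem van_of_defect (χ : IrrCharacter G) {p d r : ℕ} (hp : p.Prime)
    (hd : charDegree (χ : G → ℂ) = d) (hr : Nat.card G = d * r) (hpr : ¬ p ∣ r) {x : G}
    (hx : p ∣ orderOf x) : (χ : G → ℂ) x = 0 :=
  χ.2.eq_zero_of_defect_zero hp (by rw [← coe_charDegree_irr, hd]) hr hpr hx

/-- Equal degree multiplicities give a degree preserving bijection. -/
theorem exists_equiv {H : Type*} [Group H] [Finite H]
    (h : ∀ d : ℕ, Nat.card {χ : IrrCharacter G // (χ : G → ℂ) 1 = (d : ℂ)} =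
      Nat.card {χ : IrrCharacter H // (χ : H → ℂ) 1 = (d : ℂ)}) :
    ∃ e : IrrCharacter G ≃ IrrCharacter H,
      ∀ χ, charDegree (e χ : H → ℂ) = charDegree (χ : G → ℂ) := by
  have h' : ∀ d : ℕ, Nonempty ({χ : IrrCharacter G // charDegree (χ : G → ℂ) = d} ≃
      {χ : IrrCharacter H // charDegree (χ : H → ℂ) = d}) := by
    intro d
    rw [← Finite.card_eq]
    convert h d using 3
    · ext χ
      rw [← coe_charDegree_irr, Nat.cast_inj]
    · ext χ
      rw [← coe_charDegree_irr, Nat.cast_inj]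
  exact ⟨Equiv.ofFiberEquiv (f := fun χ : IrrCharacter G => charDegree (χ : G → ℂ))
    (g := fun χ : IrrCharacter H => charDegree (χ : H → ℂ)) fun d => (h' d).some,
    fun χ => Equiv.ofFiberEquiv_map (f := fun χ : IrrCharacter G => charDegree (χ : G → ℂ))
    (g := fun χ : IrrCharacter H => charDegree (χ : H → ℂ)) _ χ⟩

theorem card_eq_of_equiv {H : Type*} [Group H] [Finite H] (e : IrrCharacter G ≃ IrrCharacter H)
    (he : ∀ χ, charDegree (e χ : H → ℂ) = charDegree (χ : G → ℂ)) : Nat.card G = Nat.card H := by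
  have h1 := sum_irr_one_sq (G := G)
  have h2 := sum_irr_one_sq (G := H)
  rw [← e.sum_comp] at h2
  simp only [← coe_charDegree_irr, he] at h1 h2
  exact_mod_cast h1.symm.trans h2

end Deg

section Zass

variable {G : Type*} [Group G] [Finite G]

theorem card_dvd_of_free {Ω : Type*} [MulAction G Ω] [Finite Ω] {T : Subgroup G} {C : Set Ω}
    (hinv : ∀ t ∈ T, ∀ c ∈ C, t • c ∈ C)
    (hf : ∀ t ∈ T, ∀ c ∈ C, t • c = c → t = 1) : Nat.card T ∣ C.ncard := by
  let _ : MulAction T C :=
    { smul := fun t c => ⟨(t : G) • c.1, hinv t t.2 c c.2⟩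
      one_smul := fun c => Subtype.ext (one_smul G _)
      mul_smul := fun a b c => Subtype.ext (mul_smul (a : G) _ _) }
  rw [← Nat.card_coe_set_eq, Nat.card_congr (selfEquivOrbitsQuotientProd (G := T) (X := C) fun c =>
    (eq_bot_iff_forall _).2 fun t ht => Subtype.ext (hf t t.2 c c.2 (congrArg Subtype.val ht))),
    Nat.card_prod]
  exact Dvd.intro_left _ rfl

variable {p : ℕ} [hp : Fact p.Prime] (P : Sylow p G)
  (hab : ∀ x ∈ (P : Subgroup G), ∀ y ∈ (P : Subgroup G), x * y = y * x)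
  (hC : ∀ x ∈ (P : Subgroup G), x ≠ 1 → ∀ g : G, g * x = x * g → g ∈ (P : Subgroup G))

include hab hC in
theorem free_sylow {u : G} (hu : u ∈ (P : Subgroup G)) {Q : Sylow p G} (hQ : Q ≠ P)
    (h : u • Q = Q) : u = 1 := by
  by_contra h1
  have h2 : u ∈ (Q : Subgroup G) := by
    have := P.isPGroup'.inf_normalizer_sylow Q
    exact (this.le ⟨hu, Sylow.smul_eq_iff_mem_normalizer.1 h⟩).2
  obtain ⟨g, rfl⟩ := exists_smul_eq G P Q
  apply hQ
  refine Sylow.ext ((g • P).is_maximal' P.isPGroup' fun y hy => hC u hu h1 y ?_).symm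
  rw [Sylow.coe_subgroup_smul, Subgroup.mem_pointwise_smul_iff_inv_smul_mem] at h2 hy
  have := hab _ hy _ h2
  rw [← smul_mul', ← smul_mul'] at this
  exact smul_left_cancel _ this

include hC in
theorem index_le {x : G} (hx : x ∈ (P : Subgroup G)) (hx1 : x ≠ 1) :
    (P : Subgroup G).relIndex (normalizer (P : Set G)) ≤ Nat.card P - 1 := by
  classical
  let f : normalizer (P : Set G) → {y : P // y ≠ 1} := fun g =>
    ⟨⟨g * x * (g : G)⁻¹, (mem_normalizer_iff.1 g.2 x).1 hx⟩, fun h => hx1 (by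
      simpa using congrArg Subtype.val h)⟩
  have hf : ∀ g k, f g = f k → g⁻¹ * k ∈ (P : Subgroup G).subgroupOf (normalizer (P : Set G)) := by
    intro g k h
    have h1 : (g : G) * x * (g : G)⁻¹ = k * x * (k : G)⁻¹ := congrArg (fun z => (z.1 : G)) h
    refine hC x hx hx1 _ ?_
    change (g : G)⁻¹ * k * x = x * ((g : G)⁻¹ * k)
    calc (g : G)⁻¹ * k * x = (g : G)⁻¹ * (k * x * (k : G)⁻¹) * k := by group
      _ = x * ((g : G)⁻¹ * k) := by rw [← h1]; group
  have hi : Function.Injective fun c : normalizer (P : Set G) ⧸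
      (P : Subgroup G).subgroupOf (normalizer (P : Set G)) => f c.out := by
    intro c d h
    rw [← c.out_eq, ← d.out_eq]
    exact QuotientGroup.eq.2 (hf _ _ h)
  have := Nat.card_le_card_of_injective _ hi
  rw [Perm.DoubleCount.card_ne] at this
  exact this

include hab hC in
/-- `|G| = q (q² - 1) / 2`, `q ≡ 1 (mod 4)`, a self-centralising abelian Sylow subgroup of order
`q`: `G ≅ PSL₂(q)`. -/
theorem psl_of_cent {F : Type*} [Field F] [Fintype F] (hq : Nat.card P = Fintype.card F)
    (h4 : Fintype.card F % 4 = 1)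
    (hG : Nat.card G = Nat.card (Matrix.ProjectiveSpecialLinearGroup (Fin 2) F)) :
    Nonempty (G ≃* Matrix.ProjectiveSpecialLinearGroup (Fin 2) F) := by
  classical
  have hF1 : 1 < Fintype.card F := Fintype.one_lt_card
  have hL := Perm.ZassPSL.two_mul_card_PSL (F := F)
    (by rw [Nat.card_eq_fintype_card]; exact Nat.odd_iff.2 (by omega))
  rw [← hG, Nat.card_eq_fintype_card (α := F)] at hL
  obtain ⟨k, hk⟩ : ∃ k, Fintype.card F = 4 * k + 1 := ⟨Fintype.card F / 4, by omega⟩
  rw [hk] at hL hq hF1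
  have hk0 : 0 < k := by omega
  have hnt : Nontrivial P := Finite.one_lt_card_iff_nontrivial.1 (by omega)
  obtain ⟨⟨x, hx⟩, hx1⟩ := exists_ne (1 : P)
  have hx1 : x ≠ 1 := fun h => hx1 (Subtype.ext h)
  have ha : ∀ u ∈ (P : Subgroup G), u • P = P := fun u hu =>
    Sylow.smul_eq_iff_mem_normalizer.mpr (Subgroup.le_normalizer hu)
  have hfree : ∀ u ∈ (P : Subgroup G), ∀ c : Sylow p G, c ≠ P → u • c = c → u = 1 :=
    fun u hu c hc h => free_sylow P hab hC hu hc h
  have hd : Nat.card (P : Subgroup G) ∣ ({P}ᶜ : Set (Sylow p G)).ncard :=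
    card_dvd_of_free (fun t ht c hc h => hc (smul_left_cancel t ((show t • c = P from h).trans
      (ha t ht).symm))) hfree
  rw [Set.ncard_compl, Set.ncard_singleton] at hd
  have he := index_le P hC hx hx1
  have hN : Nat.card (normalizer (P : Set G)) =
      Nat.card (P : Subgroup G) * (P : Subgroup G).relIndex (normalizer (P : Set G)) := by
    rw [relIndex, ← card_mul_index ((P : Subgroup G).subgroupOf (normalizer (P : Set G)))]
    congr 1
    exact Nat.card_congr (subgroupOfEquivOfLe (le_normalizer (H := (P : Subgroup G)))).toEquiv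
  have hn := card_mul_index (normalizer (P : Set G))
  rw [← P.card_eq_index_normalizer] at hn
  have hq' : Nat.card (P : Subgroup G) = 4 * k + 1 := hq
  rw [hq] at he
  rw [hq'] at hd hN
  generalize (P : Subgroup G).relIndex (normalizer (P : Set G)) = e at he hN
  have hpos : 0 < Nat.card (Sylow p G) := Nat.card_pos
  obtain ⟨j, hj⟩ := hd
  have hn1 : Nat.card (Sylow p G) = (4 * k + 1) * j + 1 := by omega
  have h5 : 2 * (e * ((4 * k + 1) * j + 1)) = 4 * k * (4 * k + 2) := by
    apply Nat.eq_of_mul_eq_mul_left (show 0 < 4 * k + 1 by omega)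
    rw [← hn, hN, hn1, Nat.add_sub_cancel] at hL
    linear_combination hL
  have h6 : (4 * k + 1) ∣ 2 * e + 1 := by
    have : (4 * k + 1) * (2 * e * j) + (2 * e + 1) = (4 * k + 1) * (4 * k + 1) := by
      linear_combination h5
    exact (Nat.dvd_add_right (Dvd.intro _ rfl)).1 (this ▸ Dvd.intro _ rfl)
  obtain ⟨i, hi⟩ := h6
  have hi1 : i = 1 := by
    rcases i with _ | _ | i
    · omega
    · rfl
    · have : (4 * k + 1) * 2 ≤ (4 * k + 1) * (i + 1 + 1) := Nat.mul_le_mul_left _ (by omega)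
      omega
  have he2 : e = 2 * k := by rw [hi1] at hi; omega
  have hj1 : j = 1 := by
    rw [he2] at h5
    have : (4 * k + 1) * j + 1 = 4 * k + 2 := by
      apply Nat.eq_of_mul_eq_mul_left (show 0 < 4 * k by omega)
      linear_combination h5
    exact Nat.eq_of_mul_eq_mul_left (show 0 < 4 * k + 1 by omega) (by omega)
  rw [hj1, mul_one] at hn1
  have hreg : ∀ c d : Sylow p G, c ≠ P → d ≠ P → ∃ u ∈ (P : Subgroup G), u • c = d := by
    intro c d hc hd
    let f : ↥(P : Subgroup G) → {y : Sylow p G // y ≠ P} := fun u =>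
      ⟨u.1 • c, fun h => hc (smul_left_cancel u.1 (h.trans (ha _ u.2).symm))⟩
    have hf : Function.Injective f := by
      intro u v h
      have h2 : u.1 • c = v.1 • c := congrArg Subtype.val h
      have := hfree _ (mul_mem (inv_mem v.2) u.2) c hc (by rw [mul_smul, h2, inv_smul_smul])
      exact Subtype.ext (inv_mul_eq_one.mp this).symm
    obtain ⟨u, hu⟩ := (hf.bijective_of_nat_card_le
      (by rw [Perm.DoubleCount.card_ne, hn1, hq']; omega)).2 ⟨d, hd⟩
    exact ⟨u, u.2, congrArg Subtype.val hu⟩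
  have h2 := Perm.ZassPSL.two_trans_of_regular ha hreg
  have key : ∀ (g : G) (y z : Sylow p G), P ≠ y → y ≠ z → P ≠ z → g • P = P → g • y = y →
      g • z = z → g = 1 := by
    intro g y z hay hyz haz hga hy hz
    obtain ⟨u, hu, huy⟩ := hreg y z hay.symm haz.symm
    have h3 : g * u * g⁻¹ = u := by
      have := hfree _ (mul_mem (inv_mem hu) ((mem_normalizer_iff.1
        (Sylow.smul_eq_iff_mem_normalizer.1 hga) u).1 hu)) y hay.symm (by
        rw [mul_smul, mul_smul, mul_smul, inv_smul_eq_iff.mpr hy.symm, huy, hz, inv_smul_eq_iff,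
          huy])
      exact (inv_mul_eq_one.mp this).symm
    refine hfree g (hC u hu ?_ g (mul_inv_eq_iff_eq_mul.1 h3)) y hay.symm hy
    rintro rfl
    exact hyz ((one_smul G y).symm.trans huy)
  have h3 : ∀ (g : G) (a b c : Sylow p G), a ≠ b → b ≠ c → a ≠ c → g • a = a → g • b = b →
      g • c = c → g = 1 := by
    intro g a y z hxy hyz hxz hx hy hz
    obtain ⟨k, rfl⟩ := exists_smul_eq G P a
    have := key (k⁻¹ * g * k) (k⁻¹ • y) (k⁻¹ • z) (fun h => hxy (inv_smul_eq_iff.mp h.symm).symm)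
      (fun h => hyz (smul_left_cancel _ h)) (fun h => hxz (inv_smul_eq_iff.mp h.symm).symm)
      (by rw [mul_smul, mul_smul, hx, inv_smul_smul])
      (by rw [mul_smul, mul_smul, smul_inv_smul, hy])
      (by rw [mul_smul, mul_smul, smul_inv_smul, hz])
    simpa [mul_assoc, inv_mul_eq_one] using this
  have := Fintype.ofFinite (Sylow p G)
  have h33 : 2 < Fintype.card (Sylow p G) := by rw [← Nat.card_eq_fintype_card]; omega
  obtain ⟨a, b, c, hab', hac, hbc⟩ := Fintype.two_lt_card_iff.1 h33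
  have hf : FaithfulSMul G (Sylow p G) := ⟨fun {g g'} h => by
    refine (inv_mul_eq_one.1 (h3 _ a b c hab' hbc hac ?_ ?_ ?_)).symm <;>
      rw [mul_smul, h, inv_smul_smul]⟩
  have : Nontrivial (Sylow p G) := ⟨⟨a, b, hab'⟩⟩
  obtain ⟨Q, hQ⟩ := exists_ne P
  have hst := Perm.ZassPSL.card_stabilizer_of_two h2 hQ.symm
  rw [Sylow.stabilizer_eq_normalizer] at hst
  rw [hN, hn1, Nat.add_sub_cancel, mul_comm] at hst
  have hst' := Nat.eq_of_mul_eq_mul_right (by omega) hst
  rw [← Sylow.stabilizer_eq_normalizer, he2] at hst'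
  have hZ : IsZassenhausGroup G (Sylow p G) := by
    refine ⟨hf, h2, h3, ?_, fun N hN ht => ?_⟩
    · have : Nontrivial ↥(stabilizer G P ⊓ stabilizer G Q) :=
        Finite.one_lt_card_iff_nontrivial.1 (by omega)
      obtain ⟨⟨g, hg⟩, hg1⟩ := exists_ne (1 : ↥(stabilizer G P ⊓ stabilizer G Q))
      exact ⟨g, fun h => hg1 (Subtype.ext h), P, Q, hQ.symm, hg.1, hg.2⟩
    · by_contra hcon
      push Not at hcon
      have hc : Nat.card N = 2 * (2 * k + 1) := by
        have := card_mul_index (stabilizer N P)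
        rw [index_stabilizer_of_transitive, hcon P, card_bot, hn1] at this
        omega
      obtain ⟨r, hr, hrd⟩ := Nat.exists_prime_and_dvd (show 2 * k + 1 ≠ 1 by omega)
      have : Fact r.Prime := ⟨hr⟩
      obtain ⟨y, hy⟩ := exists_prime_orderOf_dvd_card' (G := N) r (hc ▸ hrd.mul_left 2)
      obtain ⟨z, hz⟩ := exists_prime_orderOf_dvd_card' (G := N) 2 (hc ▸ Dvd.intro _ rfl)
      have hmv : ∀ w : N, (w : G) • P = P → w = 1 := fun w hw =>
        (hcon P).le (show w ∈ stabilizer N P from hw)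
      obtain ⟨u, hu, huy⟩ := hreg ((y : G) • P) ((z : G) • P)
        (fun h => hr.one_lt.ne' (by rw [← hy, hmv y h, orderOf_one]))
        (fun h => by rw [hmv z h, orderOf_one] at hz; omega)
      have h7 := hmv (z⁻¹ * ⟨u * y * u⁻¹, hN.conj_mem _ y.2 u⟩) (by
        change ((z : G)⁻¹ * (u * y * u⁻¹)) • P = P
        rw [mul_smul, mul_smul, mul_smul, inv_smul_eq_iff.2 (ha u hu).symm, huy, inv_smul_smul])
      have h8 : (z : G) = u * y * u⁻¹ := congrArg Subtype.val (inv_mul_eq_one.1 h7)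
      have h9 : orderOf (z : G) = orderOf (y : G) := by
        rw [h8]
        exact (MulAut.conj u).orderOf_eq _
      rw [Subgroup.orderOf_coe, Subgroup.orderOf_coe, hy, hz] at h9
      subst h9
      omega
  obtain ⟨p', f, K, _, _, -, -, hK, hΩ, ⟨e⟩⟩ := S0742.result hZ hQ.symm
    (by rw [← hst']; exact even_two_mul k)
    (by rw [← hst', ← Nat.card_eq_fintype_card, hn1]; omega)
  rw [← Nat.card_eq_fintype_card, hn1, ← hK, ← hk] at hΩ
  exact ⟨e.trans (Class.pslCongr _ (FiniteField.ringEquivOfCardEq (by omega)))⟩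

end Zass

section PSL

open KSG KSG.GL2 KSG.M2

variable {F : Type*} [Field F] [Fintype F]

/-- The degrees of `PSL₂(q)`, `q ≡ 1 (mod 4)` or `q` even. -/
theorem psl_deg (h4 : 4 ≤ Fintype.card F) (h3 : Fintype.card F % 4 ≠ 3)
    (χ : IrrCharacter (Matrix.ProjectiveSpecialLinearGroup (Fin 2) F)) (h1 : χ ≠ irrOne _) :
    charDegree χ.1 = Fintype.card F ∨ charDegree χ.1 = Fintype.card F + 1 ∨
      charDegree χ.1 + 1 = Fintype.card F ∨ 2 * charDegree χ.1 = Fintype.card F + 1 := by
  classical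
  obtain ⟨g1, _⟩ := exists_fact_noEigS (F := F)
  have hs := QuotientGroup.mk'_surjective (Subgroup.center (Matrix.SpecialLinearGroup (Fin 2) F))
  rw [← charDegree_inflateIrr _ hs]
  have e := coe_charDegree_irr (inflateIrr _ hs χ)
  rcases irrS_cases_deg g1 (inflateIrr _ hs χ).2 with
    ⟨h, -⟩ | ⟨-, h⟩ | ⟨-, h⟩ | ⟨-, h⟩ | ⟨-, h⟩ | ⟨⟨η, χ', h2, hη, hp⟩, h⟩
  · exact absurd (inflateIrr_injective _ hs (Subtype.ext h)) h1
  · rw [← e] at h; exact Or.inl (by exact_mod_cast h)
  · rw [← e] at h; exact Or.inr (Or.inl (by exact_mod_cast h))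
  · rw [← e, eq_sub_iff_add_eq] at h; exact Or.inr (Or.inr (Or.inl (by exact_mod_cast h)))
  · rw [← e] at h; exact Or.inr (Or.inr (Or.inr (by exact_mod_cast h)))
  · exfalso
    have ho : 2 * charDegree (inflateIrr _ hs χ).1 + 1 = Fintype.card F := by
      rw [← e, eq_sub_iff_add_eq] at h; exact_mod_cast h
    have h20 := two_ne_zero_of_torS h2 hη
    let m : TorS g1 := ⟨-1, neg_one_mem_cent g1⟩
    have hm : η m = -1 := by
      refine (hom_sq_one_apply h2 hη m).2 ?_
      obtain ⟨k, hk⟩ : ∃ k, Fintype.card F = 4 * k + 1 := ⟨Fintype.card F / 4, by omega⟩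
      rw [isSquare_iff_pow_eq_one (m := 2 * k + 1)
        (by rw [card_torS, Nat.card_eq_fintype_card, hk]; ring)]
      intro h5
      have h6 := congrArg (fun x : TorS g1 => ((x.1 : Matrix.SpecialLinearGroup (Fin 2) F) :
        Matrix (Fin 2) (Fin 2) F) 0 0) h5
      simp [m, pow_succ, pow_mul] at h6
      exact h20 (by linear_combination -h6)
    have h7 := hp.two_mul_apply (g := -1) (Or.inl (SL_isScal_iff.2 (Or.inr rfl)))
    have h8 : Matrix.SpecialLinearGroup.toGL (-1 : Matrix.SpecialLinearGroup (Fin 2) F) =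
        sc (-1) := Units.ext (by simp [coe_sc])
    have h9 : scT (Matrix.SpecialLinearGroup.toGL g1) (-1) = torIncl g1 m :=
      Subtype.ext h8.symm
    rw [h8, (vals_cusp _).scal, h9, extT_apply, hm] at h7
    have h10 : (inflateIrr _ hs χ).1 (-1) = (inflateIrr _ hs χ).1 1 :=
      (mem_range_inflateIrr _ hs _).1 ⟨χ, rfl⟩ _ (by
        rw [QuotientGroup.ker_mk']; exact SL_mem_center_iff'.2 (Or.inr rfl))
    rw [h10, h] at h7
    have h11 : (Fintype.card F : ℂ) = 1 := by
      simp at h7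
      linear_combination h7 / 2
    have : Fintype.card F = 1 := by exact_mod_cast h11
    omega

end PSL

end Cfsg.Agent.DegVan
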