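import Mathlib
import Cfsg.Agent.Char.DiffFour2
import Cfsg.Agent.S3278

/-!
`χ 1 - χ u = 4` or `χ u = 0`: the group is `A₅` when `u` is an involution.
-/

set_option autoImplicit false
set_option linter.style.haveILetI false
set_option linter.unusedSectionVars false

namespace Cfsg.Agent.Char.Four

open Subgroup Cfsg.Agent.Char
open scoped ComplexConjugate

variable {G : Type*} [Group G] [Fintype G]

local notation "𝟙" => (fun _ : G => (1 : ℂ))
local notation "⟪" a ", " b "⟫" => classInner a b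

/-- The five-dimensional character. -/
def psi (χ : G → ℂ) : G → ℂ := χ * χ - χ - 𝟙

theorem psi_apply (χ : G → ℂ) (g : G) : psi χ g = χ g * χ g - χ g - 1 := rfl

/-- The final data in `A₅`. -/
structure Data (u : G) : Prop where
  sq : u * u = 1
  card : Nat.card (centralizer ({u} : Set G)) = 4
  pw : ∀ g : G, g ^ 2 = 1 ∨ g ^ 3 = 1 ∨ g ^ 5 = 1
  cj : ∀ v, v ≠ 1 → v * v = 1 → IsConj v u
  iso : Nonempty (G ≃* alternatingGroup (Fin 5))

theorem sq_of_comm {u : G} (h1 : u ≠ 1) (hu : u * u = 1)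
    (pw : ∀ g : G, g ^ 2 = 1 ∨ g ^ 3 = 1 ∨ g ^ 5 = 1) {c : G} (hc : Commute u c) : c * c = 1 := by
  by_contra h
  have a : ∀ g : G, g ^ 2 ≠ 1 → g ^ 15 = 1 := fun g hg => by
    rcases (pw g).resolve_left hg with e | e
    · rw [show 15 = 3 * 5 from rfl, pow_mul, e, one_pow]
    · rw [show 15 = 5 * 3 from rfl, pow_mul, e, one_pow]
  have h2 := a (u * c) (by rwa [hc.mul_pow, pow_two, hu, one_mul, pow_two])
  rw [hc.mul_pow, a c (by rwa [pow_two]), mul_one, show 15 = 2 * 7 + 1 from rfl, pow_succ, pow_mul,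
    pow_two, hu, one_pow, one_mul] at h2
  exact h1 h2

namespace Hyp

variable {u : G} (H : Hyp u)

section

variable (hu : u * u = 1) {χ : G → ℂ} (hχ : IsIrrCharacter G χ) (h3 : χ 1 = 3)
include H hu hχ h3

theorem sq_val (g : G) : χ (g * g) = χ g ^ 2 - 2 * χ g := by
  rw [(rec3 H.perfect hχ.isCharacter h3 g).1, H.real3 hu hχ h3]

theorem psi_irr : IsIrrCharacter G (psi χ) ∧ psi χ 1 = 5 ∧ psi χ u = 1 := by
  have r := H.real3 hu hχ h3
  have e : symSq χ = χ * χ - χ := funext fun g => by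
    simp only [symSq, H.sq_val hu hχ h3, Pi.sub_apply, Pi.mul_apply]; ring
  have h1 : ⟪χ * χ - χ, 𝟙⟫ = 1 := by
    have : ⟪χ * χ, 𝟙⟫ = ⟪χ, χ⟫ := inn_congr fun g => by simp [r]
    rw [classInner_sub_left, this, hχ.inner_self, orth1 hχ h3 (by norm_num), sub_zero]
  have h2 : IsCharacter G (psi χ) := (e ▸ isCharacter_symSq hχ.isCharacter).sub_irr
    isIrrCharacter_one (by rw [h1]; norm_num)
  have h5 : psi χ 1 = 5 := by rw [psi_apply, h3]; norm_num
  have h6 : psi χ u = 1 := by rw [psi_apply, H.val3 hu hχ h3]; norm_num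
  exact ⟨H.dec1 hu h2 (by rw [psi, classInner_sub_left, h1, inn11, sub_self])
    (by rw [h5, h6]; norm_num), h5, h6⟩

theorem psi_eq {φ : G → ℂ} (hφ : IsIrrCharacter G φ) (h3' : φ 1 = 3) (hne : φ ≠ χ) :
    psi χ = psi φ := by
  have r := H.real3 hu hχ h3
  have r' := H.real3 hu hφ h3'
  obtain ⟨a, a1, -⟩ := H.psi_irr hu hχ h3
  obtain ⟨b, b1, -⟩ := H.psi_irr hu hφ h3'
  have h := (H.norm_two hu hχ h3 hφ h3' (by rwa [funext r])).2
  have e : ⟪χ * φ, χ * φ⟫ = ⟪psi χ + χ + 𝟙, psi φ + φ + 𝟙⟫ :=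
    inn_congr fun g => by simp [psi_apply, r, r']; ring
  refine a.eq_of_inner_ne_zero b fun h0 => ?_
  simp only [e, classInner_add_left, classInner_add_right, h0, inn11, hχ.inner_eq_zero hφ hne.symm,
    orth a hφ a1 h3' (by norm_num), orth1 a a1 (by norm_num), orth hχ b h3 b1 (by norm_num),
    orth1 hχ h3 (by norm_num), orth isIrrCharacter_one b rfl b1 (by norm_num),
    orth isIrrCharacter_one hφ rfl h3' (by norm_num)] at h
  norm_num at h

theorem ker_eq {φ : G → ℂ} (hφ : IsIrrCharacter G φ) (h3' : φ 1 = 3) {g : G} (hg : χ g = 3) :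
    φ g = 3 := by
  by_cases hne : φ = χ
  · rw [hne, hg]
  have e := congrFun (H.psi_eq hu hχ h3 hφ h3' hne) g
  rw [psi_apply, psi_apply, hg] at e
  have e2 : (φ g - 3) * (φ g + 2) = 0 := by linear_combination -e
  refine sub_eq_zero.1 ((mul_eq_zero.1 e2).resolve_right fun h => ?_)
  have := hφ.isCharacter.norm_le (g * g)
  rw [H.sq_val hu hφ h3', eq_neg_of_add_eq_zero_left h, h3'] at this
  norm_num at this

theorem exists_other : ∃ φ, IsIrrCharacter G φ ∧ φ 1 = 3 ∧ φ ≠ χ ∧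
    ∀ g, (χ g + 1) * φ g = χ g * (χ g - 2) * (χ g + 1) := by
  have r := H.real3 hu hχ h3
  have hv := H.val3 hu hχ h3
  obtain ⟨hψ, ψ1, ψu⟩ := H.psi_irr hu hχ h3
  set ψ := psi χ with hψd
  have rψ : ∀ g, conj (ψ g) = ψ g := fun g => by simp [hψd, psi_apply, r]
  have eA : altSq ψ = χ * ψ - ψ := funext fun g => by
    simp only [altSq, hψd, psi_apply, H.sq_val hu hχ h3, Pi.sub_apply, Pi.mul_apply]; ring
  have i1 : ⟪χ * ψ, χ⟫ = 1 := by
    have : ⟪χ * ψ, χ⟫ = ⟪ψ, ψ + χ + 𝟙⟫ := inn_congr fun g => by simp [hψd, psi_apply, r]; ring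
    rw [this, classInner_add_right, classInner_add_right, hψ.inner_self,
      orth hψ hχ ψ1 h3 (by norm_num), orth1 hψ ψ1 (by norm_num)]
    norm_num
  have i2 : ⟪χ * ψ - ψ, χ⟫ = 1 := by
    rw [classInner_sub_left, i1, orth hψ hχ ψ1 h3 (by norm_num), sub_zero]
  have hH := (eA ▸ isCharacter_altSq hψ.isCharacter).sub_irr hχ (by rw [i2]; norm_num)
  have i3 : ⟪χ * ψ - ψ - χ, 𝟙⟫ = 0 := by
    have : ⟪χ * ψ, 𝟙⟫ = ⟪χ, ψ⟫ := inn_congr fun g => by simp [rψ]
    rw [classInner_sub_left, classInner_sub_left, this, orth hχ hψ h3 ψ1 (by norm_num),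
      orth1 hψ ψ1 (by norm_num), orth1 hχ h3 (by norm_num)]
    norm_num
  obtain ⟨φ, γ, a, b, hφ, hγ, e, ha, hb, ha3, hab, -⟩ := H.dec2 hu hH i3
    (by simp only [Pi.sub_apply, Pi.mul_apply, h3, hv, ψ1, ψu]; norm_num)
    (by simp only [Pi.sub_apply, Pi.mul_apply, h3, ψ1]; norm_num)
  have e1 := congrFun e 1
  simp only [Pi.sub_apply, Pi.mul_apply, Pi.add_apply, h3, ψ1, ha, hb] at e1
  have e2 : a + b = 7 := by
    have : ((a + b : ℕ) : ℂ) = (7 : ℕ) := by push_cast; linear_combination -e1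
    exact_mod_cast this
  obtain rfl : a = 3 := by omega
  obtain rfl : b = 4 := by omega
  replace ha : φ 1 = 3 := by simpa using ha
  replace hb : γ 1 = 4 := by simpa using hb
  have r' := H.real3 hu hφ ha
  have hne : φ ≠ χ := by
    rintro rfl
    have : ⟪φ * ψ - ψ - φ, φ⟫ = 0 := by rw [classInner_sub_left, i2, hφ.inner_self, sub_self]
    rw [e, classInner_add_left, hφ.inner_self, orth hγ hφ hb ha (by norm_num)] at this
    norm_num at this
  have i4 : ⟪χ * φ, ψ⟫ ≠ 0 := by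
    have : ⟪χ * φ, ψ⟫ = ⟪φ, (χ * ψ - ψ - χ) + χ + ψ⟫ := inn_congr fun g => by simp [r]; ring
    rw [this, e, classInner_add_right, classInner_add_right, classInner_add_right, hφ.inner_self,
      orth hφ hγ ha hb (by norm_num), orth hφ hψ ha ψ1 (by norm_num), hφ.inner_eq_zero hχ hne]
    norm_num
  have hδ := (hχ.isCharacter.mul hφ.isCharacter).sub_irr hψ i4
  have δ1 : (χ * φ - ψ) 1 = 4 := by simp only [Pi.sub_apply, Pi.mul_apply, h3, ha, ψ1]; norm_num
  have hδi := H.dec1 hu hδ (by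
    rw [classInner_sub_left, (H.norm_two hu hχ h3 hφ ha (by rwa [funext r])).1,
      orth1 hψ ψ1 (by norm_num), sub_zero])
    (by simp only [Pi.sub_apply, Pi.mul_apply, h3, ha, ψ1, hv, ψu, H.val3 hu hφ ha]; norm_num)
  have i5 : γ = χ * φ - ψ := by
    refine hγ.eq_of_inner_ne_zero hδi fun h0 => ?_
    have k1 : ⟪φ + γ, (χ * φ - ψ) + ψ⟫ = ⟪symSq ψ + (φ + γ) - 𝟙, φ⟫ := by
      rw [← e]
      refine inn_congr fun g => ?_
      simp only [symSq, hψd, psi_apply, H.sq_val hu hχ h3, Pi.sub_apply, Pi.mul_apply, Pi.add_apply,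
        sub_add_cancel, map_mul, r, r']
      ring
    simp only [classInner_add_left, classInner_add_right, classInner_sub_left, h0, hφ.inner_self,
      orth hφ hδi ha δ1 (by norm_num), orth hφ hψ ha ψ1 (by norm_num),
      orth hγ hψ hb ψ1 (by norm_num), orth hγ hφ hb ha (by norm_num),
      orth isIrrCharacter_one hφ rfl ha (by norm_num), add_zero, sub_zero] at k1
    exact nat_add_one_ne (isCharacter_symSq hψ.isCharacter) hφ.isCharacter k1.symm
  refine ⟨φ, hφ, ha, hne, fun g => ?_⟩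
  have := congrFun e g
  simp only [i5, hψd, psi_apply, Pi.sub_apply, Pi.mul_apply, Pi.add_apply] at this
  linear_combination -this

theorem pow_ker (g : G) : χ (g ^ 2) = 3 ∨ χ (g ^ 3) = 3 ∨ χ (g ^ 5) = 3 := by
  obtain ⟨φ, hφ, h3', hne, h⟩ := H.exists_other hu hχ h3
  have e := congrFun (H.psi_eq hu hχ h3 hφ h3' hne) g
  have p2 := H.sq_val hu hχ h3 g
  have rc := (rec3 H.perfect hχ.isCharacter h3 g).2
  have p3 := rc 0
  have p4 := rc 1
  have p5 := rc 2
  simp only [H.real3 hu hχ h3, zero_add, pow_zero, pow_one, h3, Nat.reduceAdd] at p3 p4 p5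
  rw [← pow_two] at p2
  rw [psi_apply, psi_apply] at e
  by_cases h1 : χ g + 1 = 0
  · left
    rw [p2, eq_neg_of_add_eq_zero_left h1]; norm_num
  have e2 : φ g = χ g * (χ g - 2) := mul_left_cancel₀ h1 (by rw [h]; ring)
  rw [e2] at e
  have e3 : χ g * (χ g - 3) * (χ g ^ 2 - χ g - 1) = 0 := by linear_combination -e
  rcases mul_eq_zero.1 e3 with e4 | e4
  · rcases mul_eq_zero.1 e4 with e5 | e5
    · right; left
      rw [p3, e5]; ring
    · left
      rw [p2, sub_eq_zero.1 e5]; norm_num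
  · right; right
    rw [p5, p4, p3, p2]
    linear_combination (χ g ^ 3 - 4 * χ g ^ 2 + 2 * χ g + 3) * e4

end

include H

theorem simple [IsSimpleGroup G] : Data u := by
  classical
  have faith : ∀ {φ : G → ℂ}, IsIrrCharacter G φ → φ 1 = 3 → ∀ g, φ g = 3 → g = 1 :=
    fun {φ} hφ h3 g hg => by
      rcases (charKer_normal hφ.isClassFunction).eq_bot_or_eq_top with h | h
      · exact (charKer_eq_bot_iff hφ.isCharacter).1 h g (hg.trans h3.symm)
      · rw [eq_one_of_charKer_eq_top hφ h] at h3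
        norm_num at h3
  obtain ⟨χ, hχ, h3, hv⟩ := H.exists_three
  have hu : u * u = 1 := faith hχ h3 _ (by
    rw [(rec3 H.perfect hχ.isCharacter h3 u).1, hv]; simp; norm_num)
  have inv : ∀ {φ : G → ℂ}, IsIrrCharacter G φ → φ 1 = 3 → ∀ v, v ≠ 1 → v * v = 1 → φ v = -1 :=
    fun {φ} hφ h3 v h1 hv => by
      have := H.sq_val hu hφ h3 v
      rw [hv, h3] at this
      have e : (φ v - 3) * (φ v + 1) = 0 := by linear_combination -this
      exact eq_neg_of_add_eq_zero_left ((mul_eq_zero.1 e).resolve_left fun h =>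
        h1 (faith hφ h3 v (sub_eq_zero.1 h)))
  have pw : ∀ g : G, g ^ 2 = 1 ∨ g ^ 3 = 1 ∨ g ^ 5 = 1 := fun g =>
    (H.pow_ker hu hχ h3 g).imp (faith hχ h3 _) fun h => h.imp (faith hχ h3 _) (faith hχ h3 _)
  set C := centralizer ({u} : Set G) with hC
  have hsq : ∀ c : C, (c : G) * c = 1 := fun c =>
    sq_of_comm H.ne hu pw (mem_centralizer_singleton_iff.1 c.2).symm
  have hle : Nat.card C ≤ 4 := by
    obtain ⟨k, hk⟩ := (hχ.isCharacter.restrict C).exists_nat_inner isCharacter_one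
    have e := sum_mul_conj_eq (fun x : C => χ x) fun _ => 1
    rw [hk, ← Finset.add_sum_erase _ _ (Finset.mem_univ 1), Finset.sum_congr rfl fun c hc => by
      rw [inv hχ h3 c (fun e => Finset.ne_of_mem_erase hc (Subtype.ext e)) (hsq c)]] at e
    simp only [OneMemClass.coe_one, h3, map_one, mul_one, Finset.sum_const,
      Finset.card_erase_of_mem (Finset.mem_univ _), Finset.card_univ, ← Nat.card_eq_fintype_card,
      nsmul_eq_mul] at e
    rw [Nat.cast_sub Nat.card_pos] at e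
    have : ((Nat.card C * (k + 1) : ℕ) : ℂ) = (4 : ℕ) := by push_cast at e ⊢; linear_combination -e
    have : Nat.card C * (k + 1) = 4 := by exact_mod_cast this
    exact this ▸ Nat.le_mul_of_pos_right _ k.succ_pos
  obtain ⟨φ, hφ, h3', hne, -⟩ := H.exists_other hu hχ h3
  obtain ⟨hψ, ψ1, -⟩ := H.psi_irr hu hχ h3
  set T : Finset (IrrCharacter G) := {irrOne G, ⟨χ, hχ⟩, ⟨φ, hφ⟩, ⟨psi χ, hψ⟩} with hT
  have nd : ∀ {a b : IrrCharacter G} {m n : ℂ}, a.1 1 = m → b.1 1 = n → m ≠ n → a ≠ b :=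
    fun h1 h2 h e => h (by rw [← h1, ← h2, e])
  have sT : ∀ {M : Type} [AddCommMonoid M] (F : IrrCharacter G → M), ∑ μ ∈ T, F μ =
      F (irrOne G) + (F ⟨χ, hχ⟩ + (F ⟨φ, hφ⟩ + F ⟨psi χ, hψ⟩)) := fun F => by
    rw [hT, Finset.sum_insert, Finset.sum_insert, Finset.sum_pair (nd h3' ψ1 (by norm_num))]
    · simp only [Finset.mem_insert, Finset.mem_singleton, not_or]
      exact ⟨fun e => hne (congrArg Subtype.val e).symm, nd h3 ψ1 (by norm_num)⟩
    · simp only [Finset.mem_insert, Finset.mem_singleton, not_or]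
      exact ⟨nd rfl h3 (by simp [irrOne_apply]), nd rfl h3' (by simp [irrOne_apply]),
        nd rfl ψ1 (by simp [irrOne_apply])⟩
  have e1 := sum_irr_norm_sq u
  rw [← Finset.sum_add_sum_compl T, sT] at e1
  simp only [irrOne_apply, psi_apply, hv, inv hφ h3' u H.ne hu, ← hC] at e1
  norm_num at e1
  have hnn : ∀ μ ∈ Tᶜ, 0 ≤ ‖(μ : G → ℂ) u‖ ^ 2 := fun μ _ => by positivity
  have e2 := Finset.sum_nonneg hnn
  have e3 : (Nat.card C : ℝ) ≤ 4 := by exact_mod_cast hle
  rw [← Nat.card_eq_fintype_card] at e1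
  have hc : Nat.card C = 4 := by
    have : (Nat.card C : ℝ) = (4 : ℕ) := by push_cast; linarith
    exact_mod_cast this
  have e4 := (Finset.sum_eq_zero_iff_of_nonneg hnn).1 (by linarith)
  have ho : orderOf u = 2 := orderOf_eq_prime (by rw [pow_two, hu]) H.ne
  refine ⟨hu, hc, pw, fun v h1 hv2 => ?_, S3278.result u ho C le_rfl ⟨hc, ?_⟩ (by simp [← hC]) ?_⟩
  · by_contra h
    have := sum_irr_mul_conj_of_not_isConj h
    rw [← Finset.sum_add_sum_compl T, sT, Finset.sum_eq_zero (s := Tᶜ) fun μ hμ => by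
      rw [norm_eq_zero.1 (pow_eq_zero_iff two_ne_zero |>.1 (e4 μ hμ))]; simp] at this
    simp only [irrOne_apply, psi_apply, hv, inv hφ h3' u H.ne hu, inv hχ h3 v h1 hv2,
      inv hφ h3' v h1 hv2] at this
    norm_num at this
  · haveI : Nontrivial C := Finite.one_lt_card_iff_nontrivial.1 (by omega)
    refine (Monoid.exponent_eq_prime_iff Nat.prime_two).2 fun c hc1 => ?_
    exact orderOf_eq_prime (Subtype.ext (by simpa [pow_two] using hsq c)) hc1
  · rw [subgroupOf_self]; infer_instance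

end Hyp

theorem exists_simple_quot [Nontrivial G] :
    ∃ (N : Subgroup G) (_ : N.Normal), IsSimpleGroup (G ⧸ N) := by
  obtain ⟨N, ⟨hN, hne⟩, hmax⟩ := Set.Finite.exists_maximal
    (s := {N : Subgroup G | N.Normal ∧ N ≠ ⊤}) (Set.toFinite _) ⟨⊥, inferInstance, bot_ne_top⟩
  have : Nontrivial (G ⧸ N) := QuotientGroup.nontrivial_iff.2 hne
  refine ⟨N, hN, ⟨fun K hK => ?_⟩⟩
  have hle : N ≤ K.comap (QuotientGroup.mk' N) := fun x hx => by
    rw [mem_comap, QuotientGroup.mk'_apply, (QuotientGroup.eq_one_iff x).2 hx]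
    exact K.one_mem
  have hs := QuotientGroup.mk'_surjective N
  by_cases h : K.comap (QuotientGroup.mk' N) = ⊤
  · right
    rw [← map_comap_eq_self_of_surjective hs K, h, map_top_of_surjective _ hs]
  · left
    rw [← map_comap_eq_self_of_surjective hs K, eq_bot_iff]
    rintro _ ⟨x, hx, rfl⟩
    exact (QuotientGroup.eq_one_iff x).2 (hmax ⟨hK.comap _, h⟩ hle hx)

theorem Data.exists_other {u : G} (D : Data u) : ∃ v, Commute u v ∧ v ≠ 1 ∧ v ≠ u := by
  classical
  by_contra h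
  push Not at h
  have : Nat.card (centralizer ({u} : Set G)) ≤ ({1, u} : Finset G).card := by
    rw [← Set.ncard_coe_finset, ← Nat.card_coe_set_eq]
    refine Nat.card_mono (Set.toFinite _) fun v hv => ?_
    by_cases e : v = 1
    · simp [e]
    · simp [h v (mem_centralizer_singleton_iff.1 hv).symm e]
  have h2 := Finset.card_le_two (a := (1 : G)) (b := u)
  rw [D.card] at this
  omega

theorem Hyp.invol {u : G} (H : Hyp u) (hu : u * u = 1) : Data u := by
  classical
  haveI : Nontrivial G := nontrivial_of_ne _ _ H.ne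
  obtain ⟨M, hM, hS⟩ := exists_simple_quot (G := G)
  haveI : Fintype (G ⧸ M) := Fintype.ofFinite _
  set f := QuotientGroup.mk' M with hf
  have hs : Function.Surjective f := QuotientGroup.mk'_surjective M
  have h1 : f u ≠ 1 := fun e =>
    QuotientGroup.nontrivial_iff.1 inferInstance (H.eq_top ((QuotientGroup.eq_one_iff u).1 e))
  have D := (H.map f hs h1).simple
  obtain ⟨χ, hχ, h3, -⟩ := (H.map f hs h1).exists_three
  obtain ⟨hc, hj⟩ := H.count f hs h1 fun μ hμ μ3 _ n hn => by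
    rw [μ3]
    exact H.ker_eq hu (hχ.comp_surjective f hs) (by simpa using h3) hμ μ3
      (by rw [MonoidHom.mem_ker.1 hn, h3])
  have sq : ∀ g, f g ≠ 1 → Commute (f u) (f g) → g * g = 1 := fun g hg hc => by
    obtain ⟨x, rfl⟩ := isConj_iff.1 (hj g (D.cj _ hg (sq_of_comm h1 D.sq D.pw hc))).symm
    rw [conj_mul, hu, mul_one, mul_inv_cancel]
  have iv : ∀ g, f g ≠ 1 → Commute (f u) (f g) → ∀ m, f m = 1 → g * m * g⁻¹ = m⁻¹ :=
    fun g hg hc m hm => by
      have a := sq g hg hc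
      have b := sq (g * m) (by rwa [map_mul, hm, mul_one]) (by rwa [map_mul, hm, mul_one])
      rw [inv_eq_of_mul_eq_one_right a]
      exact eq_inv_of_mul_eq_one_left (by rw [← b]; group)
  obtain ⟨q, hq, hq1, hqu⟩ := D.exists_other
  obtain ⟨v, rfl⟩ := hs q
  have huv : f (u * v) ≠ 1 := fun e => hqu (by
    rw [map_mul] at e
    rw [eq_inv_of_mul_eq_one_right e, inv_eq_of_mul_eq_one_right D.sq])
  have cm : ∀ m, f m = 1 → m * u = u * m := fun m hm => by
    have b := iv v hq1 hq m hm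
    have c := iv (u * v) huv (by rw [map_mul]; exact (Commute.refl _).mul_right hq) m hm
    have d : u * m⁻¹ * u⁻¹ = m⁻¹ := by
      conv_lhs => rw [← b]
      rw [← c]; group
    have e : u * m * u⁻¹ = m := by rw [← inv_inj, ← d]; group
    exact (mul_inv_eq_iff_eq_mul.1 e).symm
  have cm2 : ∀ g, Commute (f u) (f g) → g * u = u * g := fun g hg => by
    by_cases a : f g = 1
    · exact cm g a
    by_cases b : f (u * g) = 1
    · exact mul_left_cancel (a := u) (by rw [← mul_assoc, cm _ b])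
    have c := sq _ b (by rw [map_mul]; exact (Commute.refl _).mul_right hg)
    have d := sq g a hg
    rw [← inv_eq_of_mul_eq_one_right c, mul_inv_rev, inv_eq_of_mul_eq_one_right d,
      inv_eq_of_mul_eq_one_right hu]
  let F : centralizer ({u} : Set G) → centralizer ({f u} : Set (G ⧸ M)) := fun c =>
    ⟨f c, mem_centralizer_singleton_iff.2 (by
      rw [← map_mul, mem_centralizer_singleton_iff.1 c.2, map_mul])⟩
  have hF : Function.Bijective F := (Nat.bijective_iff_surjective_and_card F).2 ⟨fun c => by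
    obtain ⟨g, hg⟩ := hs c
    exact ⟨⟨g, mem_centralizer_singleton_iff.2 (cm2 g (by
      rw [hg]; exact (mem_centralizer_singleton_iff.1 c.2).symm))⟩, Subtype.ext hg⟩, hc⟩
  have hi : Function.Injective f := (injective_iff_map_eq_one f).2 fun m hm =>
    congrArg Subtype.val (hF.1 (a₁ := ⟨m, mem_centralizer_singleton_iff.2 (cm m hm)⟩) (a₂ := 1)
      (Subtype.ext (by simp [F, hm])))
  obtain ⟨e⟩ := D.iso
  refine ⟨hu, hc.trans D.card, fun g => ?_, fun g h1 hg => hj g (D.cj _ (fun e => h1 (hi (by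
    rw [e, map_one]))) (by rw [← map_mul, hg, map_one])), ⟨(MulEquiv.ofBijective f ⟨hi, hs⟩).trans e⟩⟩
  simpa only [← map_pow, map_eq_one_iff f hi] using D.pw (f g)

end Cfsg.Agent.Char.Four
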