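import Mathlib
import Cfsg.Agent.Char.SelfCentTwo
import Cfsg.Agent.Char.PrimeB0Ex
import Cfsg.Agent.Char.B0Tools
import Cfsg.Agent.Char.BrauerReynolds
import Cfsg.Agent.Char.BrauerReynoldsEnd
import Cfsg.Agent.Char.ClassPair

/-!
A self-centralizing element `x` of prime order `p` with dihedral normalizer of order `2p` in a
perfect group: the whole principal block and the involution count.
-/

set_option autoImplicit false
set_option linter.style.haveILetI false
set_option linter.unusedSectionVars false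

namespace Cfsg.Agent.Char.SelfC

open Subgroup Cfsg.Agent.Small Cfsg.Agent.Grp Cfsg.Agent.Grp.SelfCent Cfsg.Agent.Char
open Cfsg.Agent.Block (cast_charDegree)
open scoped ComplexConjugate

variable {G : Type*} [Group G] [Fintype G] {p : ℕ} [hp : Fact p.Prime] {x : G}

local notation "𝐏" => zpowers x
local notation "𝐍" => normalizer ((zpowers x : Subgroup G) : Set G)

/-- The principal block data. -/
structure Two (p : ℕ) (x : G) (χ θ : G → ℂ) (ε : ℤ) (w : ℂ) (Y : Finset (IrrCharacter G)) :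
    Prop where
  hx : orderOf x = p
  hC : centralizer ({x} : Set G) = zpowers x
  he : (zpowers x).relIndex (normalizer ((zpowers x : Subgroup G) : Set G)) = 2
  hp5 : 5 ≤ p
  prim : IsPrimitiveRoot w p
  irrχ : IsIrrCharacter G χ
  irrθ : IsIrrCharacter G θ
  neχ : χ ≠ fun _ => 1
  neθ : θ ≠ fun _ => 1
  int : ∀ g, ∃ n : ℤ, χ g = n
  sign : ε = 1 ∨ ε = -1
  val : ∀ j ∈ Finset.Ico 1 p, χ (x ^ j) = ε ∧ θ (x ^ j) = ε * tw w j
  reg : ∀ g, ¬ p ∣ orderOf g → θ g = χ g + ε
  cardY : Y.card * 2 = p - 1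
  regY : ∀ ψ ∈ Y, (ψ : G → ℂ) ≠ (fun _ => 1) ∧ ∀ g, ¬ p ∣ orderOf g → (ψ : G → ℂ) g = χ g + ε
  out : ∀ ψ : IrrCharacter G, (ψ : G → ℂ) ≠ (fun _ => 1) → (ψ : G → ℂ) ≠ χ → ψ ∉ Y →
    p ∣ charDegree (ψ : G → ℂ)

theorem exists_two (hG : _root_.commutator G = ⊤) (hx : orderOf x = p)
    (hC : centralizer ({x} : Set G) = 𝐏) (he : (𝐏).relIndex 𝐍 = 2) (hp5 : 5 ≤ p) :
    ∃ χ θ ε w Y, Two p x χ θ ε w Y := by
  classical
  have hw := Complex.isPrimitiveRoot_exp p (by omega)
  set w := Complex.exp (2 * Real.pi * Complex.I / p)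
  obtain ⟨χ, θ, hχ, hθ, hχ1, hθ1, hint, ε, hε, hv, hr⟩ := exists_pair hx hC he hp5 hw
  obtain ⟨P, hP⟩ := exists_sylow hx hC
  obtain ⟨D⟩ := exists_b0Data (by omega) P hP hx
  have he2 : D.e = 2 := by rw [← D.he, hC, he]
  have hY := D.cardY
  rw [he2] at hY
  have h1X := D.irrOne_mem_X hG (by omega)
  have h1m : 1 ∈ Finset.Ico 1 p := by simp; omega
  have hxp : p ∣ orderOf x := by rw [hx]
  have hε0 : (ε : ℂ) ≠ 0 := by rcases hε with rfl | rfl <;> simp
  have hε2 : (ε : ℂ) * ε = 1 := by rcases hε with rfl | rfl <;> simp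
  have s1 := sum_tw_one hw (by omega)
  let χ' : IrrCharacter G := ⟨χ, hχ⟩
  let θ' : IrrCharacter G := ⟨θ, hθ⟩
  have hθX : θ' ∉ D.X := fun h => by
    have h2 : ∑ j ∈ Finset.Ico 1 p, tw w j = (p - 1) * (ε * D.ε θ') := by
      rw [← sum_const_Ico hp.out.one_le]
      refine Finset.sum_congr rfl fun j hj => ?_
      have h3 := D.valX' h (npow_mem_zpowers x j) (pow_ne_one_of_mem hx hj)
      have h4 : θ (x ^ j) = D.ε θ' := h3
      rw [← h4, (hv j hj).2, ← mul_assoc, hε2, one_mul]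
    rw [s1] at h2
    have h9 : (-2 : ℤ) = (p - 1) * (ε * D.ε θ') := by exact_mod_cast h2
    have h10 : (5 : ℤ) ≤ p := by exact_mod_cast hp5
    rcases hε with rfl | rfl <;> rcases D.sign _ h with h5 | h5 <;> rw [h5] at h9 <;> omega
  have hθY : θ' ∈ D.Y := by
    by_contra h
    have h2 : ∑ j ∈ Finset.Ico 1 p, tw w j = 0 := Finset.sum_eq_zero fun j hj => by
      have h3 : θ (x ^ j) = 0 := D.out hC θ' hθX h (x ^ j) (by
        rw [orderOf_of_mem_zp hx (npow_mem_zpowers x j) (pow_ne_one_of_mem hx hj)])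
      rw [(hv j hj).2] at h3
      exact (mul_eq_zero.1 h3).resolve_left hε0
    rw [s1] at h2
    norm_num at h2
  have h1p : ¬ p ∣ orderOf (1 : G) := not_dvd_orderOf_one
  have hχY : χ' ∉ D.Y := fun h => by
    have h2 : χ 1 = θ 1 := D.agree _ h _ hθY 1 h1p
    rw [hr 1 h1p] at h2
    exact hε0 (by linear_combination -h2)
  have hχX : χ' ∈ D.X := by
    by_contra h
    have h3 : χ x = 0 := D.out hC χ' h hχY x hxp
    have h4 := (hv 1 h1m).1
    rw [pow_one, h3] at h4
    exact hε0 h4.symm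
  have hne : χ' ≠ irrOne G := fun h => hχ1 (congrArg Subtype.val h)
  have hX : D.X = {irrOne G, χ'} := by
    symm
    apply Finset.eq_of_subset_of_card_le
    · intro a ha
      rcases Finset.mem_insert.1 ha with rfl | ha
      · exact h1X
      · rw [Finset.mem_singleton.1 ha]; exact hχX
    · rw [D.cardX, he2, Finset.card_pair hne.symm]
  refine ⟨χ, θ, ε, w, D.Y, hx, hC, he, hp5, hw, hχ, hθ, hχ1, hθ1, hint, hε, hv, hr, hY,
    fun ψ hψ => ⟨fun h => ?_, fun g hg => ?_⟩, fun ψ h1 h2 h3 => ?_⟩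
  · exact Finset.disjoint_left.1 D.disj h1X ((Subtype.ext h : ψ = irrOne G) ▸ hψ)
  · rw [D.agree _ hψ _ hθY g hg]; exact hr g hg
  · refine D.dvd_of_not_mem hx hC ?_ h3
    rw [hX]
    simp only [Finset.mem_insert, Finset.mem_singleton, not_or]
    exact ⟨fun h => h1 (congrArg Subtype.val h), fun h => h2 (congrArg Subtype.val h)⟩

omit [Fintype G] in
theorem ord_of_isConj {a b : G} (h : IsConj a b) : orderOf a = orderOf b := by
  obtain ⟨c, hc⟩ := h
  exact SemiconjBy.orderOf_eq _ hc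

theorem card_class_inter (hx : orderOf x = p) (hC : centralizer ({x} : Set G) = 𝐏)
    (he : (𝐏).relIndex 𝐍 = 2) (hp2 : p ≠ 2) {u : G} (hu : orderOf u = 2) (huN : u ∈ 𝐍)
    [DecidablePred fun a => IsConj u a ∧ a ∈ 𝐍] :
    (Finset.univ.filter fun a => IsConj u a ∧ a ∈ 𝐍).card = p := by
  classical
  have huP := not_mem_zp_of_two hx hp2 hu
  rw [← card_zp hx, Nat.card_eq_fintype_card, Fintype.card_subtype]
  symm
  refine Finset.card_bij (fun z _ => z * u) (fun z hz => ?_) (fun a _ b _ h => by simpa using h)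
    fun a ha => ?_
  · have hz := (Finset.mem_filter.1 hz).2
    obtain ⟨v, -, hv⟩ := exists_conj_eq_mul hx hC huN huP hz
    exact Finset.mem_filter.2 ⟨Finset.mem_univ _, isConj_iff.2 ⟨v, hv⟩,
      mul_mem (le_normalizer hz) huN⟩
  · obtain ⟨h1, h2⟩ := (Finset.mem_filter.1 ha).2
    have haP := not_mem_zp_of_two hx hp2 (u := a) (by rw [← hu]; exact (ord_of_isConj h1).symm)
    refine ⟨a * u⁻¹, Finset.mem_filter.2 ⟨Finset.mem_univ _, ?_⟩, by simp⟩
    have h3 := (mul_mem_iff_of_index_two (H := (𝐏).subgroupOf 𝐍) he (a := ⟨a, h2⟩)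
      (b := ⟨u⁻¹, inv_mem huN⟩)).2 (by
        simp only [mem_subgroupOf, inv_mem_iff]
        exact iff_of_false haP huP)
    exact h3

theorem sum_pairs_sing (hx : orderOf x = p) (hC : centralizer ({x} : Set G) = 𝐏)
    (he : (𝐏).relIndex 𝐍 = 2) (hp2 : p ≠ 2) {β : G → ℂ} (hβ : IsClassFunction G β)
    (h0 : ∀ g, ¬ p ∣ orderOf g → β g = 0) {u : G} (hu : orderOf u = 2)
    [DecidablePred (IsConj u)] [DecidablePred fun a => IsConj u a ∧ a ∈ 𝐍] :
    2 * p * ∑ b ∈ Finset.univ.filter (IsConj u), ∑ a ∈ Finset.univ.filter (IsConj u),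
      β (a * b⁻¹) = Nat.card G * (Finset.univ.filter fun a => IsConj u a ∧ a ∈ 𝐍).card *
        ∑ j ∈ Finset.Ico 1 p, β (x ^ j) := by
  classical
  let n : G → ℂ := fun g => ((Finset.univ.filter fun a => IsConj u a ∧ IsConj u (g⁻¹ * a)).card : ℂ)
  have hn : IsClassFunction G n := by
    intro g h
    simp only [n]
    congr 1
    symm
    refine Finset.card_bij (fun a _ => h * a * h⁻¹) (fun a ha => ?_)
      (fun a _ b _ e => by simpa using e) fun a ha => ⟨h⁻¹ * a * h, ?_, by group⟩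
    · obtain ⟨h1, h2⟩ := (Finset.mem_filter.1 ha).2
      refine Finset.mem_filter.2 ⟨Finset.mem_univ _, h1.trans (isConj_iff.2 ⟨h, rfl⟩),
        h2.trans (isConj_iff.2 ⟨h, by group⟩)⟩
    · obtain ⟨h1, h2⟩ := (Finset.mem_filter.1 ha).2
      refine Finset.mem_filter.2 ⟨Finset.mem_univ _, h1.trans (isConj_iff.2 ⟨h⁻¹, by group⟩),
        h2.trans (isConj_iff.2 ⟨h⁻¹, by group⟩)⟩
  have h1 : ∑ b ∈ Finset.univ.filter (IsConj u), ∑ a ∈ Finset.univ.filter (IsConj u),
      β (a * b⁻¹) = ∑ g, β g * n g := by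
    rw [Finset.sum_comm]
    simp only [n, Finset.card_filter, Nat.cast_sum, Finset.mul_sum]
    rw [Finset.sum_comm (s := Finset.univ) (t := Finset.univ), Finset.sum_filter]
    refine Finset.sum_congr rfl fun a _ => ?_
    by_cases ha : IsConj u a
    · rw [if_pos ha, Finset.sum_filter]
      refine Fintype.sum_equiv ((Equiv.inv G).trans (Equiv.mulLeft a)) _ _ fun b => ?_
      have e : ((Equiv.inv G).trans (Equiv.mulLeft a)) b = a * b⁻¹ := rfl
      rw [e, show (a * b⁻¹)⁻¹ * a = b by group]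
      by_cases hb : IsConj u b
      · rw [if_pos hb, if_pos ⟨ha, hb⟩]; simp
      · rw [if_neg hb, if_neg fun h => hb h.2]; simp
    · rw [if_neg ha]
      exact (Finset.sum_eq_zero fun g _ => by rw [if_neg fun h => ha h.1]; simp).symm
  have h2 := sum_sing hx hC (hβ.mul hn)
  rw [he] at h2
  rw [h1, ← Finset.sum_filter_add_sum_filter_not _ (fun g : G => p ∣ orderOf g),
    Finset.sum_eq_zero (s := Finset.univ.filter fun g : G => ¬ p ∣ orderOf g) (fun g hg => by
      rw [h0 g (Finset.mem_filter.1 hg).2, zero_mul]), add_zero, mul_assoc (Nat.card G : ℂ),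
    Finset.mul_sum (s := Finset.Ico 1 p)]
  simp only [Pi.mul_apply] at h2
  rw [show (2 * p : ℂ) = p * (2 : ℕ) by push_cast; ring, h2]
  congr 1
  refine Finset.sum_congr rfl fun j hj => ?_
  rw [mul_comm]
  congr 1
  simp only [n]
  congr 2
  refine Finset.filter_congr fun a _ => and_congr_right fun ha => ?_
  have hz := npow_mem_zpowers x j
  have hz1 := pow_ne_one_of_mem hx hj
  have ha2 : orderOf a = 2 := by rw [← hu]; exact (ord_of_isConj ha).symm
  have haa : a * a = 1 := by rw [← sq, ← ha2, pow_orderOf_eq_one]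
  constructor
  · intro h
    have h3 : orderOf ((x ^ j)⁻¹ * a) = 2 := by rw [← hu]; exact (ord_of_isConj h).symm
    have h4 : ((x ^ j)⁻¹ * a) * ((x ^ j)⁻¹ * a) = 1 := by rw [← sq, ← h3, pow_orderOf_eq_one]
    refine mem_normalizer_of_conj hx (inv_mem hz) (by simpa using hz1) ?_
    have h5 : a * (x ^ j)⁻¹ * a⁻¹ = x ^ j := by
      rw [inv_eq_of_mul_eq_one_right haa]
      calc a * (x ^ j)⁻¹ * a = x ^ j * ((x ^ j)⁻¹ * a * ((x ^ j)⁻¹ * a)) := by group
        _ = x ^ j := by rw [h4, mul_one]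
    rw [h5]; exact hz
  · intro h
    obtain ⟨v, -, hv⟩ := exists_conj_eq_mul hx hC h (not_mem_zp_of_two hx hp2 ha2) (inv_mem hz)
    exact ha.trans (isConj_iff.2 ⟨v, hv⟩)

namespace Two

variable {χ θ : G → ℂ} {ε : ℤ} {w : ℂ} {Y : Finset (IrrCharacter G)} (T : Two p x χ θ ε w Y)
include T

theorem count {u : G} (hu : orderOf u = 2) [DecidablePred fun a => IsConj u a ∧ a ∈ 𝐍] :
    χ 1 * (χ 1 + ε) * (Finset.univ.filter fun a => IsConj u a ∧ a ∈ 𝐍).card *
      (Nat.card (centralizer ({u} : Set G)) : ℂ) ^ 2 = Nat.card G * (χ 1 - χ u) ^ 2 := by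
  classical
  have hp5 := T.hp5
  have hε2 : (ε : ℂ) * ε = 1 := by rcases T.sign with rfl | rfl <;> simp
  have hup : ¬ p ∣ orderOf u := hu ▸ not_dvd_of_lt two_pos (by omega)
  have h1p : ¬ p ∣ orderOf (1 : G) := not_dvd_orderOf_one
  let β : G → ℂ := (fun _ => 1) + (ε : ℂ) • (χ - θ)
  have hβ : IsClassFunction G β := (isClassFunction_const 1).add
    ((T.irrχ.isClassFunction.sub T.irrθ.isClassFunction).smul _)
  have h1 := sum_pairs_sing T.hx T.hC T.he (by omega) hβ (fun g hg => by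
    simp only [β, Pi.add_apply, Pi.smul_apply, Pi.sub_apply, T.reg g hg, smul_eq_mul]
    linear_combination -hε2) hu
  have h2 : ∑ j ∈ Finset.Ico 1 p, β (x ^ j) = 2 * p := by
    rw [Finset.sum_congr rfl (g := fun j => 2 - tw w j) fun j hj => by
      simp only [β, Pi.add_apply, Pi.smul_apply, Pi.sub_apply, (T.val j hj).1, (T.val j hj).2,
        smul_eq_mul]
      linear_combination (1 - tw w j) * hε2,
      Finset.sum_sub_distrib, sum_const_Ico hp.out.one_le, sum_tw_one T.prim (by omega)]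
    ring
  have h3 := T.irrχ.sum_class_mul_inv u u
  have h4 := T.irrθ.sum_class_mul_inv u u
  have h5 := isIrrCharacter_one.sum_class_mul_inv (G := G) u u
  obtain ⟨c, hc⟩ := T.int u
  rw [T.reg u hup, T.reg 1 h1p, hc, map_add, map_intCast, map_intCast] at h4
  rw [hc, map_intCast] at h3
  simp only [β, Pi.add_apply, Pi.smul_apply, Pi.sub_apply, smul_eq_mul, Finset.sum_add_distrib,
    ← Finset.mul_sum, Finset.sum_sub_distrib] at h1
  simp only [map_one, mul_one, one_mul] at h5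
  simp only [β, Pi.add_apply, Pi.smul_apply, Pi.sub_apply, smul_eq_mul, Finset.sum_add_distrib,
    ← Finset.mul_sum, Finset.sum_sub_distrib] at h2
  rw [h2, h5] at h1
  have h6 : (Nat.card G : ℂ) = (centralizer ({u} : Set G)).index *
      Nat.card (centralizer ({u} : Set G)) := by rw [← Nat.cast_mul, index_mul_card]
  have hp0 : (2 * p : ℂ) ≠ 0 := mul_ne_zero two_ne_zero (Nat.cast_ne_zero.2 hp.out.ne_zero)
  have hG0 : (Nat.card G : ℂ) ≠ 0 := Nat.cast_ne_zero.2 Nat.card_pos.ne'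
  rw [mul_comm _ (2 * p : ℂ)] at h1
  have h7 := mul_left_cancel₀ hp0 h1
  apply mul_left_cancel₀ hG0
  rw [hc]
  set k := ((centralizer ({u} : Set G)).index : ℂ)
  set m := (Nat.card (centralizer ({u} : Set G)) : ℂ)
  set d := χ 1
  set A := ∑ b ∈ Finset.univ.filter (IsConj u), ∑ a ∈ Finset.univ.filter (IsConj u), χ (a * b⁻¹)
  set B := ∑ b ∈ Finset.univ.filter (IsConj u), ∑ a ∈ Finset.univ.filter (IsConj u), θ (a * b⁻¹)
  set n := ((Finset.univ.filter fun a => IsConj u a ∧ a ∈ 𝐍).card : ℂ)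
  have h8 : d * (d + ε) * (Nat.card G * n) = k * k * (d - c) ^ 2 := by
    rw [← h7]
    linear_combination (ε * (d + ε)) * h3 - (ε * d) * h4 +
      k * k * (c ^ 2 - 2 * d * c - d * ε) * hε2
  rw [h6] at h8 ⊢
  linear_combination m ^ 2 * h8

theorem exists_conj_mem (hf : ∀ g, χ g = χ 1 → g = 1) {u : G} (hu : orderOf u = 2) :
    ∃ a ∈ 𝐍, IsConj u a := by
  classical
  by_contra h
  push Not at h
  have h1 := T.count hu
  rw [Finset.filter_eq_empty_iff.2 fun a _ ha => h a ha.2 ha.1] at h1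
  have hG0 : (Nat.card G : ℂ) ≠ 0 := Nat.cast_ne_zero.2 Nat.card_pos.ne'
  simp only [Finset.card_empty, Nat.cast_zero, mul_zero, zero_mul] at h1
  have h2 := pow_eq_zero_iff two_ne_zero |>.1 ((mul_eq_zero.1 h1.symm).resolve_left hG0)
  have h3 := hf u (by linear_combination -h2)
  simp [h3] at hu

theorem isConj_invol (hf : ∀ g, χ g = χ 1 → g = 1) {u v : G} (hu : orderOf u = 2)
    (hv : orderOf v = 2) : IsConj u v := by
  have hp5 := T.hp5
  obtain ⟨a, ha, h1⟩ := T.exists_conj_mem hf hu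
  obtain ⟨b, hb, h2⟩ := T.exists_conj_mem hf hv
  obtain ⟨z, -, hz⟩ := exists_conj_involution T.hx T.hC (by omega)
    (ord_of_isConj h1 ▸ hu) ha (ord_of_isConj h2 ▸ hv) hb
  exact (h1.trans (isConj_iff.2 ⟨z, hz⟩)).trans h2.symm

theorem formula {u : G} (hu : orderOf u = 2) (huN : u ∈ 𝐍) {d c : ℤ} (hd : χ 1 = d)
    (hc : χ u = c) : d * (d + ε) * p * (Nat.card (centralizer ({u} : Set G)) : ℤ) ^ 2 =
      Nat.card G * (d - c) ^ 2 := by
  classical
  have hp5 := T.hp5
  have h1 := T.count hu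
  rw [card_class_inter T.hx T.hC T.he (by omega) hu huN, hd, hc] at h1
  exact_mod_cast h1

theorem inner_Y {φ : G → ℂ} (hφ : IsClassFunction G φ)
    (h0 : ∀ j ∈ Finset.Ico 1 p, φ (x ^ j) = 0) {ψ : IrrCharacter G} (hψ : ψ ∈ Y) :
    classInner φ ψ = classInner φ χ + ε * classInner φ (fun _ => 1) :=
  inner_pair T.hx T.hC T.he T.irrχ.isClassFunction ψ.2.isClassFunction (T.regY ψ hψ).2 hφ h0

theorem theta (hε : ε = -1) (hd : χ 1 = p - 1) : Theta p x θ w := by
  subst hε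
  refine ⟨T.hx, T.hC, T.he, T.hp5, T.irrθ, T.prim, ?_, fun g hg => ?_, fun j hj => ?_⟩
  · rw [T.reg 1 not_dvd_orderOf_one, hd]; push_cast; ring
  · obtain ⟨k, hk⟩ := T.int g
    exact ⟨k - 1, by rw [T.reg g hg, hk]; push_cast; ring⟩
  · simpa using (T.val j hj).2

end Two

theorem isCharacter_sub_sum {φ : G → ℂ} (hφ : IsCharacter G φ) (Y : Finset (IrrCharacter G))
    (h : ∀ ψ ∈ Y, classInner φ ψ ≠ 0) : IsCharacter G (φ - ∑ ψ ∈ Y, (ψ : G → ℂ)) := by
  classical
  induction Y using Finset.induction_on with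
  | empty => simpa using hφ
  | insert a s ha ih =>
    rw [Finset.sum_insert ha, add_comm, ← sub_sub]
    refine (ih fun ψ hψ => h ψ (Finset.mem_insert_of_mem hψ)).sub_irr a.2 ?_
    rw [classInner_sub_left, classInner_sum_left, Finset.sum_eq_zero fun ψ hψ =>
      ψ.2.inner_eq_zero a.2 fun e => ha ((Subtype.ext e : ψ = a) ▸ hψ), sub_zero]
    exact h a (Finset.mem_insert_self _ _)

end Cfsg.Agent.Char.SelfC
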