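import Mathlib
import Cfsg.Agent.Char.GlaubAbove
import Cfsg.Agent.Char.Triple
import Cfsg.Agent.Char.Restrict
import Cfsg.Agent.Char.Inflate
import Cfsg.Agent.Char.CycCoset
import Cfsg.Agent.Grp.Frattini

/-!
# Fully ramified characters

`FR Z χ θ e`: `χ` restricts to `e θ` on the normal subgroup `Z` with `e ^ 2 = |H : Z|`.
The constituents of the restrictions to subgroups containing `Z`, and the Howlett–Isaacs
construction of `p`-complements in `H / K`.
-/

set_option autoImplicit false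
open Cfsg Cfsg.Agent.Char Subgroup
open scoped ComplexConjugate

namespace Cfsg.Agent.Char.FullyRam

variable {H : Type*} [Group H]

/-- `χ` is fully ramified over `Z` -/
structure FR (Z : Subgroup H) (χ : IrrCharacter H) (θ : IrrCharacter Z) (e : ℕ) : Prop where
  sq : e ^ 2 = Z.index
  res : ∀ z : Z, χ.1 z = e * θ.1 z

/-- an irreducible character viewed on the top subgroup -/
def top (χ : IrrCharacter H) : IrrCharacter (⊤ : Subgroup H) :=
  ⟨fun x => χ.1 x, χ.2.comp_mulEquiv Subgroup.topEquiv⟩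

theorem exists_top (ξ : IrrCharacter (⊤ : Subgroup H)) : ∃ χ : IrrCharacter H, top χ = ξ :=
  ⟨⟨fun x => ξ.1 (Subgroup.topEquiv.symm x), ξ.2.comp_mulEquiv _⟩, rfl⟩

theorem relIndex_dvd_index_of_normal [Finite H] (S K : Subgroup H) [K.Normal] :
    S.relIndex K ∣ S.index := by
  have h1 := Grp.card_sup_mul_card_inf S K
  have h2 := Grp.card_inf_mul_relIndex' S K
  have h3 := Grp.card_mul_relIndex (le_sup_left : S ≤ S ⊔ K)
  have h4 : S.relIndex K = S.relIndex (S ⊔ K) := by
    rw [← h2, ← h3] at h1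
    have e1 : 0 < Nat.card S * Nat.card (S ⊓ K : Subgroup H) := Nat.mul_pos Nat.card_pos Nat.card_pos
    apply Nat.eq_of_mul_eq_mul_left e1
    linarith
  rw [h4]
  exact relIndex_dvd_index_of_le le_sup_left

variable [Finite H]

/-- multiplicity of `η` in the restriction of `χ` -/
noncomputable def mult (χ : IrrCharacter H) {S : Subgroup H} (η : IrrCharacter S) : ℕ :=
  nmult (le_top : S ≤ ⊤) (top χ).1 η.1

theorem coe_mult (χ : IrrCharacter H) {S : Subgroup H} [Fintype S] (η : IrrCharacter S) :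
    (mult χ η : ℂ) = classInner (fun s : S => χ.1 s) η.1 :=
  coe_nmult_irr _ (top χ) η

theorem mult_ne_zero_iff (χ : IrrCharacter H) {S : Subgroup H} [Fintype S] (η : IrrCharacter S) :
    mult χ η ≠ 0 ↔ classInner (fun s : S => χ.1 s) η.1 ≠ 0 := by
  rw [← coe_mult, Nat.cast_ne_zero]

theorem mult_smul (χ : IrrCharacter H) {S : Subgroup H} (η : IrrCharacter S)
    (x : normalizer (S : Set H)) : mult χ (x • η) = mult χ η := by
  have := nmult_smul (le_top : S ≤ ⊤) (top χ) η ⟨x, le_normalizer (mem_top _)⟩ x rfl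
  rwa [irr_smul_of_mem (top χ) (mem_top _)] at this

theorem mult_trans (χ : IrrCharacter H) {S T : Subgroup H} (hST : S ≤ T) (ξ : IrrCharacter T)
    (η : IrrCharacter S) (h1 : mult χ ξ ≠ 0) (h2 : nmult hST ξ.1 η.1 ≠ 0) : mult χ η ≠ 0 :=
  nmult_trans_ne_zero le_top hST (top χ).2.isCharacter ξ η.2.isCharacter h1 h2

theorem exists_between (χ : IrrCharacter H) {S T : Subgroup H} (hST : S ≤ T)
    (η : IrrCharacter S) (h : mult χ η ≠ 0) :
    ∃ ξ : IrrCharacter T, mult χ ξ ≠ 0 ∧ nmult hST ξ.1 η.1 ≠ 0 :=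
  exists_nmult_between le_top hST (top χ).2.isCharacter η.2.isCharacter h

theorem exists_mult_ne_zero (χ : IrrCharacter H) (S : Subgroup H) :
    ∃ η : IrrCharacter S, mult χ η ≠ 0 :=
  exists_nmult_ne_zero_below le_top (top χ)

namespace FR
variable {Z : Subgroup H} {χ : IrrCharacter H} {θ : IrrCharacter Z} {e : ℕ}

theorem e_ne_zero (h : FR Z χ θ e) : e ≠ 0 := by
  rintro rfl
  exact Subgroup.index_ne_zero_of_finite (by simpa using h.sq.symm : Z.index = 0)

omit [Finite H] in
theorem res_eq (h : FR Z χ θ e) : (fun z : Z => χ.1 z) = (e : ℂ) • θ.1 := funext h.res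

theorem inv (h : FR Z χ θ e) {x : H} {z z' : Z} (e : (z' : H) = x * z * x⁻¹) :
    θ.1 z' = θ.1 z := by
  apply mul_left_cancel₀ (Nat.cast_ne_zero.2 h.e_ne_zero : (_ : ℂ) ≠ 0)
  rw [← h.res, ← h.res, e]
  exact χ.2.isClassFunction _ _

omit [Finite H] in
theorem deg (h : FR Z χ θ e) : charDegree χ.1 = e * charDegree θ.1 := by
  apply charDegree_eq_of_one_eq
  have := h.res 1
  simp only [OneMemClass.coe_one] at this
  rw [this]; push_cast; rw [coe_charDegree_irr]

theorem vanish (h : FR Z χ θ e) {x : H} (hx : x ∉ Z) : χ.1 x = 0 := by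
  have := Fintype.ofFinite H
  have := Fintype.ofFinite Z
  refine (vanish_off_iff_inner_restrict Z χ.1).2 ?_ x hx
  rw [classInner_self_of_eq_smul θ.2 h.res_eq, χ.2.inner_self, ← h.sq]; simp

theorem eq_of_mult (h : FR Z χ θ e) {φ : IrrCharacter Z} (hφ : mult χ φ ≠ 0) : φ = θ := by
  have := Fintype.ofFinite Z
  rw [mult_ne_zero_iff, h.res_eq, classInner_smul_left] at hφ
  exact Subtype.ext (θ.2.eq_of_inner_ne_zero φ.2 (right_ne_zero_of_mul hφ)).symm

theorem ind [Fintype H] (h : FR Z χ θ e) : indFun Z θ.1 = (e : ℂ) • χ.1 := by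
  have := Fintype.ofFinite Z
  have h1 : classInner (indFun Z θ.1) χ.1 = e := by
    rw [classInner_indFun_left Z _ χ.2.isClassFunction, h.res_eq, classInner_smul_right,
      θ.2.inner_self]; simp
  have := eq_smul_of_inner_mul_one_eq (isCharacter_indFun Z θ.2.isCharacter) χ.2 (by
    rw [h1, indFun_one, ← h.sq]
    have := h.res 1
    simp only [OneMemClass.coe_one] at this
    rw [this]; push_cast; ring)
  rwa [h1] at this

theorem eq_of_over (h : FR Z χ θ e) {ξ : IrrCharacter H} (hξ : mult ξ θ ≠ 0) : ξ = χ := by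
  have := Fintype.ofFinite H
  have := Fintype.ofFinite Z
  rw [mult_ne_zero_iff, ← classInner_indFun_right Z _ ξ.2.isClassFunction, h.ind,
    classInner_smul_right] at hξ
  exact Subtype.ext (ξ.2.eq_of_inner_ne_zero χ.2 (right_ne_zero_of_mul hξ))

theorem mult_ne_zero_iff_over (h : FR Z χ θ e) {S : Subgroup H} (hS : Z ≤ S)
    (η : IrrCharacter S) : mult χ η ≠ 0 ↔ nmult hS η.1 θ.1 ≠ 0 := by
  constructor
  · intro h1
    obtain ⟨φ, hφ⟩ := exists_nmult_ne_zero_below hS η
    rwa [h.eq_of_mult (mult_trans χ hS η φ h1 hφ)] at hφ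
  · intro h1
    obtain ⟨ξ, hξ⟩ := exists_nmult_ne_zero_above (le_top : S ≤ ⊤) η
    obtain ⟨ξ, rfl⟩ := exists_top ξ
    rwa [← h.eq_of_over (mult_trans ξ hS η θ hξ h1)]

theorem ind_eq [Fintype H] (h : FR Z χ θ e) {S : Subgroup H} (hS : Z ≤ S)
    {η : IrrCharacter S} (hη : mult χ η ≠ 0) : indFun S η.1 = (mult χ η : ℂ) • χ.1 := by
  have := Fintype.ofFinite S
  refine (isClassFunction_indFun S _).ext_inner (χ.2.isClassFunction.smul _) fun ξ hξ => ?_
  rw [classInner_indFun_eq_restrict S η.2.isGen hξ.isGen, classInner_smul_left]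
  by_cases e : χ.1 = ξ
  · rw [← e, χ.2.inner_self, mul_one, coe_mult]
  · rw [χ.2.inner_eq_zero hξ e, mul_zero]
    by_contra h1
    have h2 := (mult_ne_zero_iff ⟨ξ, hξ⟩ η).2 h1
    have h3 := h.eq_of_over (mult_trans _ hS η θ h2 ((h.mult_ne_zero_iff_over hS η).1 hη))
    exact e (congrArg Subtype.val h3).symm

theorem index_mul_deg (h : FR Z χ θ e) {S : Subgroup H} (hS : Z ≤ S)
    {η : IrrCharacter S} (hη : mult χ η ≠ 0) :
    S.index * charDegree η.1 = mult χ η * charDegree χ.1 := by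
  have := Fintype.ofFinite H
  have := congrFun (h.ind_eq hS hη) 1
  rw [indFun_one, Pi.smul_apply, smul_eq_mul, ← coe_charDegree_irr, ← coe_charDegree_irr] at this
  exact_mod_cast this

theorem sum_mult_sq (h : FR Z χ θ e) {S : Subgroup H} (hS : Z ≤ S) :
    ∑ η : IrrCharacter S, mult χ η ^ 2 = S.index := by
  have := Fintype.ofFinite H
  have := Fintype.ofFinite S
  have h1 := (vanish_off_iff_inner_restrict S χ.1).1 fun x hx => h.vanish fun h' => hx (hS h')
  rw [χ.2.inner_self, mul_one, (χ.2.isClassFunction.restrict S).inner_eq_sum] at h1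
  simp_rw [← coe_mult, Complex.conj_natCast, ← pow_two] at h1
  exact_mod_cast h1

/-- over a Sylow subgroup modulo `Z` there is only one constituent -/
theorem unique_of_pow [Z.Normal] (h : FR Z χ θ e) {p : ℕ} (hp : p.Prime) {P : Subgroup H}
    (hP : Z ≤ P) {k : ℕ} (hk : Z.relIndex P = p ^ k) (hi : ¬ p ∣ P.index)
    {η η' : IrrCharacter P} (hη : mult χ η ≠ 0) (hη' : mult χ η' ≠ 0) : η = η' := by
  classical
  have key : ∀ ξ : IrrCharacter P, mult χ ξ ≠ 0 → P.index ≤ mult χ ξ ^ 2 := by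
    intro ξ hξ
    have := Fintype.ofFinite (Z.subgroupOf P)
    have h1 := (h.mult_ne_zero_iff_over hP ξ).1 hξ
    rw [← Nat.cast_ne_zero (R := ℂ), coe_nmult_subgroupOf hP ξ.2.isCharacter θ.2.isCharacter] at h1
    obtain ⟨f, hf, hf'⟩ := exists_deg_eq_mul_dvd_index (Z.subgroupOf P) (isIrr_subgroupOf hP θ.2)
      ξ.2 h1
    have h2 : charDegree ξ.1 = f * charDegree θ.1 := by
      apply charDegree_eq_of_one_eq
      rw [hf]; push_cast; rw [coe_charDegree_irr]; rfl
    have h3 := h.index_mul_deg hP hξ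
    rw [h2, h.deg, ← mul_assoc, ← mul_assoc] at h3
    have h4 := Nat.eq_of_mul_eq_mul_right (charDegree_irr_pos θ) h3
    have h5 : e ^ 2 = p ^ k * P.index := by rw [h.sq, ← hk, relIndex_mul_index hP]
    have h6 : P.index * f ^ 2 = mult χ ξ ^ 2 * p ^ k := by
      apply Nat.eq_of_mul_eq_mul_left (Nat.pos_of_ne_zero (index_ne_zero_of_finite (H := P)))
      calc P.index * (P.index * f ^ 2) = (P.index * f) ^ 2 := by ring
        _ = mult χ ξ ^ 2 * e ^ 2 := by rw [h4]; ring
        _ = _ := by rw [h5]; ring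
    have h7 : P.index ∣ mult χ ξ ^ 2 :=
      (Nat.Coprime.pow_right k ((hp.coprime_iff_not_dvd.2 hi).symm)).dvd_of_dvd_mul_right
        (Dvd.intro _ h6)
    exact Nat.le_of_dvd (by positivity) h7
  by_contra hne
  have h1 := Finset.sum_le_sum_of_subset (f := fun ξ : IrrCharacter P => mult χ ξ ^ 2)
    (Finset.subset_univ {η, η'})
  rw [Finset.sum_pair hne, h.sum_mult_sq hP] at h1
  have := key η hη
  have := key η' hη'
  have : P.index ≠ 0 := index_ne_zero_of_finite
  omega

end FR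

/-- A Sylow subgroup modulo `Z`, with the Frattini argument for its intersection with `K`. -/
theorem exists_sylow_mod (Z K : Subgroup H) [Z.Normal] [K.Normal] (hZK : Z ≤ K) (p : ℕ)
    [hp : Fact p.Prime] : ∃ (P : Subgroup H) (k : ℕ), Z ≤ P ∧ Z.relIndex P = p ^ k ∧
      ¬ p ∣ P.index ∧ normalizer ((P ⊓ K : Subgroup H) : Set H) ⊔ K = ⊤ := by
  let Q : Sylow p (H ⧸ Z) := default
  obtain ⟨k, hk⟩ := IsPGroup.iff_card.1 Q.isPGroup'
  have hs := QuotientGroup.mk'_surjective Z
  have hZ : Z ≤ (Q : Subgroup (H ⧸ Z)).comap (QuotientGroup.mk' Z) := fun z hz => by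
    rw [mem_comap, QuotientGroup.mk'_apply, (QuotientGroup.eq_one_iff z).2 hz]; exact one_mem _
  refine ⟨(Q : Subgroup (H ⧸ Z)).comap (QuotientGroup.mk' Z), k, hZ, ?_, ?_, ?_⟩
  · have h1 := Grp.card_comap_of_surjective _ hs (Q : Subgroup (H ⧸ Z))
    rw [← Grp.card_mul_relIndex hZ, QuotientGroup.ker_mk', hk, mul_comm] at h1
    exact Nat.eq_of_mul_eq_mul_right Nat.card_pos h1
  · rw [index_comap_of_surjective _ hs]; exact Q.not_dvd_index
  · have : (K.map (QuotientGroup.mk' Z)).Normal := Subgroup.Normal.map inferInstance _ hs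
    have h1 := Grp.frattini_argument (p := p)
      (inf_le_right : (Q : Subgroup (H ⧸ Z)) ⊓ K.map (QuotientGroup.mk' Z) ≤ _)
      (Q.isPGroup'.to_le inf_le_left) (by
        rw [inf_relIndex_right]
        exact fun h => Q.not_dvd_index (h.trans (relIndex_dvd_index_of_normal _ _)))
    have h2 : (K.map (QuotientGroup.mk' Z)).comap (QuotientGroup.mk' Z) = K :=
      comap_map_eq_self (by rwa [QuotientGroup.ker_mk'])
    have h3 := congrArg (comap (QuotientGroup.mk' Z)) h1
    rwa [← comap_sup_eq _ _ _ hs, comap_normalizer_eq_of_surjective _ hs, comap_inf, h2,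
      comap_top] at h3

/-- The Howlett–Isaacs setup. -/
theorem FR.setup {Z : Subgroup H} [Z.Normal] {χ : IrrCharacter H} {θ : IrrCharacter Z} {e : ℕ}
    (h : FR Z χ θ e) (K : Subgroup H) [hK : K.Normal] (hZK : Z ≤ K) (p : ℕ) [hp : Fact p.Prime] :
    ∃ (P : Subgroup H) (k : ℕ) (η : IrrCharacter (P ⊓ K : Subgroup H)), Z ≤ P ∧
      Z.relIndex P = p ^ k ∧ ¬ p ∣ P.index ∧ mult χ η ≠ 0 ∧
      (∀ η' : IrrCharacter (P ⊓ K : Subgroup H), mult χ η' ≠ 0 →
        charDegree η'.1 = charDegree η.1) ∧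
      (invSubgroup η.1).relIndex P * (P ⊓ K).index * charDegree η.1 ^ 2 = charDegree χ.1 ^ 2 ∧
      (invSubgroup η.1 ⊓ P ≤ K → ∃ (M : Subgroup H) (j : ℕ), K ≤ M ∧ M.index = p ^ j ∧
        ¬ p ∣ K.relIndex M) := by
  classical
  obtain ⟨P, k, hZP, hk, hi, hfr⟩ := exists_sylow_mod Z K hZK p
  set D := P ⊓ K with hD
  have hZD : Z ≤ D := le_inf hZP hZK
  obtain ⟨η, hη⟩ := exists_mult_ne_zero χ D
  have hPN : P ≤ normalizer (D : Set H) := fun x hx y => by
    constructor
    · rintro ⟨h1, h2⟩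
      exact ⟨P.mul_mem (P.mul_mem hx h1) (P.inv_mem hx), hK.conj_mem _ h2 x⟩
    · rintro ⟨h1, h2⟩
      refine ⟨?_, ?_⟩
      · have := P.mul_mem (P.mul_mem (P.inv_mem hx) h1) hx
        simpa [mul_assoc] using this
      · simpa [mul_assoc] using hK.conj_mem _ h2 x⁻¹
  have htr : ∀ η' : IrrCharacter D, mult χ η' ≠ 0 → ∃ x : P, inclusion hPN x • η = η' := by
    intro η' hη'
    obtain ⟨ξ, h1, h2⟩ := exists_between χ (inf_le_left : D ≤ P) η hη
    obtain ⟨ξ', h1', h2'⟩ := exists_between χ (inf_le_left : D ≤ P) η' hη'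
    rw [← h.unique_of_pow hp.out hZP hk hi h1 h1'] at h2'
    exact exists_smul_eq_of_nmult _ hPN ξ η η' h2 h2'
  set I := invSubgroup η.1 with hI
  have hIN : I ≤ normalizer (D : Set H) := fun x hx => hx.1
  have hmemI : ∀ x : normalizer (D : Set H), x • η = η ↔ (x : H) ∈ I := fun x => by
    rw [irr_smul_eq_iff]; exact ⟨fun h => ⟨x.2, h⟩, fun h => h.2⟩
  have hDI : D ≤ I := fun x hx => (hmemI ⟨x, le_normalizer hx⟩).1 (irr_smul_of_mem η hx)
  have hNPI : ∀ n ∈ normalizer (D : Set H), ∃ x ∈ P, ∃ i ∈ I, n = x * i := by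
    intro n hn
    obtain ⟨x, hx⟩ := htr ((⟨n, hn⟩ : normalizer (D : Set H)) • η) (by rwa [mult_smul])
    refine ⟨x, x.2, x⁻¹ * n, ?_, by simp⟩
    have : ((inclusion hPN x)⁻¹ * ⟨n, hn⟩ : normalizer (D : Set H)) • η = η := by
      rw [mul_smul, ← hx, inv_smul_smul]
    exact (hmemI _).1 this
  have hrel : I.relIndex (normalizer (D : Set H)) = I.relIndex P := by
    have := relIndex_eq_index_of_mul (G := normalizer (D : Set H)) (H := I.subgroupOf _)
      (M := P.subgroupOf _) fun n => by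
        obtain ⟨x, hx, i, hi, e⟩ := hNPI n n.2
        exact ⟨⟨x, hPN hx⟩, hx, ⟨i, hIN hi⟩, hi, Subtype.ext e⟩
    rw [relIndex_subgroupOf hPN] at this
    exact this.symm
  let A := Finset.univ.filter fun η' : IrrCharacter D => mult χ η' ≠ 0
  have hA : A.card = I.relIndex P := by
    rw [← hrel]
    have h1 : MulAction.stabilizer (normalizer (D : Set H)) η = I.subgroupOf _ := by
      ext x; rw [MulAction.mem_stabilizer_iff, hmemI, mem_subgroupOf]
    rw [relIndex, ← h1, MulAction.index_stabilizer, ← Set.ncard_coe_finset]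
    congr 1
    ext η'
    simp only [A, Finset.coe_filter, Finset.mem_univ, true_and, Set.mem_setOf_eq]
    constructor
    · intro h'
      obtain ⟨x, hx⟩ := htr η' h'
      exact ⟨_, hx⟩
    · rintro ⟨x, rfl⟩
      rwa [mult_smul]
  have hsum : I.relIndex P * mult χ η ^ 2 = D.index := by
    rw [← h.sum_mult_sq hZD, ← hA, ← smul_eq_mul, ← Finset.sum_const]
    rw [← Finset.sum_filter_add_sum_filter_not Finset.univ (fun η' => mult χ η' ≠ 0)]
    rw [Finset.sum_eq_zero (s := Finset.univ.filter fun η' => ¬ mult χ η' ≠ 0) fun η' hη' => by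
      rw [not_not.1 (Finset.mem_filter.1 hη').2]; simp, add_zero]
    refine Finset.sum_congr rfl fun η' hη' => ?_
    obtain ⟨x, rfl⟩ := htr η' (Finset.mem_filter.1 hη').2
    rw [mult_smul]
  refine ⟨P, k, η, hZP, hk, hi, hη, fun η' hη' => ?_, ?_, fun hT => ?_⟩
  · obtain ⟨x, rfl⟩ := htr η' hη'
    exact charDegree_congr_one (irr_smul_one _ _)
  · have h1 := h.index_mul_deg hZD hη
    rw [← hsum] at h1 ⊢
    have h2 : I.relIndex P * mult χ η * charDegree η.1 = charDegree χ.1 := by
      apply Nat.eq_of_mul_eq_mul_left (Nat.pos_of_ne_zero hη)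
      rw [← h1]; ring
    rw [← h2]; ring
  · have hDP : D.relIndex P ∣ p ^ k := hk ▸ relIndex_dvd_of_le_left P hZD
    have hNK : normalizer (D : Set H) ⊓ K ≤ I := by
      have h1 : I.relIndex (normalizer (D : Set H) ⊓ K) ∣ p ^ k := by
        have := relIndex_dvd_index_of_normal (I.subgroupOf (normalizer (D : Set H)))
          (K.subgroupOf _)
        rw [← inf_subgroupOf_left K, relIndex_subgroupOf inf_le_left] at this
        refine this.trans ?_
        change I.relIndex _ ∣ _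
        rw [hrel]
        exact (relIndex_dvd_of_le_left P hDI).trans hDP
      have h2 : I.relIndex (normalizer (D : Set H) ⊓ K) ∣ P.index := by
        refine (relIndex_dvd_of_le_left _ hDI).trans ?_
        have h3 : D.relIndex (normalizer (D : Set H) ⊓ K) ∣ D.relIndex K :=
          Dvd.intro _ (relIndex_mul_relIndex _ _ _ (le_inf le_normalizer inf_le_right) inf_le_right)
        refine h3.trans ?_
        rw [hD, inf_relIndex_right]
        exact relIndex_dvd_index_of_normal _ _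
      rw [← relIndex_eq_one]
      exact Nat.eq_one_of_dvd_coprimes
        (Nat.Coprime.pow_left k (hp.out.coprime_iff_not_dvd.2 hi)) h1 h2
    have hM : (I ⊔ K).index = D.relIndex P := by
      rw [← relIndex_eq_index_of_mul (M := P) fun g => ?_]
      · rw [← inf_relIndex_right]
        congr 1
        apply le_antisymm
        · rintro x ⟨h1, h2⟩
          refine ⟨h2, hT ⟨?_, h2⟩⟩
          have h1' : x ∈ ((I ⊔ K : Subgroup H) : Set H) := h1
          rw [mul_normal] at h1'
          obtain ⟨i, hi, c, hc, rfl⟩ := h1'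
          refine I.mul_mem hi (hNK ⟨?_, hc⟩)
          have := (normalizer (D : Set H)).mul_mem ((normalizer (D : Set H)).inv_mem (hIN hi))
            (hPN h2)
          simpa using this
        · exact le_inf (inf_le_right.trans le_sup_right) inf_le_left
      · have h1 : g ∈ ((normalizer (D : Set H) ⊔ K : Subgroup H) : Set H) := by
          rw [hfr]; exact mem_top g
        rw [mul_normal] at h1
        obtain ⟨n, hn, c, hc, rfl⟩ := h1
        obtain ⟨x, hx, i, hi, rfl⟩ := hNPI n hn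
        exact ⟨x, hx, i * c, mul_mem (mem_sup_left hi) (mem_sup_right hc), by simp [mul_assoc]⟩
    obtain ⟨j, -, hj⟩ := (Nat.dvd_prime_pow hp.out).1 hDP
    refine ⟨I ⊔ K, j, le_sup_right, hM.trans hj, fun h1 => hi ?_⟩
    have e1 := relIndex_mul_index (le_sup_right : K ≤ I ⊔ K)
    have e2 := relIndex_mul_index (le_sup_right : K ≤ P ⊔ K)
    rw [relIndex_sup_right, ← e1, hM, hD, inf_relIndex_left, mul_comm] at e2
    have e3 := Nat.eq_of_mul_eq_mul_right
      (Nat.pos_of_ne_zero (index_ne_zero_of_finite : K.relIndex P ≠ 0)) e2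
    exact (e3 ▸ h1).trans (index_dvd_of_le le_sup_left)

/-- passage to the quotient -/
theorem exists_quotient_complement (K : Subgroup H) [K.Normal] {p : ℕ} [hp : Fact p.Prime]
    {M : Subgroup H} {j : ℕ} (hKM : K ≤ M) (hj : M.index = p ^ j) (hM : ¬ p ∣ K.relIndex M) :
    ∃ L : Subgroup (H ⧸ K), L.index = p ^ (Nat.card (H ⧸ K)).factorization p ∧
      ¬ p ∣ Nat.card L := by
  have h1 : (M.map (QuotientGroup.mk' K)).index = p ^ j := by
    rw [← hj, ← index_comap_of_surjective _ (QuotientGroup.mk'_surjective K),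
      comap_map_eq_self (by rwa [QuotientGroup.ker_mk'])]
  have h2 : Nat.card (M.map (QuotientGroup.mk' K)) = K.relIndex M := by
    have := Grp.card_map_mk'_mul_of_le K hKM
    rw [← Grp.card_mul_relIndex hKM, mul_comm (Nat.card K)] at this
    exact Nat.eq_of_mul_eq_mul_right Nat.card_pos this
  refine ⟨M.map (QuotientGroup.mk' K), ?_, h2 ▸ hM⟩
  rw [← (M.map (QuotientGroup.mk' K)).index_mul_card, h1, h2,
    Nat.factorization_mul (pow_ne_zero _ hp.out.ne_zero)
      (show K.relIndex M ≠ 0 from index_ne_zero_of_finite)]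
  simp [Nat.factorization_eq_zero_of_not_dvd hM, hp.out.factorization_self]

end Cfsg.Agent.Char.FullyRam
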