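import Mathlib
import Cfsg.Prelude.Def_Characters
import Cfsg.Agent.Char.RealClifford
import Cfsg.Agent.Char.Galois
import Cfsg.Agent.Char.Triple
import Cfsg.Agent.Char.CycCoset
import Cfsg.Agent.Char.FS

/-!
# Galois-fixed characters and Clifford theory

`σ_k : χ ↦ χ ∘ (· ^ k)`.
* `pow_fixed_of_over`: `σ` of `p`-power order, `p ∤ |G:N|`: constituents of a fixed `χ` are fixed;
* `existsUnique_pow_fixed_over`: `|G:N|` odd and `σ` inverts `G/N`;
* `restrict_eq_of_pow_fixed`: the fixed character over an invariant `θ` extends it.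
-/

set_option autoImplicit false
set_option linter.dupNamespace false

namespace Cfsg.Agent.Char

open Cfsg Cfsg.Agent.Char
open scoped ComplexConjugate

section

variable {G : Type*} [Group G] (N : Subgroup G) [hN : N.Normal]

theorem conjChar_comp_pow (θ : N → ℂ) (g : G) (k : ℕ) :
    conjChar N (fun n => θ (n ^ k)) g = fun n => conjChar N θ g (n ^ k) := by
  funext n
  simp only [conjChar_eq_comp, map_pow]

variable [Fintype G] [Fintype N]

omit hN in
theorem classInner_restrict_comp_pow {k : ℕ} (hk : k.Coprime (Nat.card G)) {χ : G → ℂ}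
    (hχ : IsCharacter G χ) {θ : N → ℂ} (hθ : IsCharacter N θ)
    (h : classInner (fun n : N => χ n) θ ≠ 0) :
    classInner (fun n : N => χ (n ^ k)) (fun n => θ (n ^ k)) ≠ 0 := by
  obtain ⟨σ, hσ⟩ := exists_galois_pow (G := N) (m := k)
    (hk.coprime_dvd_right (Subgroup.card_subgroup_dvd_card N))
  have h1 := classInner_galois (fun n : N => χ n) hθ.isGen (σ : ℂ →+* ℂ)
  have h2 : (fun n : N => (σ : ℂ →+* ℂ) (χ n)) = fun n : N => χ (n ^ k) := funext fun n => by
    simpa using hσ _ (hχ.restrict N).isGen n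
  have h3 : (fun n : N => (σ : ℂ →+* ℂ) (θ n)) = fun n : N => θ (n ^ k) := funext fun n =>
    hσ _ hθ.isGen n
  rw [h2, h3] at h1
  rw [h1]
  simpa using h

theorem pow_fixed_of_over {p : ℕ} (hp : p.Prime) (hidx : ¬ p ∣ N.index) {k e : ℕ}
    (hk : k.Coprime (Nat.card G)) (hke : k ^ (p ^ e) ≡ 1 [MOD Nat.card G]) {χ : G → ℂ}
    (hχ : IsIrrCharacter G χ) (hχk : ∀ g, χ (g ^ k) = χ g) {θ : N → ℂ} (hθ : IsIrrCharacter N θ)
    (h : classInner (fun n : N => χ n) θ ≠ 0) (n : N) : θ (n ^ k) = θ n := by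
  have hkN : k.Coprime (Nat.card N) := hk.coprime_dvd_right (Subgroup.card_subgroup_dvd_card N)
  have h1 := classInner_restrict_comp_pow N hk hχ.isCharacter hθ.isCharacter h
  simp only [hχk] at h1
  obtain ⟨g, hg⟩ := exists_conjChar_eq_of_inner_ne_zero N hχ hθ (hθ.comp_pow hkN) h h1
  have h2 : ∀ j : ℕ, conjChar N θ (g ^ j) = fun n => θ (n ^ k ^ j) := by
    intro j
    induction j with
    | zero => simp [conjChar_of_mem hθ.isClassFunction N.one_mem]
    | succ j ih =>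
      rw [pow_succ, conjChar_mul, ih, conjChar_comp_pow, hg]
      funext n
      simp only [← pow_mul, pow_succ]
  have h3 : g ^ p ^ e ∈ inertia N θ := by
    rw [mem_inertia, h2]
    funext n
    congr 1
    have : k ^ p ^ e ≡ 1 [MOD orderOf n] :=
      hke.of_dvd ((orderOf_dvd_natCard n).trans (Subgroup.card_subgroup_dvd_card N))
    rw [pow_eq_pow_iff_modEq.mpr this, pow_one]
  have h4 : g ^ N.index ∈ inertia N θ := le_inertia N hθ.isClassFunction (N.pow_index_mem g)
  have h5 : g ∈ inertia N θ := by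
    have hc : (p ^ e).Coprime N.index := ((Nat.Prime.coprime_iff_not_dvd hp).mpr hidx).pow_left e
    have := (inertia N θ).mul_mem (Subgroup.zpow_mem _ h3 (Nat.gcdA (p ^ e) N.index))
      (Subgroup.zpow_mem _ h4 (Nat.gcdB (p ^ e) N.index))
    rwa [← zpow_natCast, ← zpow_natCast, ← zpow_mul, ← zpow_mul, ← zpow_add,
      ← Nat.gcd_eq_gcd_ab, hc, Nat.cast_one, zpow_one] at this
  rw [mem_inertia] at h5
  exact congrFun (hg.symm.trans h5) n

theorem restrict_pow_fixed_of_over {k : ℕ} {φ : N → ℂ} (hφ : IsIrrCharacter N φ)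
    (hr : ∀ n, φ (n ^ k) = φ n) {χ : G → ℂ} (hχ : IsIrrCharacter G χ)
    (h : classInner (fun n : N => χ n) φ ≠ 0) (n : N) : χ (n ^ k) = χ n := by
  have h1 := congrFun (clifford N hχ hφ h) n
  have h2 := congrFun (clifford N hχ hφ h) (n ^ k)
  simp only [Pi.smul_apply, Finset.sum_apply, smul_eq_mul, Subgroup.coe_pow] at h1 h2
  rw [h1, h2]
  congr 1
  refine Finset.sum_congr rfl fun ψ hψ => ?_
  obtain ⟨g, rfl⟩ := (mem_conjugates N).mp hψ
  have := congrFun (conjChar_comp_pow N φ g k) n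
  rw [← this, funext hr]

/-- If `|G : N|` is odd and `σ_k` inverts `G / N`, a `σ_k`-fixed `φ ∈ Irr N` lies under exactly one
`σ_k`-fixed irreducible character. -/
theorem existsUnique_pow_fixed_over (hodd : Odd N.index) {k : ℕ} (hk : k.Coprime (Nat.card G))
    (hkN : ∀ g : G, g ^ k * g ∈ N) {φ : N → ℂ} (hφ : IsIrrCharacter N φ)
    (hr : ∀ n, φ (n ^ k) = φ n) :
    ∃! χ : IrrCharacter G, (∀ g, (χ : G → ℂ) (g ^ k) = (χ : G → ℂ) g) ∧
      classInner (fun n : N => (χ : G → ℂ) n) φ ≠ 0 := by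
  classical
  set A := Finset.univ.filter (fun χ : IrrCharacter G =>
      classInner (fun n : N => (χ : G → ℂ) n) φ ≠ 0) with hA
  have hmem : ∀ χ, χ ∈ A ↔ classInner (fun n : N => (χ : G → ℂ) n) φ ≠ 0 := fun χ => by simp [hA]
  have h1 : ((A.filter fun χ : IrrCharacter G =>
      ∀ g, (χ : G → ℂ) (g ^ k) = (χ : G → ℂ) g).card : ℂ) =
      ∑ χ ∈ A, classInner (χ : G → ℂ) (fun g => (χ : G → ℂ) (g ^ k)) := by
    rw [Finset.card_filter, Nat.cast_sum]
    refine Finset.sum_congr rfl fun χ _ => ?_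
    split_ifs with h
    · rw [funext h, χ.2.inner_self, Nat.cast_one]
    · rw [Nat.cast_zero]
      by_contra h0
      exact h fun g => (congrFun (χ.2.eq_of_inner_ne_zero (χ.2.comp_pow hk) (Ne.symm h0)) g).symm
  have h2 : ∑ χ ∈ A, classInner (χ : G → ℂ) (fun g => (χ : G → ℂ) (g ^ k)) =
      (Nat.card G : ℂ)⁻¹ * ∑ n : N, ∑ χ ∈ A, (χ : G → ℂ) n * conj ((χ : G → ℂ) n) := by
    simp only [classInner_def]
    rw [← Finset.mul_sum, Finset.sum_comm]
    congr 1
    rw [← Finset.sum_filter_add_sum_filter_not Finset.univ (· ∈ N),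
      Finset.sum_eq_zero (s := Finset.univ.filter (· ∉ N)), add_zero,
      Finset.sum_subtype (p := (· ∈ N)) (F := inferInstance) _ (by simp)]
    · refine Finset.sum_congr rfl fun n _ => Finset.sum_congr rfl fun χ hχ => ?_
      rw [restrict_pow_fixed_of_over N hφ hr χ.2 ((hmem χ).mp hχ) n]
    · intro g hg
      refine sum_over_mul_conj_eq_zero N hφ (g := g) (h := g ^ k) fun n hn h =>
        (Finset.mem_filter.mp hg).2 ?_
      obtain ⟨c, hc⟩ := isConj_iff.mp h
      refine mem_of_isConj_inv_of_odd_index N hodd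
        (n := (c⁻¹ * (g ^ k * g)⁻¹ * c⁻¹⁻¹) * n)
        (N.mul_mem (hN.conj_mem _ (N.inv_mem (hkN g)) _) hn) (isConj_iff.mpr ⟨c, ?_⟩)
      calc c * (c⁻¹ * (g ^ k * g)⁻¹ * c⁻¹⁻¹ * n * g) * c⁻¹
          = (g ^ k * g)⁻¹ * (c * (n * g) * c⁻¹) := by group
        _ = g⁻¹ := by rw [hc]; group
  have h3 : ∑ n : N, ∑ χ ∈ A, (χ : G → ℂ) n * conj ((χ : G → ℂ) n) = Nat.card G := by
    rw [Finset.sum_comm]
    have h4 : ∀ χ ∈ A, ∑ n : N, (χ : G → ℂ) n * conj ((χ : G → ℂ) n) =
        (Nat.card N * (inertia N φ).index) * (classInner (indFun N φ) χ *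
          conj (classInner (indFun N φ) χ)) := by
      intro χ hχ
      rw [sum_mul_conj_eq (fun n : N => (χ : G → ℂ) n) (fun n : N => (χ : G → ℂ) n),
        clifford_inner_self N χ.2 hφ ((hmem χ).mp hχ), classInner_conj_symm,
        (isCharacter_indFun N hφ.isCharacter).inner_symm χ.2.isCharacter,
        classInner_indFun_right N φ χ.2.isClassFunction]
      ring
    rw [Finset.sum_congr rfl h4, ← Finset.mul_sum, hA, Finset.sum_filter_of_ne,
      ← (isClassFunction_indFun N φ).inner_eq_sum, mul_right_comm,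
      card_mul_classInner_indFun_self N hφ, ← Nat.cast_mul, Subgroup.card_mul_index]
    intro χ _ h h0
    apply h
    rw [classInner_conj_symm, classInner_indFun_right N φ χ.2.isClassFunction, h0, mul_zero]
  rw [h2, h3, inv_mul_cancel₀ (card_ne_zero G), Nat.cast_eq_one, Finset.card_eq_one] at h1
  obtain ⟨χ, hχ⟩ := h1
  refine ⟨χ, ?_, fun ψ hψ => ?_⟩
  · have := hχ ▸ Finset.mem_singleton_self χ
    rw [Finset.mem_filter, hmem] at this
    exact this.symm
  · rw [← Finset.mem_singleton, ← hχ, Finset.mem_filter, hmem]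
    exact hψ.symm

omit [Fintype G] in
theorem pow_succ_mem_of_odd_index [Finite G] (N : Subgroup G) [N.Normal] (hodd : Odd N.index)
    {k : ℕ} (hk₂ : ∀ g : G, Odd (orderOf g) → g ^ k = g⁻¹) (g : G) : g ^ k * g ∈ N := by
  obtain ⟨a, o, ho, hao⟩ := Nat.exists_eq_two_pow_mul_odd (orderOf_pos g).ne'
  have h1 : Odd (orderOf (g ^ 2 ^ a)) := by
    refine Odd.of_dvd_nat ho (orderOf_dvd_of_pow_eq_one ?_)
    rw [← pow_mul, ← hao, pow_orderOf_eq_one]
  have h2 : (g ^ k * g) ^ 2 ^ a = 1 := by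
    rw [← pow_succ, ← pow_mul, mul_comm, pow_mul, pow_succ, hk₂ _ h1, inv_mul_cancel]
  have h3 : ∀ j : ℕ, ∀ x : G, x ^ 2 ^ j ∈ N → x ∈ N := by
    intro j
    induction j with
    | zero => simp
    | succ j ih =>
      intro x hx
      rw [pow_succ, pow_mul, pow_two] at hx
      exact ih x (mem_of_mul_self_mem_of_odd_index N hodd hx)
  exact h3 a _ (h2 ▸ N.one_mem)

omit [Fintype G] in
/-- An exponent acting as `k` on `G` and as `-1` modulo a given odd number. -/
theorem exists_pow_eq_and_inv [Finite G] {k : ℕ} (hk : k.Coprime (Nat.card G))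
    (hk₂ : ∀ g : G, Odd (orderOf g) → g ^ k = g⁻¹) {z : ℕ} (hz : Odd z) :
    ∃ m : ℕ, m.Coprime (z * Nat.card G) ∧ (∀ g : G, g ^ m = g ^ k) ∧
      ∀ t : ℕ, Odd t → t ∣ z * Nat.card G → t ∣ m + 1 := by
  obtain ⟨a, o, ho, hao⟩ := Nat.exists_eq_two_pow_mul_odd (Nat.card_pos (α := G)).ne'
  have hzo : Odd (z * o) := hz.mul ho
  have hc : (2 ^ a).Coprime (z * o) := (Nat.coprime_two_left.mpr hzo).pow_left a
  obtain ⟨m, hm1, hm2⟩ := Nat.chineseRemainder hc k (z * o - 1)
  have hpos : 0 < z * o := hzo.pos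
  have hm3 : z * o ∣ m + 1 := by
    have := hm2.add_right 1
    rw [Nat.sub_add_cancel hpos] at this
    exact (Nat.modEq_zero_iff_dvd.mp (this.trans (Nat.modEq_zero_iff_dvd.mpr dvd_rfl)))
  refine ⟨m, ?_, fun g => ?_, fun t ht htd => ?_⟩
  · have e : z * Nat.card G = 2 ^ a * (z * o) := by rw [hao]; ring
    rw [e]
    refine Nat.Coprime.mul_right ?_ ?_
    · rw [Nat.Coprime, hm1.gcd_eq]
      exact hk.coprime_dvd_right (Dvd.intro _ hao.symm)
    · exact (Nat.coprime_self_add_right.mpr (Nat.coprime_one_right m)).coprime_dvd_right hm3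
  · have h1 : Odd (orderOf (g ^ 2 ^ a)) := by
      refine Odd.of_dvd_nat ho (orderOf_dvd_of_pow_eq_one ?_)
      rw [← pow_mul, ← hao, pow_card_eq_one']
    have h2 : (g ^ 2 ^ a) ^ m = (g ^ 2 ^ a) ^ k := by
      rw [hk₂ _ h1, eq_inv_iff_mul_eq_one, ← pow_succ]
      obtain ⟨c, hc⟩ := hm3
      rw [hc, mul_comm z, mul_assoc, pow_mul, ← pow_mul g, ← hao, pow_card_eq_one', one_pow]
    have h3 : (g ^ o) ^ m = (g ^ o) ^ k := by
      refine pow_eq_pow_iff_modEq.mpr (hm1.of_dvd (orderOf_dvd_of_pow_eq_one ?_))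
      rw [← pow_mul, mul_comm, ← hao, pow_card_eq_one']
    have hcm : Commute (g ^ m) (g ^ k)⁻¹ := ((Commute.refl g).pow_pow m k).inv_right
    rw [← mul_inv_eq_one, ← orderOf_eq_one_iff]
    have hc' : (2 ^ a).Coprime o := (Nat.coprime_two_left.mpr ho).pow_left a
    refine Nat.eq_one_of_dvd_one (hc' ▸ Nat.dvd_gcd ?_ ?_) <;>
      refine orderOf_dvd_of_pow_eq_one ?_
    · rw [hcm.mul_pow, inv_pow, pow_right_comm, h2, pow_right_comm g k, mul_inv_cancel]
    · rw [hcm.mul_pow, inv_pow, pow_right_comm, h3, pow_right_comm g k, mul_inv_cancel]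
  · have e : z * Nat.card G = 2 ^ a * (z * o) := by rw [hao]; ring
    rw [e] at htd
    exact (((Nat.coprime_two_right.mpr ht).pow_right a).dvd_of_dvd_mul_left htd).trans hm3

/-- The `σ_k`-fixed character over an invariant `σ_k`-fixed `θ` (odd index) extends `θ`. -/
theorem restrict_eq_of_pow_fixed (hodd : Odd N.index) {k : ℕ} (hk : k.Coprime (Nat.card G))
    (hk₂ : ∀ g : G, Odd (orderOf g) → g ^ k = g⁻¹) {θ : N → ℂ} (hθ : IsIrrCharacter N θ)
    (hr : ∀ n, θ (n ^ k) = θ n)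
    (hinv : ∀ (g : G) (n : N), θ ⟨g * n * g⁻¹, hN.conj_mem n n.2 g⟩ = θ n) {χ : G → ℂ}
    (hχ : IsIrrCharacter G χ) (hχk : ∀ g, χ (g ^ k) = χ g)
    (h : classInner (fun n : N => χ n) θ ≠ 0) (n : N) : χ n = θ n := by
  obtain ⟨Γ, _, _, π, s, θ', T⟩ := exists_isTripleLift N hθ hinv
  have := Fintype.ofFinite Γ
  have hnorm := T.normal_range
  obtain ⟨β, hβ, hβs, hfac⟩ := T.exists_factor hθ hχ h
  have hz : Odd (Nat.card π.ker) := Odd.of_dvd_nat hodd T.card_ker
  obtain ⟨m, hm, hmk, hmt⟩ := exists_pow_eq_and_inv hk hk₂ hz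
  have hcard : Nat.card Γ = Nat.card π.ker * Nat.card G := by
    rw [← π.ker.card_mul_index, Subgroup.index_ker, MonoidHom.range_eq_top.mpr T.surj,
      Subgroup.card_top]
  rw [← hcard] at hm hmt
  have hidx : s.range.index = Nat.card π.ker * N.index := by
    have h1 := s.range.card_mul_index
    rw [← Nat.card_congr (MonoidHom.ofInjective T.s_injective).toEquiv, hcard,
      ← N.card_mul_index] at h1
    exact Nat.eq_of_mul_eq_mul_left (Nat.card_pos (α := N)) (by rw [h1]; ring)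
  have hto : Odd s.range.index := hidx ▸ hz.mul hodd
  have hmi := hmt _ hto s.range.index_dvd_card
  have hθ's : (fun n => θ' (s n)) = θ := T.comp_eq
  obtain ⟨μ, hμ1, hμ⟩ := exists_linear_of_irr s T.s_injective hnorm
    (T.irr.comp_pow hm).isCharacter T.irr.isCharacter
    (by
      have : (fun g : N => θ' (s g ^ m)) = θ := funext fun g => by
        rw [← map_pow, T.apply_sec, show g ^ m = g ^ k from Subtype.ext (hmk g), hr]
      rw [this]; exact hθ)
    (fun g => by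
      rw [← map_pow, T.apply_sec, T.apply_sec, show g ^ m = g ^ k from Subtype.ext (hmk g), hr])
  obtain ⟨β', hβ'⟩ := exists_irr_deflation s.range hβ (by rintro _ ⟨n, rfl⟩; exact hβs n)
  have hβm : ∀ γ, β (γ ^ m) = conj (β γ) := by
    intro γ
    rw [← hβ', ← hβ', ← β'.2.map_inv]
    refine congrArg _ ?_
    rw [QuotientGroup.mk_pow, eq_inv_iff_mul_eq_one, ← pow_succ]
    obtain ⟨c, hc⟩ := hmi
    rw [hc, pow_mul, Subgroup.index, pow_card_eq_one', one_pow]
  have hββ : (fun γ => conj (β γ) * μ γ) = β := by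
    refine gallagher_inj_hom s hnorm T.irr.isCharacter (hθ's ▸ hθ) (hβ.conj.mul_linear μ)
      (fun n => by simp [hβs, hμ1]) hβ hβs (funext fun γ => ?_)
    simp only [Pi.mul_apply]
    rw [mul_assoc, ← hμ, ← hβm, ← hfac, ← hfac, map_pow, hmk, hχk]
  obtain ⟨j, hj⟩ := hto
  have hμt : ∀ γ, μ γ ^ (2 * j + 1) = 1 := by
    intro γ
    obtain ⟨n, hn⟩ := s.range.pow_index_mem γ
    rw [← map_pow, ← hj, ← hn, hμ1]
  have hirr := hβ.mul_linear (μ ^ j)
  obtain ⟨β'', hβ''⟩ := exists_irr_deflation s.range hirr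
    (by rintro _ ⟨n, rfl⟩; simp [hβs, hμ1])
  have hone := eq_one_of_real_of_odd (G := Γ ⧸ s.range) ⟨j, hj⟩ β''.2 (fun q => by
    obtain ⟨γ, rfl⟩ := QuotientGroup.mk_surjective q
    rw [hβ'', ← Complex.conj_eq_iff_im, map_mul, ← (isIrrCharacter_linear (μ ^ j)).map_inv]
    conv_rhs => rw [← hββ]
    have h1 : (μ ^ j) γ⁻¹ = μ γ * (μ ^ j) γ := by
      rw [map_inv, MonoidHom.pow_apply, inv_eq_iff_mul_eq_one, ← hμt γ]
      rw [← pow_succ', ← pow_add]; congr 1; ring
    simp only [h1, Units.val_mul, mul_assoc])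
  have hβ1 : β 1 = 1 := by
    have := hβ'' 1
    rw [hone] at this
    simpa using this.symm
  have := hfac (s n)
  rwa [T.sec, hβs, hβ1, one_mul, T.apply_sec] at this

end

end Cfsg.Agent.Char
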