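import Cfsg.Agent.Char.SmallDeg
import Cfsg.Agent.Char.TwoDegrees

/-!
Isaacs 12.3 and 12.4: minimal non-abelian solvable quotients and character degrees.
-/

set_option linter.dupNamespace false
set_option linter.unusedSectionVars false
set_option linter.style.haveILetI false
open scoped ComplexConjugate commutatorElement
open Cfsg Subgroup

namespace Cfsg.Agent.Char
open Cfsg.Agent.Char

theorem affine_dichotomy {A G Y : Type*} [CommGroup A] [Finite A] [Group G] (L : Subgroup G)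
    (α : G → A → A) (act : A → Y → Y) (cj : G → Y → Y)
    (a1 : ∀ g a b, α g (a * b) = α g a * α g b)
    (a2 : ∀ g h a, α (g * h) a = α h (α g a)) (e3 : ∀ a, α 1 a = a)
    (c1 : ∀ y, cj 1 y = y) (c2 : ∀ g h y, cj (g * h) y = cj h (cj g y))
    (m1 : ∀ y, act 1 y = y) (m2 : ∀ a b y, act (a * b) y = act a (act b y))
    (hc : ∀ g a y, cj g (act a y) = act (α g a) (cj g y))
    (hf : ∀ g, g ∉ L → ∀ a, α g a = a → a = 1) (y : Y) (hL : ∀ g ∈ L, ∀ a, cj g (act a y) = act a y) :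
    (∃ a, ∀ g, cj g (act a y) = act a y → g ∈ L) ∨ ∀ a, act a y = y := by
  by_contra hcon
  push Not at hcon
  obtain ⟨h1, a0, h0⟩ := hcon
  have a3 : ∀ g a, α g a⁻¹ = (α g a)⁻¹ := fun g a => by
    have : α g 1 = 1 := by simpa using a1 g 1 1
    rw [eq_inv_iff_mul_eq_one, ← a1, inv_mul_cancel, this]
  have canc : ∀ a b c, act a y = act b y → act (c * a) y = act (c * b) y := fun a b c h => by
    rw [m2, m2, h]
  let W : G → Prop := fun g => ∃ b, cj g y = act b y
  have w1 : ∀ g a, cj g (act a y) = act a y → cj g y = act ((α g a)⁻¹ * a) y := fun g a h => by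
    rw [m2, ← h, hc, ← m2, inv_mul_cancel, m1]
  have w2 : ∀ g, W g → W g⁻¹ := by
    rintro g ⟨b, hb⟩
    refine ⟨(α g⁻¹ b)⁻¹, ?_⟩
    have := congrArg (cj g⁻¹) hb
    rw [← c2, mul_inv_cancel, c1, hc] at this
    conv_rhs => rw [this, ← m2, inv_mul_cancel, m1]
  have w3 : ∀ g h, W g → W h → W (g * h) := by
    rintro g h ⟨b, hb⟩ ⟨c, hc'⟩
    exact ⟨α h b * c, by rw [c2, hb, hc, hc', m2]⟩
  have w4 : ∀ g, W g → ∀ a b, act a y = act b y → act (α g a) y = act (α g b) y := by
    rintro g ⟨c, hc'⟩ a b h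
    have := congrArg (cj g) h
    rw [hc, hc, hc', ← m2, ← m2] at this
    simpa [mul_comm c⁻¹] using canc _ _ c⁻¹ this
  have a0' : ∀ g, α g 1 = 1 := fun g => by simpa using a1 g 1 1
  have a4 : ∀ g h a, α (g * h) a = α h (α g a) := a2
  have key : ∀ g, W g → g ∉ L → ∀ a, act (α g a) y = act a y → act a y = y := by
    intro g hg hgL a ha
    let S : Set A := {s | act s y = y}
    let δ : A → A := fun s => s⁻¹ * α g s
    have hinj : Function.Injective δ := fun s t h => by
      have : α g (s * t⁻¹) = s * t⁻¹ := by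
        rw [a1, a3]
        have h' : s⁻¹ * α g s = t⁻¹ * α g t := h
        calc α g s * (α g t)⁻¹ = s * (s⁻¹ * α g s) * (α g t)⁻¹ := by group
          _ = _ := by rw [h']; group
      exact mul_inv_eq_one.1 (hf g hgL _ this)
    have hmap : Set.MapsTo δ S S := fun s hs => by
      have h2 : act (α g s) y = act s y := by
        have := w4 g hg s 1 (by rw [m1]; exact hs)
        rw [this, a0', m1]
        exact hs.symm
      have := canc _ _ s⁻¹ h2
      rwa [inv_mul_cancel, m1] at this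
    have hs : δ a ∈ S := by
      have := canc _ _ a⁻¹ ha
      rwa [inv_mul_cancel, m1] at this
    obtain ⟨s, hs', e⟩ := ((Set.toFinite S).injOn_iff_bijOn_of_mapsTo hmap).1 hinj.injOn |>.surjOn hs
    exact hinj e ▸ hs'
  let X := Set.range fun a => act a y
  have : ∀ x : X, ∃ g, cj g x.1 = x.1 ∧ g ∉ L := by
    rintro ⟨_, a, rfl⟩
    exact h1 a
  choose γ hγ hγL using this
  have hW : ∀ x, W (γ x) := by
    rintro ⟨_, a, rfl⟩
    exact ⟨_, w1 _ a (hγ ⟨_, a, rfl⟩)⟩
  let F : X → X := fun x => ⟨_, α (γ x) a0, rfl⟩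
  have hF : Function.Injective F := by
    intro x x' e
    have e1 : act (α (γ x) a0) y = act (α (γ x') a0) y := congrArg Subtype.val e
    have e2 := w4 _ (w2 _ (hW x')) _ _ e1
    rw [← a4, ← a4, mul_inv_cancel] at e2
    rw [e3] at e2
    have hk : γ x * (γ x')⁻¹ ∈ L := by
      by_contra hk
      exact h0 (key _ (w3 _ _ (hW x) (w2 _ (hW x'))) hk a0 e2)
    obtain ⟨_, a, rfl⟩ := x
    obtain ⟨_, b, rfl⟩ := x'
    set h := γ ⟨_, b, rfl⟩
    have f1 : cj h (act a y) = act a y := by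
      have := hγ ⟨_, a, rfl⟩
      rw [← inv_mul_cancel_right (γ ⟨_, a, rfl⟩) h, c2, hL _ hk] at this
      exact this
    have f2 : cj h (act b y) = act b y := hγ ⟨_, b, rfl⟩
    have f3 := (w1 _ _ f1).symm.trans (w1 _ _ f2)
    have f4 := key h (hW _) (hγL _) (a⁻¹ * b) (by
      have := canc _ _ (α h b * a⁻¹) f3
      rw [a1, a3]
      convert this using 2
      · rw [mul_mul_mul_comm, mul_comm (α h b)]; simp
      · rw [mul_mul_mul_comm]; simp)
    have := canc _ _ a (f4.trans (m1 y).symm)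
    rw [mul_inv_cancel_left, mul_one] at this
    exact Subtype.ext this.symm
  obtain ⟨x, hx⟩ := Finite.surjective_of_injective hF ⟨y, 1, m1 y⟩
  have e1 : act (α (γ x) a0) y = act 1 y := (congrArg Subtype.val hx).trans (m1 y).symm
  have e2 := w4 _ (w2 _ (hW x)) _ _ e1
  rw [← a4, mul_inv_cancel, e3, a0', m1] at e2
  exact h0 e2

section Min
variable {G : Type*} [Group G] [Finite G]

theorem exists_prime_pow_eq_one (hab : ∃ a b : G, a * b ≠ b * a)
    (hmin : ∀ N : Subgroup G, N.Normal → N ≠ ⊥ → commutator G ≤ N)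
    (hc : ∀ x ∈ commutator G, ∀ y ∈ commutator G, x * y = y * x) :
    ∃ r : ℕ, r.Prime ∧ r ∣ Nat.card (commutator G) ∧ ∀ x ∈ commutator G, x ^ r = 1 := by
  have hne : Nat.card (commutator G) ≠ 1 := by
    obtain ⟨a, b, h⟩ := hab
    rw [Ne, card_eq_one]
    intro h0
    have : ⁅a, b⁆ ∈ commutator G := commutator_mem_commutator (mem_top _) (mem_top _)
    rw [h0, mem_bot] at this
    exact h (commutatorElement_eq_one_iff_mul_comm.1 this)
  obtain ⟨r, hr, hd⟩ := Nat.exists_prime_and_dvd hne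
  haveI := Fact.mk hr
  obtain ⟨x, hx⟩ := exists_prime_orderOf_dvd_card' r hd
  let E : Subgroup G :=
    { carrier := {y | y ∈ commutator G ∧ y ^ r = 1}
      mul_mem' := fun {a b} ha hb => ⟨mul_mem ha.1 hb.1, by
        rw [Commute.mul_pow (hc a ha.1 b hb.1), ha.2, hb.2, one_mul]⟩
      one_mem' := ⟨one_mem _, one_pow _⟩
      inv_mem' := fun {a} ha => ⟨inv_mem ha.1, by rw [inv_pow, ha.2, inv_one]⟩ }
  have hE : E.Normal := ⟨fun a ha g => ⟨(inferInstance : (commutator G).Normal).conj_mem a ha.1 g,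
    by rw [conj_pow, ha.2]; simp⟩⟩
  refine ⟨r, hr, hd, fun y hy => (hmin E hE (fun h => ?_) hy).2⟩
  have : x.1 ∈ E := ⟨x.2, by rw [← hx]; exact congrArg Subtype.val (pow_orderOf_eq_one x)⟩
  rw [h, mem_bot] at this
  rw [show x = 1 from Subtype.ext this, orderOf_one] at hx
  exact hr.one_lt.ne hx

theorem isPGroup_of_center_ne_bot (hmin : ∀ N : Subgroup G, N.Normal → N ≠ ⊥ → commutator G ≤ N)
    {r : ℕ} (hr : r.Prime) (hd : r ∣ Nat.card (commutator G)) (hZ : center G ≠ ⊥) :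
    IsPGroup r G := by
  haveI := Fact.mk hr
  haveI : Group.IsNilpotent G := by
    refine Subgroup.isNilpotent_of_ker_le_center (Abelianization.of (G := G)) ?_
    rw [Abelianization.ker_of]
    exact hmin _ inferInstance hZ
  rw [IsPGroup.iff_card]
  refine ⟨_, Nat.eq_prime_pow_of_unique_prime_dvd Nat.card_pos.ne' fun {q} hq hqd => ?_⟩
  haveI := Fact.mk hq
  obtain ⟨Q⟩ : Nonempty (Sylow q G) := inferInstance
  have h1 := hmin Q inferInstance (Q.ne_bot_of_dvd_card hqd)
  obtain ⟨k, hk⟩ := Q.isPGroup'.exists_card_eq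
  exact ((Nat.prime_dvd_prime_iff_eq hr hq).1
    (hr.dvd_of_dvd_pow (hk ▸ hd.trans (card_dvd_of_le h1)))).symm

theorem fpf_of_center_eq_bot (hab : ∃ a b : G, a * b ≠ b * a)
    (hmin : ∀ N : Subgroup G, N.Normal → N ≠ ⊥ → commutator G ≤ N)
    (hc : ∀ x ∈ commutator G, ∀ y ∈ commutator G, x * y = y * x) (hZ : center G = ⊥) :
    commutator G ≠ ⊤ ∧ ∀ g, g ∉ commutator G → ∀ x ∈ commutator G, g * x = x * g → x = 1 := by
  set N := commutator G
  set L := centralizer (N : Set G)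
  have hNL : N ≤ L := fun x hx y hy => hc y hy x hx
  have key : ∀ g, g ∉ L → ∀ x ∈ L, g * x = x * g → x = 1 := by
    intro g hg x hx h
    have hn : (L ⊓ centralizer {g}).Normal := ⟨fun x hx h => by
      have h1 := (inferInstance : L.Normal).conj_mem x hx.1 h
      refine mem_inf.2 ⟨h1, mem_centralizer_singleton_iff.2 ?_⟩
      have h2 : ⁅g, h⁆ ∈ N := commutator_mem_commutator (mem_top _) (mem_top _)
      have h3 := h1 _ h2
      have h4 := mem_centralizer_singleton_iff.1 (mem_inf.1 hx).2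
      rw [commutatorElement_def] at h3
      have h5 : g * x * g⁻¹ = x := by rw [← h4]; group
      symm
      calc g * (h * x * h⁻¹) = g * h * g⁻¹ * h⁻¹ * (h * (g * x * g⁻¹) * h⁻¹) *
            (g * h * g⁻¹ * h⁻¹)⁻¹ * g := by group
        _ = _ := by rw [h5, h3]; group⟩
    by_contra hne
    have := hmin _ hn fun hb => hne (mem_bot.1 (hb ▸ mem_inf.2
      ⟨hx, mem_centralizer_singleton_iff.2 h.symm⟩))
    exact hg fun y hy => mem_centralizer_singleton_iff.1 (mem_inf.1 (this hy)).2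
  have hLt : L ≠ ⊤ := fun h => by
    obtain ⟨a, b, hab⟩ := hab
    have h2 : ⁅a, b⁆ ∈ N := commutator_mem_commutator (mem_top _) (mem_top _)
    have : ⁅a, b⁆ ∈ center G := mem_center_iff.2 fun g => ((h.ge (mem_top g)) _ h2).symm
    rw [hZ, mem_bot] at this
    exact hab (commutatorElement_eq_one_iff_mul_comm.1 this)
  obtain ⟨g, hg⟩ : ∃ g, g ∉ L := by
    by_contra h
    push Not at h
    exact hLt (eq_top_iff.2 fun g _ => h g)
  have hLN : N = L := by
    refine eq_of_le_of_card_ge hNL (Nat.card_le_card_of_injective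
      (fun l : L => (⟨⁅g, l.1⁆, commutator_mem_commutator (mem_top _) (mem_top _)⟩ : N)) ?_)
    intro a b e
    have e1 : g * a * g⁻¹ * (a : G)⁻¹ = g * b * g⁻¹ * (b : G)⁻¹ := congrArg Subtype.val e
    refine Subtype.ext (inv_mul_eq_one.1 (key g hg _ (L.mul_mem (L.inv_mem b.2) a.2) ?_)).symm
    calc g * ((b : G)⁻¹ * a) = g * (b : G)⁻¹ * g⁻¹ * (g * a * g⁻¹ * (a : G)⁻¹) * a * g := by group
      _ = _ := by rw [e1]; group
  exact ⟨hLN ▸ hLt, fun g hg x hx => key g (hLN ▸ hg) x (hNL hx)⟩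

/-- a suitable minimal non-abelian quotient -/
theorem exists_min_quotient (h : ¬ commutator G ≤ ⁅commutator G, commutator G⁆) :
    ∃ K : Subgroup G, ∃ _ : K.Normal, (∃ a b : G ⧸ K, a * b ≠ b * a) ∧
      (∀ N : Subgroup (G ⧸ K), N.Normal → N ≠ ⊥ → commutator (G ⧸ K) ≤ N) ∧
      ∀ x ∈ commutator (G ⧸ K), ∀ y ∈ commutator (G ⧸ K), x * y = y * x := by
  obtain ⟨K, hK, hmax⟩ := (wellFounded_gt (α := Subgroup G)).has_min
    {K | K.Normal ∧ ⁅commutator G, commutator G⁆ ≤ K ∧ ¬ commutator G ≤ K}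
    ⟨_, inferInstance, le_rfl, h⟩
  obtain ⟨hKn, h1, h2⟩ := hK
  have hs := QuotientGroup.mk'_surjective K
  have hm : commutator (G ⧸ K) = (commutator G).map (QuotientGroup.mk' K) := by
    rw [map_commutator_eq, MonoidHom.range_eq_top.2 hs]; rfl
  refine ⟨K, hKn, ?_, fun N hN hb => ?_, ?_⟩
  · by_contra hc
    push Not at hc
    refine h2 (commutator_le.2 fun a _ b _ => (QuotientGroup.eq_one_iff _).1 ?_)
    change QuotientGroup.mk' K _ = 1
    rw [map_commutatorElement, commutatorElement_eq_one_iff_mul_comm]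
    exact hc _ _
  · have hle : K ≤ N.comap (QuotientGroup.mk' K) := fun k hk => by
      rw [mem_comap, QuotientGroup.mk'_apply, (QuotientGroup.eq_one_iff k).2 hk]
      exact N.one_mem
    rw [hm, map_le_iff_le_comap]
    by_contra hc
    refine hmax _ ⟨inferInstance, h1.trans hle, hc⟩ (lt_of_le_of_ne hle fun e => hb ?_)
    rw [eq_bot_iff]
    intro x hx
    obtain ⟨x, rfl⟩ := hs x
    exact (QuotientGroup.eq_one_iff x).2 (e.ge hx)
  · rw [hm]
    rintro _ ⟨x, hx, rfl⟩ _ ⟨y, hy, rfl⟩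
    rw [← commutatorElement_eq_one_iff_mul_comm, ← map_commutatorElement]
    exact (QuotientGroup.eq_one_iff _).2 (h1 (commutator_mem_commutator hx hy))

theorem exists_mul_degree_of_coprime (K : Subgroup G) [K.Normal] (β : IrrCharacter (G ⧸ K))
    (χ : IrrCharacter G) (h : (charDegree χ.1).Coprime K.index) :
    charDegree β.1 * charDegree χ.1 ∈ cdSet G := by
  letI := Fintype.ofFinite G
  have hs := QuotientGroup.mk'_surjective K
  have h1 := gallagher_isIrr χ.2.isCharacter (isIrr_restrict_of_coprime K χ.2 h)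
    (inflateIrr _ hs β).2 (fun n => by
      rw [inflateIrr_apply, inflateIrr_apply, map_one, QuotientGroup.mk'_apply,
        (QuotientGroup.eq_one_iff _).2 n.2])
  refine ⟨⟨_, h1⟩, charDegree_eq_of_one_eq ?_⟩
  rw [Nat.cast_mul, coe_charDegree_irr, coe_charDegree_irr]
  rfl

/-- Isaacs 12.3 and 12.4. -/
theorem degree_dichotomy (h : ¬ commutator G ≤ ⁅commutator G, commutator G⁆) :
    (∃ (p : ℕ) (K : Subgroup G) (_ : K.Normal), p.Prime ∧ IsPGroup p (G ⧸ K) ∧
      ∃ a b : G ⧸ K, a * b ≠ b * a) ∨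
    ∃ (r : ℕ) (L : Subgroup G) (_ : L.Normal), r.Prime ∧ commutator G ≤ L ∧ L.index ≠ 1 ∧
      L.index ∈ cdSet G ∧ ¬ r ∣ L.index ∧
      ∀ ψ : IrrCharacter L, L.index * charDegree ψ.1 ∈ cdSet G ∨ r ∣ charDegree ψ.1 := by
  classical
  obtain ⟨K, hK, hab, hmin, hc⟩ := exists_min_quotient h
  obtain ⟨r, hr, hd, hpow⟩ := exists_prime_pow_eq_one hab hmin hc
  by_cases hZ : center (G ⧸ K) = ⊥
  swap
  · exact Or.inl ⟨r, K, hK, hr, isPGroup_of_center_ne_bot hmin hr hd hZ, hab⟩
  right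
  letI := Fintype.ofFinite G
  obtain ⟨hne, hf⟩ := fpf_of_center_eq_bot hab hmin hc hZ
  set π := QuotientGroup.mk' K
  have hs : Function.Surjective π := QuotientGroup.mk'_surjective K
  set N := commutator (G ⧸ K)
  set L := N.comap π
  have hi : L.index = N.index := index_comap_of_surjective _ hs
  let ρ : L →* N := (π.comp L.subtype).codRestrict N fun x => x.2
  have hρ : Function.Surjective ρ := by
    rintro ⟨y, hy⟩
    obtain ⟨y, rfl⟩ := hs y
    exact ⟨⟨y, hy⟩, rfl⟩
  have hfix : ∀ g, g ∉ N → ∀ μ : N →* ℂˣ, μ.comp (MulAut.conjNormal g).toMonoidHom = μ → μ = 1 := by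
    intro g hg μ hμ
    have hinj : Function.Injective fun x : N => MulAut.conjNormal g x * x⁻¹ := by
      intro a b e
      have e1 : g * a * g⁻¹ * (a : G ⧸ K)⁻¹ = g * b * g⁻¹ * (b : G ⧸ K)⁻¹ := congrArg Subtype.val e
      refine Subtype.ext (inv_mul_eq_one.1 (hf g hg _ (N.mul_mem (N.inv_mem b.2) a.2) ?_)).symm
      calc g * ((b : G ⧸ K)⁻¹ * a) = g * (b : G ⧸ K)⁻¹ * g⁻¹ * (g * a * g⁻¹ * (a : G ⧸ K)⁻¹) * a * g := by
            group
        _ = _ := by rw [e1]; group
    ext y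
    obtain ⟨x, rfl⟩ := Finite.surjective_of_injective hinj y
    have : μ (MulAut.conjNormal g x) = μ x := DFunLike.congr_fun hμ x
    simp [this]
  have hmain : ∀ ψ : IrrCharacter L, L.index * charDegree ψ.1 ∈ cdSet G ∨
      ∀ μ : N →* ℂˣ, (fun x => ψ.1 x * μ (ρ x)) = ψ.1 := by
    intro ψ
    have : Finite (N →* ℂˣ) := Finite.of_injective
      (fun μ => (⟨_, isIrrCharacter_hom μ⟩ : IrrCharacter N))
      fun μ ν e => hom_coe_inj (congrArg Subtype.val e)
    rcases affine_dichotomy L (fun g (μ : N →* ℂˣ) => μ.comp (MulAut.conjNormal (π g)).toMonoidHom)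
      (fun μ (φ : L → ℂ) x => φ x * μ (ρ x)) (fun g φ => conjChar L φ g)
      (fun _ _ _ => rfl) (fun g h μ => by ext; simp) (fun μ => by ext; simp)
      (conjChar_one L) (fun g h φ => conjChar_mul L φ g h) (fun φ => by ext; simp)
      (fun a b φ => by ext; simp [mul_assoc, mul_comm, mul_left_comm])
      (fun g μ φ => by
        ext x
        rw [conjChar_apply, conjChar_apply]
        congr 3)
      (fun g hg μ => hfix _ hg μ) ψ.1
      (fun g hg μ => conjChar_of_mem (ψ.2.mul_linear (μ.comp ρ)).isClassFunction hg) with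
      ⟨μ, hμ⟩ | h1
    · have h2 := ψ.2.mul_linear (μ.comp ρ)
      refine Or.inl ⟨⟨_, (isIrr_indFun_iff_inertia_le L h2).2 hμ⟩, charDegree_eq_of_one_eq ?_⟩
      refine (indFun_one _ _).trans ?_
      rw [Nat.cast_mul, coe_charDegree_irr]
      simp
    · exact Or.inr h1
  have hsep : ∀ y : N, y ≠ 1 → ∃ μ : N →* ℂˣ, μ y ≠ 1 := fun y hy => by
    letI : CommGroup N := { (inferInstance : Group N) with
      mul_comm := fun a b => Subtype.ext (hc _ a.2 _ b.2) }
    exact CommGroup.exists_apply_ne_one_of_hasEnoughRootsOfUnity N ℂ hy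
  have hvan : ∀ ψ : IrrCharacter L, (∀ μ : N →* ℂˣ, (fun x => ψ.1 x * μ (ρ x)) = ψ.1) →
      r ∣ charDegree ψ.1 := by
    intro ψ h1
    refine hr.dvd_of_dvd_pow (hd.trans (Dvd.dvd.trans ?_
      (index_dvd_sq_of_vanish ρ.ker ψ.2 fun x hx => ?_)))
    · rw [index_ker, MonoidHom.range_eq_top.2 hρ, card_top]
    · obtain ⟨μ, hμ⟩ := hsep _ hx
      by_contra h0
      exact hμ (Units.val_eq_one.1 ((mul_eq_left₀ h0).1 (congrFun (h1 μ) x)))
  refine ⟨r, L, inferInstance, hr, ?_, ?_, ?_, ?_, fun ψ => (hmain ψ).imp_right (hvan ψ)⟩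
  · rw [← map_le_iff_le_comap, map_commutator_eq]
    exact commutator_mono le_top le_top
  · rwa [hi, Ne, index_eq_one]
  · have := (hmain (irrOne L)).resolve_right fun h1 => hr.one_lt.ne' (Nat.dvd_one.1
      (charDegree_irrOne (G := L) ▸ hvan _ h1))
    rwa [charDegree_irrOne, mul_one] at this
  · rw [hi]
    intro hrd
    haveI := Fact.mk hr
    obtain ⟨P⟩ : Nonempty (Sylow r (G ⧸ K)) := inferInstance
    have hlt : ¬ (P : Subgroup (G ⧸ K)) ≤ N := fun h1 =>
      P.not_dvd_index (hrd.trans (index_dvd_of_le h1))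
    obtain ⟨g, hgP, hgN⟩ := SetLike.not_le_iff_exists.1 hlt
    letI : MulAction (P : Subgroup (G ⧸ K)) N :=
      MulAction.compHom N ((MulAut.conjNormal (H := N)).comp (P : Subgroup (G ⧸ K)).subtype)
    obtain ⟨b, hb, hb1⟩ := P.isPGroup'.exists_fixed_point_of_prime_dvd_card_of_fixed_point N hd
      (a := 1) fun x => map_one (MulAut.conjNormal (H := N) x.1)
    have : g * b * g⁻¹ = b := congrArg Subtype.val (hb ⟨g, hgP⟩)
    exact hb1 (Subtype.ext (hf g hgN b b.2 (mul_inv_eq_iff_eq_mul.1 this)).symm)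

end Min

end Cfsg.Agent.Char
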