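import Mathlib
import Cfsg.Prelude.Def_DegreeGraph
import Cfsg.Agent.Char.MinNonab
import Cfsg.Agent.Char.GoingDown
import Cfsg.Agent.Char.PPrimeDeg
import Cfsg.Agent.Char.TwoDegrees
import Cfsg.Agent.Grp.MinNormal

/-! Relative degree sets `cd(G|N)` (Isaacs-Knutson). -/

set_option autoImplicit false
set_option linter.unusedSectionVars false
set_option linter.style.haveILetI false

open Cfsg Cfsg.Agent.Char Subgroup
open scoped commutatorElement

namespace Cfsg.Agent.Char

universe u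

/-- Abelian-by-nilpotent groups are M-groups. -/
theorem exists_monomial_of_ker_comm {G : Type u} [Group G] [Fintype G] {Q : Type*} [Group Q]
    [Group.IsNilpotent Q] (f : G →* Q) (hf : ∀ a ∈ f.ker, ∀ b ∈ f.ker, a * b = b * a)
    {χ : G → ℂ} (hχ : IsIrrCharacter G χ) :
    ∃ (H : Subgroup G) (lam : H →* ℂˣ), χ = indFun H (fun h => (lam h : ℂ)) := by
  classical
  induction hn : Nat.card G using Nat.strong_induction_on generalizing G with
  | _ n ih =>
    by_cases h : ∃ (θ : f.ker → ℂ) (e : ℕ), IsIrrCharacter f.ker θ ∧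
        (fun n : f.ker => χ n) = (e : ℂ) • θ
    · obtain ⟨θ, e, hθ, he⟩ := h
      obtain ⟨μ, rfl⟩ := exists_hom_of_isCharacter_one hθ.isCharacter
        (hθ.one_eq_one_of_comm fun a b => Subtype.ext (hf _ a.2 _ b.2))
      lift χ to IrrCharacter G using hχ
      obtain ⟨ψ, h1, h2⟩ := exists_faithful_deflation χ
      have hZ : ∀ x ∈ f.ker, ((x : G ⧸ charKer χ.1) : (G ⧸ charKer χ.1) ⧸ center _) = 1 := by
        intro x hx
        rw [QuotientGroup.eq_one_iff]
        refine mem_center_of_norm_eq ψ.2.isCharacter h2 ?_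
        have e1 := congrFun he ⟨x, hx⟩
        have e2 := congrFun he 1
        simp only [Pi.smul_apply, smul_eq_mul, map_one, Units.val_one, mul_one,
          OneMemClass.coe_one] at e1 e2
        rw [h1, ← QuotientGroup.mk_one, h1]
        rw [e1, e2, norm_mul, norm_eq_one_of_pow_eq_one (z := μ ⟨x, hx⟩) (n := Nat.card f.ker)
          Nat.card_pos.ne'
          (by rw [← Units.val_pow_eq_pow_val, ← map_pow, pow_card_eq_one', map_one, Units.val_one]),
          mul_one]
      have : Group.IsNilpotent (G ⧸ f.ker) :=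
        Group.nilpotent_of_mulEquiv (QuotientGroup.quotientKerEquivRange f).symm
      have : Group.IsNilpotent (G ⧸ charKer χ.1) := Group.of_quotient_center_nilpotent
        (Group.nilpotent_of_surjective (QuotientGroup.lift f.ker
          ((QuotientGroup.mk' _).comp (QuotientGroup.mk' (charKer χ.1))) hZ) fun y => by
            obtain ⟨y, rfl⟩ := QuotientGroup.mk_surjective y
            obtain ⟨y, rfl⟩ := QuotientGroup.mk_surjective y
            exact ⟨y, rfl⟩)
      letI := Fintype.ofFinite (G ⧸ charKer χ.1)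
      obtain ⟨H, lam, hH⟩ := exists_monomial_of_isNilpotent ψ.2
      refine ⟨H.comap (QuotientGroup.mk' _), lam.comp ((QuotientGroup.mk' _).subgroupComap H), ?_⟩
      refine Eq.trans ?_ (indFun_comap_surjective (QuotientGroup.mk' _)
        (QuotientGroup.mk'_surjective _) H fun h => (lam h : ℂ)).symm
      rw [← hH]
      exact funext fun g => (h1 g).symm
    · obtain ⟨T, ψ, hT, -, hψ, rfl⟩ := exists_indFun_eq_of_not_homogeneous f.ker hχ h
      have hlt : Nat.card T < n := by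
        rw [← hn, ← T.card_mul_index]
        exact lt_mul_of_one_lt_right Nat.card_pos (one_lt_index_of_ne_top hT)
      obtain ⟨H, lam, rfl⟩ := ih _ hlt (f.comp T.subtype)
        (fun a ha b hb => Subtype.ext (hf _ ha _ hb)) hψ rfl
      obtain ⟨lam', h⟩ := exists_linear_indFun_indFun T H lam
      exact ⟨_, lam', h⟩

variable {G : Type*} [Group G] [Finite G]

/-- Taketa's step. -/
theorem commutator_le_charKer_of_monomial [Fintype G] (N : Subgroup G) [hN : N.Normal]
    (χ : IrrCharacter G) {H : Subgroup G} {lam : H →* ℂˣ}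
    (hχ : χ.1 = indFun H (fun h => (lam h : ℂ)))
    (h : ∀ ψ : IrrCharacter G, charDegree ψ.1 < charDegree χ.1 → N ≤ charKer ψ.1) :
    ⁅N, N⁆ ≤ charKer χ.1 := by
  classical
  intro g hg
  have hidx : charDegree (χ : G → ℂ) = H.index := charDegree_eq_of_one_eq (by
    rw [hχ, indFun_one]; simp)
  have hD : N ≤ H := by
    intro x hx
    have hφ := isCharacter_permChar_sub_one (G := G) (G ⧸ H)
    have hpos : 0 < H.index := Nat.pos_of_ne_zero index_ne_zero_of_finite
    have h1 : (permChar G (G ⧸ H) - fun _ => 1 : G → ℂ) x =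
        (permChar G (G ⧸ H) - fun _ => 1 : G → ℂ) 1 := by
      rw [hφ.isClassFunction.apply_eq_sum_irr, hφ.isClassFunction.apply_eq_sum_irr]
      refine Finset.sum_congr rfl fun ψ _ => ?_
      by_cases h0 : classInner (permChar G (G ⧸ H) - fun _ => 1) ψ = 0
      · rw [h0, zero_mul, zero_mul]
      have h2 := hφ.one_le_of_inner_ne_zero ψ.2 h0
      rw [← coe_charDegree_irr, Pi.sub_apply, permChar_one, ← index_eq_card] at h2
      have h3 : charDegree (ψ : G → ℂ) < charDegree (χ : G → ℂ) := by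
        rw [hidx]
        have : (charDegree (ψ : G → ℂ) : ℝ) ≤ H.index - 1 := by simpa using h2
        have : (charDegree (ψ : G → ℂ) : ℝ) < H.index := by linarith
        exact_mod_cast this
      rw [(mem_charKer_irr ψ).mp (h ψ h3 hx)]
    rw [Pi.sub_apply, Pi.sub_apply, sub_left_inj, permChar_one, permChar_apply,
      Nat.cast_inj] at h1
    have h2 : MulAction.fixedBy (G ⧸ H) x = Set.univ := (Set.eq_univ_iff_ncard _).mpr h1
    have h3 : ((1 : G) : G ⧸ H) ∈ MulAction.fixedBy (G ⧸ H) x := h2 ▸ Set.mem_univ _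
    rw [MulAction.mem_fixedBy, MulAction.Quotient.smul_mk, QuotientGroup.eq] at h3
    simpa using h3
  have hD' : ⁅N, N⁆ ≤ lam.ker.map H.subtype := by
    rw [Subgroup.commutator_le]
    intro a ha b hb
    refine ⟨(⟨a, hD ha⟩ : H) * ⟨b, hD hb⟩ * (⟨a, hD ha⟩ : H)⁻¹ * (⟨b, hD hb⟩ : H)⁻¹, ?_, rfl⟩
    rw [SetLike.mem_coe, MonoidHom.mem_ker, map_mul, map_mul, map_mul, map_inv, map_inv,
      mul_inv_cancel_comm, mul_inv_cancel]
  have hval : ∀ y ∈ ⁅N, N⁆, extendByZero H (fun h => (lam h : ℂ)) y = 1 := by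
    intro y hy
    obtain ⟨z, hz, rfl⟩ := hD' hy
    rw [Subgroup.coe_subtype, extendByZero_coe, MonoidHom.mem_ker.mp hz, Units.val_one]
  rw [mem_charKer_irr, hχ, indFun_apply', indFun_apply']
  congr 1
  refine Finset.sum_congr rfl fun x _ => ?_
  rw [hval _ ((inferInstance : (⁅N, N⁆).Normal).conj_mem g hg x),
    hval _ ((inferInstance : (⁅N, N⁆).Normal).conj_mem 1 (Subgroup.one_mem _) x)]

/-- A normal subgroup in the kernel of a constituent of a restriction is in the kernel. -/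
theorem le_charKer_of_over (N : Subgroup G) [N.Normal] {X : Subgroup G} [Fintype X] (hX : N ≤ X)
    {χ : G → ℂ} (hχ : IsIrrCharacter G χ) {η : X → ℂ} (hη : IsIrrCharacter X η)
    (h : classInner (fun x : X => χ x) η ≠ 0) (hk : N.subgroupOf X ≤ charKer η) :
    N ≤ charKer χ := by
  classical
  letI := Fintype.ofFinite G
  intro x hx
  rw [mem_charKer_iff hχ.isCharacter]
  refine restrict_eq_const_of_inner_one_ne_zero N hχ ?_ ⟨x, hx⟩
  refine inner_comp_ne_zero_of_sub (inclusion hX) hη.isCharacter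
    ((hχ.isCharacter.restrict X).sub_irr hη h) isCharacter_one ?_
  have : (fun n : N => η (inclusion hX n)) = η 1 • fun _ => 1 := funext fun n => by
    rw [(mem_charKer_iff hη.isCharacter).1 (hk (by exact n.2))]; simp
  rw [this, classInner_smul_left, isIrrCharacter_one.inner_self, mul_one]
  exact hη.one_ne_zero

theorem le_charKer_restrict (N : Subgroup G) {X : Subgroup G} [Fintype X]
    {χ : G → ℂ} (hχ : IsCharacter G χ) {η : X → ℂ} (hη : IsIrrCharacter X η)
    (h : classInner (fun x : X => χ x) η ≠ 0) (hk : N ≤ charKer χ) :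
    N.subgroupOf X ≤ charKer η := fun _ hx => (mem_charKer_iff hη.isCharacter).2
  (apply_eq_of_inner_ne_zero (hχ.restrict X) hη h ((mem_charKer_iff hχ).1 (hk hx)))

/-- Some constituent of a character of degree not divisible by `d` has degree not divisible
by `d`. -/
theorem exists_constituent_not_dvd [Fintype G] {χ : G → ℂ} (hχ : IsCharacter G χ) {d : ℕ}
    (h : ¬ d ∣ charDegree χ) :
    ∃ ψ : IrrCharacter G, classInner χ ψ.1 ≠ 0 ∧ ¬ d ∣ charDegree ψ.1 := by
  classical
  by_contra hc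
  push Not at hc
  refine h ?_
  choose m hm using fun ψ : IrrCharacter G => hχ.exists_nat_inner ψ.2.isCharacter
  have : charDegree χ = ∑ ψ : IrrCharacter G, m ψ * charDegree ψ.1 :=
    charDegree_eq_of_one_eq (by
      rw [hχ.isClassFunction.apply_eq_sum_irr]
      push_cast
      exact Finset.sum_congr rfl fun ψ _ => by rw [hm, coe_charDegree_irr])
  rw [this]
  refine Finset.dvd_sum fun ψ _ => ?_
  by_cases h0 : m ψ = 0
  · simp [h0]
  · exact (hc ψ (by rw [hm]; exact_mod_cast h0)).mul_left _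

/-- Isaacs-Knutson 3.1. -/
theorem commutator_le_charKer_of_min {p : ℕ} [hp : Fact p.Prime] (N A : Subgroup G) [N.Normal]
    [A.Normal] (hA : ∀ a ∈ A, ∀ b ∈ A, a * b = b * a)
    (hN : IsPGroup p (N.map (QuotientGroup.mk' A))) (χ : IrrCharacter G)
    (hmin : ∀ ψ : IrrCharacter G, ¬ N ≤ charKer ψ.1 → ∀ k, p ^ k ∣ charDegree χ.1 →
      p ^ k ∣ charDegree ψ.1) : ⁅N, N⁆ ≤ charKer χ.1 := by
  classical
  letI := Fintype.ofFinite G
  obtain ⟨S, hS⟩ := hN.exists_le_sylow
  let X := (S : Subgroup (G ⧸ A)).comap (QuotientGroup.mk' A)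
  have hX : N ≤ X := map_le_iff_le_comap.1 hS
  have hi : ¬ p ∣ X.index := by
    rw [index_comap_of_surjective _ (QuotientGroup.mk'_surjective A)]
    exact S.not_dvd_index
  let f : X →* (S : Subgroup (G ⧸ A)) := (QuotientGroup.mk' A).subgroupComap S
  have hf : ∀ a ∈ f.ker, ∀ b ∈ f.ker, a * b = b * a := fun a ha b hb => Subtype.ext (hA _
    ((QuotientGroup.eq_one_iff _).1 (congrArg Subtype.val ha)) _
    ((QuotientGroup.eq_one_iff _).1 (congrArg Subtype.val hb)))
  have hdeg : ∀ η : IrrCharacter X, ∃ k, charDegree η.1 = p ^ k := by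
    intro η
    obtain ⟨k, hk⟩ := S.2.exists_card_eq
    have := η.2.deg_dvd_index_of_comm (coe_charDegree_irr η).symm f.ker hf
    rw [index_ker] at this
    obtain ⟨j, -, hj⟩ := (Nat.dvd_prime_pow hp.out).1
      (hk ▸ this.trans (card_subgroup_dvd_card _))
    exact ⟨j, hj⟩
  have := S.2.isNilpotent
  have key : ∀ a b : ℕ, ¬ p ∣ b → ¬ p ^ (a + 1) ∣ p ^ a * b := fun a b hb h =>
    hb (Nat.dvd_of_mul_dvd_mul_left (pow_pos hp.out.pos a) (pow_succ p a ▸ h))
  obtain ⟨a, b, hb, hab⟩ := Nat.exists_eq_pow_mul_and_not_dvd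
    (charDegree_irr_pos χ).ne' p hp.out.ne_one
  obtain ⟨η, h1, h2⟩ := exists_constituent_not_dvd (χ.2.isCharacter.restrict X)
    (d := p ^ (a + 1)) (hab ▸ key a b hb : ¬ p ^ (a + 1) ∣ charDegree χ.1)
  obtain ⟨H, lam, hH⟩ := exists_monomial_of_ker_comm f hf η.2
  refine le_charKer_of_over _ ((commutator_le_left N N).trans hX) χ.2 η.2 h1 (le_trans ?_
    (commutator_le_charKer_of_monomial (N.subgroupOf X) η hH fun ξ hξ => ?_))
  · intro x hx
    have : (x : G) ∈ (⁅N.subgroupOf X, N.subgroupOf X⁆).map X.subtype := by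
      rwa [map_commutator, subgroupOf_map_subtype, inf_eq_left.2 hX]
    obtain ⟨y, hy, e⟩ := this
    exact (Subtype.ext e : y = x) ▸ hy
  obtain ⟨c, hc⟩ := hdeg η
  obtain ⟨d, hd⟩ := hdeg ξ
  obtain ⟨ψ, h3, h4⟩ := exists_constituent_not_dvd (isCharacter_indFun X ξ.2.isCharacter)
    (d := p ^ (d + 1))
    (by
      rw [charDegree_eq_of_one_eq (n := p ^ d * X.index) (by
        rw [indFun_one, ← coe_charDegree_irr, hd]; push_cast; ring)]
      exact key _ _ hi)
  rw [classInner_indFun_eq_restrict X ξ.2.isGen ψ.2.isGen] at h3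
  refine le_charKer_restrict N ψ.2.isCharacter ξ.2 h3 (by_contra fun h5 => h4 (hmin ψ h5 _ ?_))
  rw [hc, hd, Nat.pow_lt_pow_iff_right hp.out.one_lt] at hξ
  rw [hc, Nat.pow_dvd_pow_iff_le_right hp.out.one_lt] at h2
  exact hab ▸ (pow_dvd_pow p (by omega)).mul_right b

theorem card_linear_irr : (Finset.univ.filter fun χ : IrrCharacter G => charDegree χ.1 = 1).card =
    Nat.card (G →* ℂˣ) := by
  rw [← Nat.card_eq_finsetCard]
  symm
  refine Nat.card_eq_of_bijective (fun μ => ⟨⟨_, isIrrCharacter_hom μ⟩, ?_⟩) ⟨?_, ?_⟩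
  · simp only [Finset.mem_filter, Finset.mem_univ, true_and]
    exact charDegree_eq_of_one_eq (n := 1) (by simp)
  · intro μ ν e
    exact hom_coe_inj (congrArg (fun x => x.1.1) e)
  · rintro ⟨χ, hχ⟩
    obtain ⟨μ, hμ⟩ := χ.2.isCharacter.exists_linear ((charDegree_eq_one_iff
      χ.2.isCharacter).mp (Finset.mem_filter.1 hχ).2)
    exact ⟨μ, Subtype.ext (Subtype.ext hμ.symm)⟩

theorem exists_invBy_nonlinear {K P : Subgroup G} {p : ℕ} [hp : Fact p.Prime]
    (hP : IsPGroup p P) (hPK : P ≤ normalizer (K : Set G)) (hK : pResidual p K = ⊤)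
    (hd : p ∣ Nat.card K) :
    ∃ θ : IrrCharacter K, charDegree θ.1 ≠ 1 ∧ InvBy P θ.1 ∧ ¬ p ∣ charDegree θ.1 := by
  classical
  letI : MulAction P (IrrCharacter K) := MulAction.compHom _ (inclusion hPK)
  have h1 := sum_eq_sum_fixed_zmod hP (fun θ : IrrCharacter K =>
    ((charDegree θ.1 ^ 2 : ℕ) : ZMod p) - if charDegree θ.1 = 1 then 1 else 0)
    (fun a θ => by
      have e2 : charDegree (a • θ : IrrCharacter K).1 = _ :=
        charDegree_congr_one (irr_smul_one (inclusion hPK a) θ)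
      simp only [e2])
  rw [Finset.sum_sub_distrib, ← Nat.cast_sum, sum_charDegree_sq,
    (ZMod.natCast_eq_zero_iff _ _).2 hd, Finset.sum_boole, card_linear_irr, zero_sub] at h1
  have : Finite (K →* ℂˣ) := Finite.of_injective
    (fun μ => (⟨_, isIrrCharacter_hom μ⟩ : IrrCharacter K))
    fun μ ν e => hom_coe_inj (congrArg Subtype.val e)
  have h2 : (Nat.card (K →* ℂˣ) : ZMod p) ≠ 0 := by
    rw [Ne, ZMod.natCast_eq_zero_iff]
    intro h
    obtain ⟨μ, hμ⟩ := exists_prime_orderOf_dvd_card' p h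
    exact not_dvd_orderOf_hom_of_pResidual_eq_top hK μ (hμ ▸ dvd_rfl)
  obtain ⟨θ, h3, h4⟩ := Finset.exists_ne_zero_of_sum_ne_zero (h1 ▸ neg_ne_zero.2 h2)
  have h5 : charDegree θ.1 ≠ 1 := fun e => h4 (by simp [e])
  rw [if_neg h5, sub_zero, Ne, ZMod.natCast_eq_zero_iff] at h4
  exact ⟨θ, h5, (invBy_iff_smul hPK θ).2 (Finset.mem_filter.1 h3).2,
    fun h => h4 (h.trans (dvd_pow_self _ two_ne_zero))⟩

theorem charDegree_eq_one_of_commutator_le (N : Subgroup G) [Fintype N] {χ : G → ℂ}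
    (hχ : IsCharacter G χ) (θ : IrrCharacter N) (h : classInner (fun x : N => χ x) θ.1 ≠ 0)
    (hk : ⁅N, N⁆ ≤ charKer χ) : charDegree θ.1 = 1 := by
  refine charDegree_eq_of_one_eq (n := 1) ?_
  rw [Nat.cast_one]
  refine one_eq_one_of_commutator_le θ.2 (le_trans ?_ (le_charKer_restrict _ hχ θ.2 h hk))
  rw [subgroupOf, ← map_le_iff_le_comap, map_subtype_commutator]

/-- Relative Thompson theorem (Berkovich). -/
theorem hasNormalPComplement_of_rel {p : ℕ} [hp : Fact p.Prime] (N : Subgroup G) [N.Normal]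
    (h : ∀ χ : IrrCharacter G, ¬ ⁅N, N⁆ ≤ charKer χ.1 → p ∣ charDegree χ.1) :
    HasNormalPComplement p N := by
  classical
  letI := Fintype.ofFinite G
  rw [Transfer.hasNormalPComplement_iff_coprime, Nat.coprime_comm, hp.out.coprime_iff_not_dvd]
  intro hd
  obtain ⟨P⟩ : Nonempty (Sylow p G) := inferInstance
  let K := (pResidual p N).map N.subtype
  have e := (pResidual p N).equivMapOfInjective N.subtype N.subtype_injective
  have hK : pResidual p K = ⊤ := by
    rw [← Transfer.map_pResidual_of_surjective e.toMonoidHom e.surjective,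
      Transfer.pResidual_pResidual, map_top_of_surjective _ e.surjective]
  have hPK : (P : Subgroup G) ≤ normalizer (K : Set G) := by
    rw [normalizer_eq_top]; exact le_top
  obtain ⟨θ, h1, h2, h3⟩ := exists_invBy_nonlinear P.isPGroup' hPK hK
    (Nat.card_congr e.toEquiv ▸ hd)
  obtain ⟨χ, h5, h6⟩ := exists_over_not_dvd_of_invBy (le_top : K ≤ ⊤) le_top P.isPGroup' hPK
    (by rw [relIndex_top_right]; exact P.not_dvd_index) θ h2 h3 (by
      rw [detOrder_eq_orderOf]
      exact not_dvd_orderOf_hom_of_pResidual_eq_top hK _)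
  obtain ⟨χ, rfl⟩ := exists_topIrr_eq χ
  rw [charDegree_topIrr] at h6
  refine h6 (h χ fun h7 => h1 (charDegree_eq_one_of_commutator_le K χ.2.isCharacter θ ?_
    ((commutator_mono (map_subtype_le _) (map_subtype_le _)).trans h7)))
  rw [← coe_nmult_topIrr]
  exact_mod_cast h5

/-- The normal `p`-complement of a normal subgroup, as a subgroup of the ambient group. -/
theorem exists_normal_compl {p : ℕ} [hp : Fact p.Prime] (N : Subgroup G) [N.Normal]
    (h : HasNormalPComplement p N) : ∃ (M : Subgroup G) (_ : M.Normal), M ≤ N ∧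
      ¬ p ∣ Nat.card M ∧ IsPGroup p (N.map (QuotientGroup.mk' M)) := by
  have e := (pResidual p N).equivMapOfInjective N.subtype N.subtype_injective
  refine ⟨(pResidual p N).map N.subtype, inferInstance, map_subtype_le _, ?_, ?_⟩
  · rw [← Nat.card_congr e.toEquiv, ← hp.out.coprime_iff_not_dvd, Nat.coprime_comm]
    exact Transfer.hasNormalPComplement_iff_coprime.1 h
  · rintro ⟨_, x, hx, rfl⟩
    obtain ⟨k, hk⟩ := Transfer.isPGroup_quotient_pResidual (p := p) (G := N)
      ((⟨x, hx⟩ : N) : N ⧸ pResidual p N)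
    rw [← QuotientGroup.mk_pow, QuotientGroup.eq_one_iff] at hk
    refine ⟨k, Subtype.ext ?_⟩
    exact (QuotientGroup.eq_one_iff (x ^ p ^ k)).2 ⟨_, hk, rfl⟩

theorem comm_iff_commutator_le {N : Subgroup G} : (∀ a ∈ N, ∀ b ∈ N, a * b = b * a) ↔
    ∀ χ : IrrCharacter G, ⁅N, N⁆ ≤ charKer χ.1 := by
  constructor
  · intro h χ
    rw [commutator_le]
    intro a ha b hb
    rw [commutatorElement_eq_one_iff_mul_comm.2 (h a ha b hb)]
    exact one_mem _
  · intro h a ha b hb
    exact commutatorElement_eq_one_iff_mul_comm.1 (eq_one_of_forall_irr fun χ =>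
      (mem_charKer_irr χ).1 (h χ (commutator_mem_commutator ha hb)))

/-- Isaacs-Knutson: if `|cd(G|N)| ≤ 1` then `N` is abelian. -/
theorem comm_of_rel_one {n : ℕ} (N : Subgroup G) [N.Normal]
    (h : ∀ χ : IrrCharacter G, ¬ N ≤ charKer χ.1 → charDegree χ.1 = n) :
    ∀ a ∈ N, ∀ b ∈ N, a * b = b * a := by
  classical
  letI := Fintype.ofFinite G
  induction hk : Nat.card N using Nat.strong_induction_on generalizing N with
  | _ k ih =>
    by_contra hab
    obtain ⟨θ, hθ⟩ := exists_charDegree_ne_one (G := N) (by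
      by_contra hc
      push Not at hc
      exact hab fun a ha b hb => congrArg Subtype.val (hc ⟨a, ha⟩ ⟨b, hb⟩))
    obtain ⟨p, hp, hpd⟩ := Nat.exists_prime_and_dvd hθ
    have := Fact.mk hp
    obtain ⟨χ, hχ, h0⟩ := exists_irr_over N θ.2
    obtain ⟨e, -, -, he⟩ := exists_charDegree_eq_of_over N hχ θ.2 h0
    have hn : p ∣ n := by
      rw [← h ⟨χ, hχ⟩ fun h1 => hθ (charDegree_eq_one_of_commutator_le N hχ.isCharacter θ h0
        ((commutator_le_left N N).trans h1))]
      exact he ▸ hpd.mul_left _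
    obtain ⟨M, _, hM, h1, h2⟩ := exists_normal_compl N (hasNormalPComplement_of_rel (p := p) N
      fun ψ hψ => h ψ (fun h1 => hψ ((commutator_le_left N N).trans h1)) ▸ hn)
    have hlt : Nat.card M < k := hk ▸ Grp.card_lt_of_lt (lt_of_le_of_ne hM fun e =>
      h1 (e ▸ hpd.trans (charDegree_irr_dvd_card θ)))
    have h3 := ih _ hlt M (fun ψ hψ => h ψ fun h1 => hψ (hM.trans h1)) rfl
    refine hab (comm_iff_commutator_le.2 fun ψ => ?_)
    by_cases h4 : N ≤ charKer ψ.1
    · exact (commutator_le_left N N).trans h4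
    · exact commutator_le_charKer_of_min N M h3 h2 ψ fun ξ hξ k hk => by rwa [h ξ hξ, ← h ψ h4]

theorem le_charKer_inflateIrr {Q : Type*} [Group Q] [Finite Q] (f : G →* Q)
    (hf : Function.Surjective f) (ψ : IrrCharacter Q) (N : Subgroup G) :
    N ≤ charKer (inflateIrr f hf ψ).1 ↔ N.map f ≤ charKer ψ.1 := by
  rw [map_le_iff_le_comap]
  refine forall₂_congr fun x _ => ?_
  rw [mem_comap, mem_charKer_irr, mem_charKer_irr, inflateIrr_apply, inflateIrr_apply, map_one]

theorem commutator_le_of_rel_one {n : ℕ} (K N : Subgroup G) [K.Normal] [N.Normal]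
    (h : ∀ χ : IrrCharacter G, K ≤ charKer χ.1 → ¬ N ≤ charKer χ.1 → charDegree χ.1 = n) :
    ⁅N, N⁆ ≤ K := by
  have hs := QuotientGroup.mk'_surjective K
  have := Normal.map ‹N.Normal› _ hs
  have := comm_of_rel_one (n := n) (N.map (QuotientGroup.mk' K)) fun ψ hψ => by
    rw [← charDegree_inflateIrr _ hs]
    refine h _ ?_ (by rwa [le_charKer_inflateIrr])
    rw [le_charKer_inflateIrr, QuotientGroup.map_mk'_self]
    exact bot_le
  rw [commutator_le]
  intro a ha b hb
  rw [← QuotientGroup.eq_one_iff, ← QuotientGroup.mk'_apply, map_commutatorElement]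
  exact commutatorElement_eq_one_iff_mul_comm.2 (this _ ⟨a, ha, rfl⟩ _ ⟨b, hb, rfl⟩)

theorem pow_dvd_total {p : ℕ} (hp : p.Prime) (m n : ℕ) :
    (∀ k, p ^ k ∣ m → p ^ k ∣ n) ∨ ∀ k, p ^ k ∣ n → p ^ k ∣ m := by
  by_contra h
  push Not at h
  obtain ⟨⟨k, h1, h2⟩, l, h3, h4⟩ := h
  rcases le_total k l with h | h
  · exact h2 ((pow_dvd_pow p h).trans h3)
  · exact h4 ((pow_dvd_pow p h).trans h1)

theorem comm_commutator_of_rel_two {p m n : ℕ} [hp : Fact p.Prime] (N A : Subgroup G) [N.Normal]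
    [A.Normal] (hA : ∀ a ∈ A, ∀ b ∈ A, a * b = b * a)
    (hN : IsPGroup p (N.map (QuotientGroup.mk' A)))
    (h : ∀ χ : IrrCharacter G, ¬ N ≤ charKer χ.1 → charDegree χ.1 = m ∨ charDegree χ.1 = n) :
    ∀ a ∈ ⁅N, N⁆, ∀ b ∈ ⁅N, N⁆, a * b = b * a := by
  wlog hmn : ∀ k, p ^ k ∣ m → p ^ k ∣ n generalizing m n
  · exact this (fun χ hχ => (h χ hχ).symm) ((pow_dvd_total hp.out m n).resolve_left hmn)
  refine comm_of_rel_one (n := n) _ fun χ hχ => (h χ fun h1 =>
    hχ ((commutator_le_left N N).trans h1)).resolve_left fun e => hχ ?_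
  refine commutator_le_charKer_of_min N A hA hN χ fun ψ hψ k hk => ?_
  rcases h ψ hψ with h1 | h1
  · rwa [h1, ← e]
  · exact h1 ▸ hmn k (e ▸ hk)

theorem over_data [Fintype G] (N : Subgroup G) [N.Normal] [Fintype N] (χ : IrrCharacter G)
    (θ : IrrCharacter N) (h : classInner (fun x : N => χ.1 x) θ.1 ≠ 0) :
    (∃ e, charDegree χ.1 = e * charDegree θ.1 ∧ e ∣ N.index) ∧
      (charDegree θ.1 = 1 ↔ ⁅N, N⁆ ≤ charKer χ.1) := by
  obtain ⟨e, he, hed⟩ := exists_deg_eq_mul_dvd_index N θ.2 χ.2 h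
  refine ⟨⟨e, charDegree_eq_of_one_eq (by rw [he, Nat.cast_mul, coe_charDegree_irr]), hed⟩,
    fun h1 => le_charKer_of_over _ (commutator_le_left N N) χ.2 θ.2 h (le_trans ?_
      (commutator_le_charKer_of_one θ.2.isCharacter ((charDegree_eq_one_iff θ.2.isCharacter).1 h1))),
    charDegree_eq_one_of_commutator_le N χ.2.isCharacter θ h⟩
  intro x hx
  obtain ⟨y, hy, e⟩ : (x : G) ∈ (commutator N).map N.subtype := by rwa [map_subtype_commutator]
  exact (Subtype.ext e : y = x) ▸ hy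

theorem exists_under (N : Subgroup G) [N.Normal] (χ : IrrCharacter G) : ∃ θ : IrrCharacter N,
    (∃ e, charDegree χ.1 = e * charDegree θ.1 ∧ e ∣ N.index) ∧
      (charDegree θ.1 = 1 ↔ ⁅N, N⁆ ≤ charKer χ.1) ∧
        ∀ x : N, (x : G) ∈ charKer χ.1 → x ∈ charKer θ.1 := by
  classical
  letI := Fintype.ofFinite G
  obtain ⟨θ, hθ, h⟩ := exists_irr_inner_restrict_ne_zero N χ.2
  exact ⟨⟨θ, hθ⟩, (over_data N χ ⟨θ, hθ⟩ h).1, (over_data N χ ⟨θ, hθ⟩ h).2,
    fun x hx => le_charKer_restrict _ χ.2.isCharacter hθ h le_rfl hx⟩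

theorem exists_over (N : Subgroup G) [N.Normal] (θ : IrrCharacter N) : ∃ χ : IrrCharacter G,
    (∃ e, charDegree χ.1 = e * charDegree θ.1 ∧ e ∣ N.index) ∧
      (charDegree θ.1 = 1 ↔ ⁅N, N⁆ ≤ charKer χ.1) ∧
        ∀ x : N, (x : G) ∈ charKer χ.1 → x ∈ charKer θ.1 := by
  classical
  letI := Fintype.ofFinite G
  obtain ⟨χ, hχ, h⟩ := exists_irr_over N θ.2
  exact ⟨⟨χ, hχ⟩, (over_data N ⟨χ, hχ⟩ θ h).1, (over_data N ⟨χ, hχ⟩ θ h).2,
    fun x hx => le_charKer_restrict _ hχ.isCharacter θ.2 h le_rfl hx⟩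

theorem commutator_le_charKer_iff (χ : IrrCharacter G) :
    commutator G ≤ charKer χ.1 ↔ charDegree χ.1 = 1 := by
  rw [charDegree_eq_one_iff χ.2.isCharacter]
  exact ⟨one_eq_one_of_commutator_le χ.2, commutator_le_charKer_of_one χ.2.isCharacter⟩

end Cfsg.Agent.Char
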