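import Mathlib
import Cfsg.Agent.Char.RelDeg
import Cfsg.Agent.Grp.CoprimeIndex

/-! The common divisor graph on `cd(G|N)` (McVey). -/

set_option autoImplicit false
set_option linter.unusedSectionVars false
set_option linter.style.haveILetI false

open Cfsg Cfsg.Agent.Char Subgroup
open scoped commutatorElement ComplexConjugate

namespace Cfsg.Agent.Char.RG

theorem eq_one_of_pows {M : Type*} [Monoid M] {p k c : ℕ} (hp : p.Prime) (hc : ¬ p ∣ c) {x : M}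
    (h1 : x ^ p ^ k = 1) (h2 : x ^ c = 1) : x = 1 :=
  orderOf_eq_one_iff.1 (Nat.eq_one_of_dvd_coprimes ((hp.coprime_iff_not_dvd.2 hc).pow_left k)
    (orderOf_dvd_of_pow_eq_one h1) (orderOf_dvd_of_pow_eq_one h2))

section
variable {N : Type*} [Group N] [Finite N]

def tw (θ : N → ℂ) (ρ : N →* ℂˣ) : N → ℂ := fun x => θ x * ρ x

def PLin (p : ℕ) (ρ : N →* ℂˣ) : Prop := ∃ k, ∀ x, (ρ x : ℂ) ^ p ^ k = 1

def PReg (p : ℕ) (θ : N → ℂ) : Prop :=
  IsIrrCharacter N θ ∧ ¬ p ∣ charDegree θ ∧ ∃ b, ¬ p ∣ b ∧ ∀ x, detChar θ x ^ b = 1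

theorem isIrr_tw {θ : N → ℂ} (h : IsIrrCharacter N θ) (ρ : N →* ℂˣ) : IsIrrCharacter N (tw θ ρ) :=
  h.mul_linear ρ

theorem charDegree_tw (θ : N → ℂ) (ρ : N →* ℂˣ) : charDegree (tw θ ρ) = charDegree θ :=
  charDegree_congr_one (by simp [tw])

theorem detChar_tw {θ : N → ℂ} (h : IsCharacter N θ) (ρ : N →* ℂˣ) (x : N) :
    detChar (tw θ ρ) x = (ρ x : ℂ) ^ charDegree θ * detChar θ x := by
  rw [show tw θ ρ = fun g => (ρ g : ℂ) * θ g from funext fun _ => mul_comm _ _,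
    detChar_hom_mul h ρ (coe_charDegree_of_isCharacter h).symm]

theorem tw_one (θ : N → ℂ) : tw θ 1 = θ := funext fun _ => by simp [tw]

theorem tw_comm (θ : N → ℂ) (ρ σ : N →* ℂˣ) : tw (tw θ ρ) σ = tw (tw θ σ) ρ :=
  funext fun _ => mul_right_comm _ _ _

theorem pReg_one {p : ℕ} (hp : p.Prime) : PReg p (fun _ : N => (1 : ℂ)) :=
  ⟨isIrrCharacter_one, by simpa [charDegree_const_one] using hp.ne_one, 1,
    by simpa using hp.ne_one, fun x => by rw [detChar_of_one isCharacter_one rfl, one_pow]⟩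

theorem PReg.tw {p q : ℕ} (hp : p.Prime) (hq : q.Prime) (hpq : q ≠ p) {θ : N → ℂ} (h : PReg q θ)
    {ρ : N →* ℂˣ} (hρ : PLin p ρ) : PReg q (tw θ ρ) := by
  obtain ⟨h1, h2, b, h3, h4⟩ := h
  obtain ⟨k, hk⟩ := hρ
  refine ⟨isIrr_tw h1 ρ, by rwa [charDegree_tw], p ^ k * b, fun h => ?_, fun x => ?_⟩
  · exact ((Nat.Prime.dvd_mul hq).1 h).elim
      (fun h => hpq ((Nat.prime_dvd_prime_iff_eq hq hp).1 (hq.dvd_of_dvd_pow h))) h3
  · rw [detChar_tw h1.isCharacter, mul_pow, ← pow_mul, mul_comm (charDegree θ), mul_assoc,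
      pow_mul, hk, one_pow, one_mul, mul_comm, pow_mul, h4, one_pow]

theorem exists_decomp {p : ℕ} (hp : p.Prime) {θ : N → ℂ} (h : IsIrrCharacter N θ)
    (hd : ¬ p ∣ charDegree θ) : ∃ θ₀ ν, PReg p θ₀ ∧ PLin p ν ∧ θ = tw θ₀ ν := by
  obtain ⟨a, b, hb, hab⟩ := Nat.exists_eq_pow_mul_and_not_dvd (Nat.card_pos (α := N)).ne' p
    hp.ne_one
  have h1 : ∀ x, detHom θ x ^ (p ^ a * b) = 1 := fun x => by
    rw [← hab, ← map_pow, pow_card_eq_one', map_one]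
  have hc : (b * charDegree θ).Coprime (p ^ a) :=
    (hp.coprime_iff_not_dvd.2 fun h => ((Nat.Prime.dvd_mul hp).1 h).elim hb hd).symm.pow_right a
  obtain ⟨c, hc⟩ := Nat.exists_mul_mod_eq_of_coprime 1 hc (pow_pos hp.pos a).ne'
  obtain ⟨e, he⟩ := (Nat.modEq_iff_dvd.1 hc.2 : ((p ^ a : ℕ) : ℤ) ∣ _)
  refine ⟨tw θ (detHom θ ^ (b * c))⁻¹, detHom θ ^ (b * c), ⟨isIrr_tw h _, by rwa [charDegree_tw],
    b, hb, fun x => ?_⟩, ⟨a, fun x => ?_⟩, funext fun x => by simp [tw]⟩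
  · rw [detChar_tw h.isCharacter, ← coe_detHom]
    simp only [MonoidHom.inv_apply, MonoidHom.pow_apply]
    norm_cast
    have : ((detHom θ x ^ (b * c))⁻¹ ^ charDegree θ * detHom θ x) =
        (detHom θ x ^ p ^ a) ^ e := by
      rw [← zpow_natCast, ← zpow_natCast, ← zpow_natCast, ← zpow_neg, ← zpow_mul, ← zpow_add_one,
        ← zpow_mul, ← he]
      congr 1
      push_cast
      ring
    rw [this, ← zpow_natCast, ← zpow_mul, mul_comm e, zpow_mul, zpow_natCast, ← pow_mul, h1,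
      one_zpow, Units.val_one]
  · rw [MonoidHom.pow_apply]
    norm_cast
    rw [← pow_mul, show b * c * p ^ a = p ^ a * b * c by ring, pow_mul, h1, one_pow,
      Units.val_one]

theorem tw_unique {p : ℕ} (hp : p.Prime) {θ θ' : N → ℂ} (h : PReg p θ) (h' : PReg p θ')
    {ρ ρ' : N →* ℂˣ} (hρ : PLin p ρ) (hρ' : PLin p ρ') (e : tw θ ρ = tw θ' ρ') : ρ = ρ' := by
  obtain ⟨h1, h2, b, h3, h4⟩ := h
  obtain ⟨h1', -, b', h3', h4'⟩ := h'
  obtain ⟨k, hk⟩ := hρ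
  obtain ⟨k', hk'⟩ := hρ'
  ext x
  have hd : charDegree θ' = charDegree θ := by rw [← charDegree_tw θ ρ, e, charDegree_tw]
  have h5 := detChar_tw h1.isCharacter ρ x
  rw [e, detChar_tw h1'.isCharacter, hd] at h5
  have h6 := congrArg (· ^ (b * b')) h5
  simp only [mul_pow] at h6
  rw [pow_mul (detChar θ x), h4, mul_comm b, pow_mul (detChar θ' x), h4', one_pow, one_pow,
    mul_one, mul_one, ← pow_mul, ← pow_mul] at h6
  rw [← div_eq_one_iff_eq (Units.ne_zero _)]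
  refine eq_one_of_pows (k := k + k') (c := charDegree θ * (b' * b)) hp ?_ ?_ ?_
  · simp [hp.dvd_mul, *]
  · rw [div_pow, pow_add, pow_mul, hk, mul_comm, pow_mul, hk']; simp
  · rw [div_pow, h6, div_self (pow_ne_zero _ (Units.ne_zero _))]

theorem tw_ne_one {p : ℕ} (hp : p.Prime) {θ : N → ℂ} (h : PReg p θ) {ρ : N →* ℂˣ} (hρ : PLin p ρ)
    (hne : θ ≠ (fun _ => 1) ∨ ρ ≠ 1) : tw θ ρ ≠ fun _ => 1 := by
  intro e
  have := tw_unique hp h (pReg_one hp) hρ (ρ' := 1) ⟨0, by simp⟩ (by rw [e, tw_one])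
  subst this
  rw [tw_one] at e
  simp [e] at hne

theorem exists_decomp_linear {θ : N → ℂ} (h : IsIrrCharacter N θ) (h1 : charDegree θ = 1)
    (hne : θ ≠ fun _ => 1) : ∃ q θ₀ σ, q.Prime ∧ q ∣ (commutator N).index ∧ PReg q θ₀ ∧ PLin q σ ∧
      σ ≠ 1 ∧ θ = tw θ₀ σ ∧ ∀ p, p.Prime → PReg p θ → q ≠ p := by
  obtain ⟨μ, rfl⟩ := exists_hom_of_isCharacter_one h.isCharacter
    ((charDegree_eq_one_iff h.isCharacter).1 h1)
  obtain ⟨q, hq, hqd⟩ := Nat.exists_prime_and_dvd (n := orderOf μ) fun e =>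
    hne (by rw [orderOf_eq_one_iff.1 e]; rfl)
  have key : ¬ PReg q (fun g => (μ g : ℂ)) := by
    rintro ⟨-, -, b, h2, h3⟩
    refine h2 (hqd.trans (orderOf_dvd_of_pow_eq_one ?_))
    ext x
    simpa [detChar_hom] using h3 x
  obtain ⟨θ₀, σ, h2, h3, h4⟩ := exists_decomp hq h (by simpa [h1] using hq.ne_one)
  refine ⟨q, θ₀, σ, hq, hqd.trans (orderOf_dvd_of_pow_eq_one (hom_pow_index_eq_one _ μ
    (Abelianization.commutator_subset_ker μ))), h2, h3, ?_, h4, fun p _ h5 e => key (e ▸ h5)⟩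
  rintro rfl
  rw [tw_one] at h4
  exact key (h4 ▸ h2)

theorem exists_pLin {p : ℕ} (hp : p.Prime) (h : p ∣ (commutator N).index) :
    ∃ ρ : N →* ℂˣ, PLin p ρ ∧ ρ ≠ 1 := by
  have := Fact.mk hp
  have h1 : Nat.card (N →* ℂˣ) = (commutator N).index :=
    (Nat.card_congr Abelianization.lift).trans
      (CommGroup.card_monoidHom_of_hasEnoughRootsOfUnity (Abelianization N) ℂ)
  have : Finite (N →* ℂˣ) := Nat.finite_of_card_ne_zero (h1 ▸ index_ne_zero_of_finite)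
  obtain ⟨ρ, hρ⟩ := exists_prime_orderOf_dvd_card' p (h1 ▸ h)
  refine ⟨ρ, ⟨1, fun x => ?_⟩, fun e => hp.ne_one (by rw [← hρ, e, orderOf_one])⟩
  have := DFunLike.congr_fun (pow_orderOf_eq_one ρ) x
  rw [hρ, MonoidHom.pow_apply] at this
  rw [pow_one, ← Units.val_pow_eq_pow_val, this]
  rfl

theorem detChar_pow_eq_one [Fintype N] {φ : N → ℂ} (hφ : IsCharacter N φ) {b : ℕ} {x : N}
    (h : ∀ ψ : IrrCharacter N, classInner φ ψ.1 ≠ 0 → detChar ψ.1 x ^ b = 1) :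
    detChar φ x ^ b = 1 := by
  obtain ⟨c, h1, h2⟩ := hφ.exists_coeff
  rw [h2, detChar_sum _ _ fun ψ _ => ψ.2.isCharacter.natCast_smul _, Finset.prod_apply,
    ← Finset.prod_pow]
  refine Finset.prod_eq_one fun ψ _ => ?_
  rw [detChar_natCast_smul ψ.2.isCharacter, Pi.pow_apply, ← pow_mul, mul_comm, pow_mul]
  by_cases h0 : c ψ = 0
  · rw [h0, pow_zero]
  · rw [h ψ (by rw [h1]; exact_mod_cast h0), one_pow]

end

variable {G : Type*} [Group G] [Fintype G] {N : Subgroup G} [hN : N.Normal] [Fintype N]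

/-- `d` is the degree of an irreducible character lying over `θ`. -/
def Lies (N : Subgroup G) [Fintype N] (d : ℕ) (θ : N → ℂ) : Prop :=
  ∃ χ : IrrCharacter G, classInner (fun x : N => χ.1 x) θ ≠ 0 ∧ charDegree χ.1 = d

theorem exists_lies {θ : N → ℂ} (h : IsIrrCharacter N θ) : ∃ d, Lies N d θ := by
  obtain ⟨χ, h1, h2⟩ := exists_irr_over N h
  exact ⟨_, ⟨χ, h1⟩, h2, rfl⟩

theorem Lies.dvd {θ : N → ℂ} {d : ℕ} (hd : Lies N d θ) (h : IsIrrCharacter N θ) :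
    (inertia N θ).index * charDegree θ ∣ d := by
  obtain ⟨χ, h1, rfl⟩ := hd
  obtain ⟨e, -, -, he⟩ := exists_charDegree_eq_of_over N χ.2 h h1
  exact he ▸ mul_assoc e _ _ ▸ dvd_mul_left _ _

theorem Lies.exists_eq {θ : N → ℂ} {d : ℕ} (hd : Lies N d θ) (h : IsIrrCharacter N θ) :
    ∃ e, d = e * charDegree θ ∧ e ∣ N.index := by
  obtain ⟨χ, h1, rfl⟩ := hd
  exact (over_data N χ ⟨θ, h⟩ h1).1

theorem mem_rcd {d : ℕ} : d ∈ relCharDegrees N ↔
    ∃ θ, IsIrrCharacter N θ ∧ θ ≠ (fun _ => 1) ∧ Lies N d θ := by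
  constructor
  · rintro ⟨χ, ⟨x, hx, h⟩, rfl⟩
    obtain ⟨θ, h1, h2⟩ := exists_irr_inner_restrict_ne_zero N χ.2
    refine ⟨θ, h1, ?_, χ, h2, rfl⟩
    rintro rfl
    exact h (restrict_eq_const_of_inner_one_ne_zero N χ.2 h2 ⟨x, hx⟩)
  · rintro ⟨θ, h1, h2, χ, h3, rfl⟩
    refine ⟨χ, by_contra fun h => h2 (eq_one_of_charKer_eq_top h1 (eq_top_iff.2 fun x _ => ?_)),
      rfl⟩
    push Not at h
    exact le_charKer_restrict N χ.2.isCharacter h1 h3
      (fun y hy => (mem_charKer_irr χ).2 (h y hy)) x.2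

theorem PReg.conj {p : ℕ} {θ : N → ℂ} (h : PReg p θ) (g : G) : PReg p (conjChar N θ g) := by
  obtain ⟨h1, h2, b, h3, h4⟩ := h
  refine ⟨h1.conjChar g, by rwa [charDegree_congr_one (conjChar_apply_one N θ g)], b, h3,
    fun x => ?_⟩
  rw [conjChar_eq_comp]
  exact (congrFun (detChar_comp h1.isCharacter (MulAut.conjNormal g).toMonoidHom) x).symm ▸ h4 _

theorem inertia_tw_le {p : ℕ} (hp : p.Prime) {θ : N → ℂ} (h : PReg p θ) {ρ : N →* ℂˣ}
    (hρ : PLin p ρ) : inertia N (tw θ ρ) ≤ inertia N fun x => (ρ x : ℂ) := by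
  intro g hg
  have := tw_unique hp (h.conj g) h (ρ := ρ.comp (MulAut.conjNormal (H := N) g).toMonoidHom)
    (hρ.imp fun k hk x => hk _) hρ ((mem_inertia N).1 hg)
  exact funext fun x => congrArg Units.val (DFunLike.congr_fun this x)

variable (hG : N ≤ commutator G)
include hG

theorem one_lt_of_mem {d : ℕ} (h : d ∈ relCharDegrees N) : 1 < d := by
  obtain ⟨χ, ⟨x, hx, h⟩, rfl⟩ := h
  exact lt_of_le_of_ne (charDegree_irr_pos χ) fun e =>
    h ((mem_charKer_irr χ).1 ((commutator_le_charKer_iff χ).2 e.symm (hG hx)))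

theorem dvd_of_invariant {p : ℕ} (hp : p.Prime) {θ : N → ℂ} (h : PReg p θ) {ρ : N →* ℂˣ}
    (hρ : PLin p ρ) (h1 : ρ ≠ 1) (hi : inertia N (fun x => (ρ x : ℂ)) = ⊤) {d : ℕ}
    (hd : Lies N d (tw θ ρ)) : p ∣ d := by
  obtain ⟨χ, h2, rfl⟩ := hd
  by_contra h3
  obtain ⟨b, h4, h5⟩ := h.2.2
  obtain ⟨k, hk⟩ := hρ
  have hφ : IsCharacter N (tw (fun x : N => χ.1 x) ρ⁻¹) :=
    (χ.2.isCharacter.restrict N).mul (isCharacter_hom ρ⁻¹)
  refine h1 (MonoidHom.ext fun x => Units.ext ?_)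
  have h6 := detChar_pow_eq_one hφ (b := b) (x := x) fun ψ hψ => by
    have : classInner (fun x : N => χ.1 x) (tw ψ.1 ρ) ≠ 0 := by
      refine (classInner_mul_left _ _ _).symm.trans_ne hψ |> fun h => ?_
      convert h using 2
      ext y
      rw [tw, mul_comm, conj_eq_inv_of_pow_eq_one (n := p ^ k) (pow_pos hp.pos k).ne'
        (by simp [hk])]
      simp
    obtain ⟨g, hg⟩ := exists_conjChar_eq_of_inner_ne_zero N χ.2 (isIrr_tw h.1 ρ)
      (isIrr_tw ψ.2 ρ) h2 this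
    have e : ψ.1 = conjChar N θ g := funext fun y => by
      have h7 := congrFun hg y
      have h8 := (inertia_eq_top_iff N).1 hi g y
      simp only [conjChar_apply, tw] at h7 h8 ⊢
      rw [h8] at h7
      exact (mul_right_cancel₀ (Units.ne_zero _) h7).symm
    rw [e, conjChar_eq_comp]
    exact (congrFun (detChar_comp h.1.isCharacter (MulAut.conjNormal g).toMonoidHom) x).symm ▸ h5 _
  rw [detChar_tw (χ.2.isCharacter.restrict N), congrFun (detChar_restrict χ.2.isCharacter N) x,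
    ← coe_detHom, MonoidHom.mem_ker.1 (Abelianization.commutator_subset_ker _ (hG x.2)),
    Units.val_one, mul_one, ← pow_mul, MonoidHom.inv_apply, Units.val_inv_eq_inv_val, inv_pow,
    inv_eq_one] at h6
  exact eq_one_of_pows hp (fun h => ((Nat.Prime.dvd_mul hp).1 h).elim h3 h4) (hk x) h6

theorem exists_prime_lin {p : ℕ} (hp : p.Prime) {ρ : N →* ℂˣ} (hρ : PLin p ρ) (h1 : ρ ≠ 1) :
    ∃ r, r.Prime ∧ (r = p ∨ r ∣ N.index) ∧ ∀ θ d, PReg p θ → Lies N d (tw θ ρ) → r ∣ d := by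
  by_cases hi : inertia N (fun x => (ρ x : ℂ)) = ⊤
  · exact ⟨p, hp, Or.inl rfl, fun θ d h hd => dvd_of_invariant hG hp h hρ h1 hi hd⟩
  obtain ⟨r, hr, h2⟩ := Nat.exists_prime_and_dvd (mt index_eq_one.1 hi)
  exact ⟨r, hr, Or.inr (h2.trans (index_dvd_of_le
    (le_inertia N (isCharacter_hom ρ).isClassFunction))), fun θ d h hd =>
      (h2.trans (index_dvd_of_le (inertia_tw_le hp h hρ))).trans
        ((dvd_mul_right _ _).trans (hd.dvd (isIrr_tw h.1 ρ)))⟩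

theorem exists_prime_reg {p : ℕ} (hp : p.Prime) {θ : N → ℂ} (h : PReg p θ)
    (h1 : θ ≠ fun _ => 1) :
    ∃ r, r.Prime ∧ ∀ ρ d, PLin p ρ → Lies N d (tw θ ρ) → r ∣ d := by
  by_cases h2 : charDegree θ = 1
  · obtain ⟨q, θ₀, σ, hq, -, h3, h4, h5, rfl, h6⟩ := exists_decomp_linear h.1 h2 h1
    obtain ⟨r, hr, -, h7⟩ := exists_prime_lin hG hq h4 h5
    exact ⟨r, hr, fun ρ d hρ hd => h7 _ d (h3.tw hp hq (h6 p hp h) hρ) (tw_comm θ₀ σ ρ ▸ hd)⟩
  · obtain ⟨r, hr, h3⟩ := Nat.exists_prime_and_dvd h2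
    exact ⟨r, hr, fun ρ d _ hd => (h3.trans (charDegree_tw θ ρ ▸ dvd_mul_left _ _)).trans
      (hd.dvd (isIrr_tw h.1 ρ))⟩

/-- `a` and `b` have a common prime divisor. -/
def Com (a b : ℕ) : Prop := ∃ r, r.Prime ∧ r ∣ a ∧ r ∣ b

def Near (N : Subgroup G) (a b : ℕ) : Prop := ∃ d ∈ relCharDegrees N, Com a d ∧ Com d b

omit hG in
theorem Com.symm {a b : ℕ} (h : Com a b) : Com b a := h.imp fun _ h => ⟨h.1, h.2.2, h.2.1⟩

omit hG in
theorem Near.symm {a b : ℕ} (h : Near N a b) : Near N b a :=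
  h.imp fun _ h => ⟨h.1, h.2.2.symm, h.2.1.symm⟩

theorem near_of {p : ℕ} (hp : p.Prime) {θ θ' : N → ℂ} (h : PReg p θ) (h' : PReg p θ')
    {ρ ρ' : N →* ℂˣ} (hρ : PLin p ρ) (hρ' : PLin p ρ') (h1 : ρ ≠ 1) (h2 : θ' ≠ fun _ => 1)
    {a b : ℕ} (ha : Lies N a (tw θ ρ)) (hb : Lies N b (tw θ' ρ')) : Near N a b := by
  obtain ⟨d, hd⟩ := exists_lies (isIrr_tw h'.1 ρ)
  obtain ⟨r, hr, -, h3⟩ := exists_prime_lin hG hp hρ h1
  obtain ⟨s, hs, h4⟩ := exists_prime_reg hG hp h' h2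
  exact ⟨d, mem_rcd.2 ⟨_, isIrr_tw h'.1 ρ, tw_ne_one hp h' hρ (Or.inr h1), hd⟩,
    ⟨r, hr, h3 _ _ h ha, h3 _ _ h' hd⟩, s, hs, h4 _ _ hρ hd, h4 _ _ hρ' hb⟩

omit hG in
theorem pow_conj_eq {x y : N → ℂ} (hx : ∀ n, x n ≠ 0) (hy : ∀ n, y n ≠ 0)
    (h1 : (inertia N y).index.Coprime (inertia N x).index)
    (h2 : (inertia N (x * y)).index.Coprime (inertia N x).index) (g : G) (n : N) :
    conjChar N x g n ^ (inertia N y).index = x n ^ (inertia N y).index := by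
  classical
  have key : ∀ g, ∏ φ ∈ conjugates N (x * y), φ n =
      conjChar N x g n ^ (inertia N y).index * ∏ φ ∈ conjugates N y, φ n := by
    intro g
    have : conjugates N (x * y) = (conjugates N y).image (conjChar N x g * ·) := by
      ext φ
      simp only [Finset.mem_image, mem_conjugates]
      constructor
      · rintro ⟨k, rfl⟩
        obtain ⟨a, ha, h, hh, e⟩ := Grp.exists_mul_of_coprime_index h2 (k * g⁻¹)
        refine ⟨_, ⟨h * g, rfl⟩, ?_⟩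
        rw [← inv_mul_cancel_right k g, ← e, mul_assoc, conjChar_mul N _ a, (mem_inertia N).1 ha,
          conjChar_mul_fun, conjChar_mul N x, (mem_inertia N).1 hh]
      · rintro ⟨_, ⟨k, rfl⟩, rfl⟩
        obtain ⟨a, ha, h, hh, e⟩ := Grp.exists_mul_of_coprime_index h1 (k * g⁻¹)
        refine ⟨h * g, ?_⟩
        rw [← inv_mul_cancel_right k g, ← e, mul_assoc, conjChar_mul N _ a, (mem_inertia N).1 ha,
          conjChar_mul_fun, conjChar_mul N x, (mem_inertia N).1 hh]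
    have hi : Set.InjOn (conjChar N x g * ·) (conjugates N y) := fun φ _ ψ _ e => funext fun m =>
      mul_left_cancel₀ (hx _) (congrFun e m)
    rw [this, Finset.prod_image hi, ← card_conjugates, ← Finset.prod_const,
      ← Finset.prod_mul_distrib]
    rfl
  have := (key g).symm.trans (key 1)
  rw [conjChar_one] at this
  refine mul_right_cancel₀ (Finset.prod_ne_zero_iff.2 fun φ hφ => ?_) this
  obtain ⟨k, rfl⟩ := (mem_conjugates N).1 hφ
  exact hy _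

theorem near_lin {p : ℕ} (hp : p.Prime) {ρ ρ' : N →* ℂˣ} (hρ : PLin p ρ) (hρ' : PLin p ρ')
    (h1 : ρ ≠ 1) (h1' : ρ' ≠ 1) {a b : ℕ} (ha : Lies N a (tw (fun _ => 1) ρ))
    (hb : Lies N b (tw (fun _ => 1) ρ')) (ha' : ¬ p ∣ a) (hb' : ¬ p ∣ b) : Near N a b := by
  have e1 : ∀ ρ : N →* ℂˣ, tw (fun _ => 1) ρ = fun x => (ρ x : ℂ) := fun ρ =>
    funext fun _ => one_mul _
  have key : ∀ {ρ ρ' : N →* ℂˣ} {a b d : ℕ}, PLin p ρ → ρ ≠ 1 → Lies N a (tw (fun _ => 1) ρ) →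
      Lies N b (tw (fun _ => 1) ρ') → ¬ p ∣ a → ¬ p ∣ b → ¬ Com a b →
      Lies N d (tw (fun _ => 1) (ρ * ρ')) → Com a d := by
    intro ρ ρ' a b d hρ h1 ha hb ha' hb' hab hd
    by_contra had
    have h2 := (dvd_mul_right _ _).trans (ha.dvd (isIrr_tw isIrrCharacter_one _))
    have h3 := (dvd_mul_right _ _).trans (hb.dvd (isIrr_tw isIrrCharacter_one _))
    have h4 := (dvd_mul_right _ _).trans (hd.dvd (isIrr_tw isIrrCharacter_one _))
    rw [e1] at h2 h3 h4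
    refine ha' (dvd_of_invariant hG hp (pReg_one hp) hρ h1 (eq_top_iff.2 fun g _ => ?_) ha)
    obtain ⟨k, hk⟩ := hρ
    refine funext fun n => (div_eq_one_iff_eq (Units.ne_zero _)).1
      (eq_one_of_pows (k := k) hp (fun h => hb' (h.trans h3)) ?_ ?_)
    · rw [div_pow, conjChar_apply, hk, hk, div_one]
    · rw [div_pow, pow_conj_eq (fun _ => Units.ne_zero _) (fun _ => Units.ne_zero _)
        (Nat.coprime_of_dvd fun r hr h5 h6 => hab ⟨r, hr, h6.trans h2, h5.trans h3⟩)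
        (Nat.coprime_of_dvd fun r hr h5 h6 => had ⟨r, hr, h6.trans h2, Dvd.dvd.trans h5 h4⟩), div_self (pow_ne_zero _ (Units.ne_zero _))]
  have hm := mem_rcd.2 ⟨_, isIrr_tw isIrrCharacter_one ρ,
    tw_ne_one hp (pReg_one hp) hρ (Or.inr h1), ha⟩
  by_cases hab : Com a b
  · obtain ⟨r, hr, h2⟩ := Nat.exists_prime_and_dvd (one_lt_of_mem hG hm).ne'
    exact ⟨a, hm, ⟨r, hr, h2, h2⟩, hab⟩
  obtain ⟨d, hd⟩ := exists_lies (isIrr_tw isIrrCharacter_one (ρ * ρ'))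
  have h2 := key hρ h1 ha hb ha' hb' hab hd
  refine ⟨d, mem_rcd.2 ⟨_, isIrr_tw isIrrCharacter_one _, fun e => ?_, hd⟩, h2,
    (key hρ' h1' hb ha hb' ha' (fun h => hab h.symm) (mul_comm ρ ρ' ▸ hd)).symm⟩
  obtain ⟨r, hr, -, h3⟩ := key hρ h1 ha hb ha' hb' hab (d := 1)
    ⟨irrOne G, by rw [e]; exact isIrrCharacter_one.inner_self.trans_ne one_ne_zero,
      charDegree_irrOne⟩
  exact hr.one_lt.ne' (Nat.dvd_one.1 h3)

omit hG in
theorem exists_witness {p : ℕ} (hp : p.Prime) {a : ℕ} (ha : a ∈ relCharDegrees N) (h : ¬ p ∣ a) :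
    ∃ θ ρ, PReg p θ ∧ PLin p ρ ∧ (θ = (fun _ => 1) → ρ ≠ 1) ∧ Lies N a (tw θ ρ) := by
  obtain ⟨θ, h1, h2, h3⟩ := mem_rcd.1 ha
  obtain ⟨θ₀, ρ, h4, h5, rfl⟩ := exists_decomp hp h1
    fun h6 => h ((h6.mul_left _).trans (h3.dvd h1))
  refine ⟨θ₀, ρ, h4, h5, ?_, h3⟩
  rintro rfl rfl
  exact h2 (tw_one _)

/-- The common divisor graph on `cd(G|N)`. -/
abbrev Γ (N : Subgroup G) := commonDivisorGraph.induce (relCharDegrees N)

omit hG in
theorem Com.adj {a b : relCharDegrees N} (h : Com a b) (hne : a ≠ b) : (Γ N).Adj a b := by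
  obtain ⟨r, hr, h1, h2⟩ := h
  obtain ⟨a, χ, h, rfl⟩ := a
  exact ⟨fun e => hne (Subtype.ext e), hr.one_lt.trans_le (Nat.le_of_dvd
    (Nat.gcd_pos_of_pos_left _ (charDegree_irr_pos χ)) (Nat.dvd_gcd h1 h2))⟩

omit hG in
theorem Com.reach {a b : ℕ} (h : Com a b) (ha : a ∈ relCharDegrees N) (hb : b ∈ relCharDegrees N) :
    (Γ N).Reachable ⟨a, ha⟩ ⟨b, hb⟩ := by
  by_cases e : (⟨a, ha⟩ : relCharDegrees N) = ⟨b, hb⟩
  · rw [e]
  · exact (Com.adj (a := ⟨a, ha⟩) (b := ⟨b, hb⟩) h e).reachable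

omit hG in
theorem Near.reach {a b : ℕ} (h : Near N a b) (ha : a ∈ relCharDegrees N)
    (hb : b ∈ relCharDegrees N) : (Γ N).Reachable ⟨a, ha⟩ ⟨b, hb⟩ := by
  obtain ⟨d, hd, h1, h2⟩ := h
  exact (h1.reach ha hd).trans (h2.reach hd hb)

theorem reach_of_not_dvd {p : ℕ} (hp : p.Prime) (hm : p ∣ (commutator N).index)
    (a b : relCharDegrees N) (ha : ¬ p ∣ a) (hb : ¬ p ∣ b) : (Γ N).Reachable a b := by
  obtain ⟨θ, ρ, h1, h2, h3, h4⟩ := exists_witness hp a.2 ha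
  obtain ⟨θ', ρ', h1', h2', h3', h4'⟩ := exists_witness hp b.2 hb
  by_cases e : θ = fun _ => 1 <;> by_cases e' : θ' = fun _ => 1
  · exact (near_lin hG hp h2 h2' (h3 e) (h3' e') (e ▸ h4) (e' ▸ h4') ha hb).reach a.2 b.2
  · exact (near_of hG hp h1 h1' h2 h2' (h3 e) e' h4 h4').reach a.2 b.2
  · exact (near_of hG hp h1' h1 h2' h2 (h3' e') e h4' h4).symm.reach a.2 b.2
  · obtain ⟨σ, h5, h6⟩ := exists_pLin hp hm
    obtain ⟨d, hd⟩ := exists_lies (isIrr_tw h1.1 σ)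
    have := mem_rcd.2 ⟨_, isIrr_tw h1.1 σ, tw_ne_one hp h1 h5 (Or.inr h6), hd⟩
    exact ((near_of hG hp h1 h1 h5 h2 h6 e hd h4).symm.reach a.2 this).trans
      ((near_of hG hp h1 h1' h5 h2' h6 e' hd h4').reach this b.2)

theorem exists_reach_lin {p : ℕ} (hp : p.Prime) (hm : p ∣ (commutator N).index)
    (a : relCharDegrees N) (ha : ¬ p ∣ a) : ∃ ρ, PLin p ρ ∧ ρ ≠ 1 ∧
      ∀ θ (d : relCharDegrees N), PReg p θ → Lies N d (tw θ ρ) → (Γ N).Reachable a d := by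
  obtain ⟨θ, ρ, h1, h2, h3, h4⟩ := exists_witness hp a.2 ha
  by_cases e : θ = fun _ => 1
  · obtain ⟨r, hr, -, h5⟩ := exists_prime_lin hG hp h2 (h3 e)
    exact ⟨ρ, h2, h3 e, fun θ' d h6 h7 => Com.reach ⟨r, hr, h5 _ _ h1 h4, h5 _ _ h6 h7⟩ a.2 d.2⟩
  · obtain ⟨σ, h5, h6⟩ := exists_pLin hp hm
    exact ⟨σ, h5, h6, fun θ' d h7 h8 => (near_of hG hp h7 h1 h5 h2 h6 e h8 h4).symm.reach a.2 d.2⟩

theorem reach_of_not_dvd_two {p q : ℕ} (hp : p.Prime) (hq : q.Prime)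
    (hm : p ∣ (commutator N).index) (hm' : q ∣ (commutator N).index)
    (a b : relCharDegrees N) (ha : ¬ p ∣ a) (hb : ¬ q ∣ b) : (Γ N).Reachable a b := by
  by_cases e : p = q
  · exact reach_of_not_dvd hG hp hm a b ha (e ▸ hb)
  obtain ⟨ρ, h1, h2, h3⟩ := exists_reach_lin hG hp hm a ha
  obtain ⟨σ, h1', h2', h3'⟩ := exists_reach_lin hG hq hm' b hb
  have h4 := (pReg_one hp).tw hq hp e h1'
  obtain ⟨d, hd⟩ := exists_lies (isIrr_tw h4.1 ρ)
  have := mem_rcd.2 ⟨_, isIrr_tw h4.1 ρ, tw_ne_one hp h4 h1 (Or.inr h2), hd⟩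
  exact (h3 _ ⟨d, this⟩ h4 hd).trans
    (h3' _ ⟨d, this⟩ ((pReg_one hq).tw hp hq (Ne.symm e) h1) (tw_comm _ σ ρ ▸ hd)).symm

theorem split_of_not_reach {p : ℕ} (hp : p.Prime) (hm : p ∣ (commutator N).index)
    (a b : relCharDegrees N) (h : ¬ (Γ N).Reachable a b) (hb : p ∣ b) :
    Nat.Coprime a (commutator N).index ∧ ∀ r : ℕ, r.Prime → r ∣ (commutator N).index → r ∣ b := by
  have key : ∀ r : ℕ, r.Prime → r ∣ (commutator N).index → r ∣ b := fun r hr h1 =>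
    by_contra fun h2 => h (reach_of_not_dvd_two hG hp hr hm h1 a b
      (fun h3 => h (Com.reach ⟨p, hp, h3, hb⟩ a.2 b.2)) h2)
  exact ⟨Nat.coprime_of_dvd fun r hr h1 h2 => h (Com.reach ⟨r, hr, h1, key r hr h2⟩ a.2 b.2), key⟩

omit hG in
theorem relIndex_commutator : (⁅N, N⁆).relIndex N = (commutator N).index := by
  rw [relIndex, ← map_subtype_commutator, subgroupOf, comap_map_eq_self_of_injective
    N.subtype_injective]

omit hG in
theorem exists_prime_index (h : ⁅N, N⁆ < N) : ∃ p, p.Prime ∧ p ∣ (commutator N).index :=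
  Nat.exists_prime_and_dvd fun e => h.not_ge (relIndex_eq_one.1 (relIndex_commutator.trans e))

omit hG in
theorem exists_of_nonlinear {q : ℕ} (hq : q.Prime) (h : q ∣ (commutator (commutator G)).index)
    (θ : IrrCharacter G) (h1 : charDegree θ.1 ≠ 1) (h2 : ¬ q ∣ charDegree θ.1)
    (h3 : (charDegree θ.1).Coprime (commutator G).index) : ∃ η : IrrCharacter G,
      Com (charDegree θ.1) (charDegree η.1) ∧ Com (commutator G).index (charDegree η.1) := by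
  classical
  obtain ⟨φ, ⟨e, he, hed⟩, -⟩ := exists_under (commutator G) θ
  rw [Nat.eq_one_of_dvd_coprimes h3 (he ▸ dvd_mul_right _ _) hed, one_mul] at he
  obtain ⟨φ₀, ν, h4, -, h5⟩ := exists_decomp hq φ.2 (he ▸ h2)
  rw [h5, charDegree_tw] at he
  obtain ⟨σ, h6, h7⟩ := exists_pLin hq h
  obtain ⟨d, hd⟩ := exists_lies (isIrr_tw h4.1 σ)
  obtain ⟨r, hr, h8, h9⟩ := exists_prime_lin le_rfl hq h6 h7
  obtain ⟨f, h10, h11⟩ := hd.exists_eq (isIrr_tw h4.1 σ)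
  rw [charDegree_tw, ← he] at h10
  have h12 := h9 _ _ h4 hd
  obtain ⟨η, -, rfl⟩ := hd
  obtain ⟨s, hs, h13⟩ := Nat.exists_prime_and_dvd h1
  refine ⟨η, ⟨s, hs, h13, h10 ▸ h13.mul_left f⟩, r, hr, h8.elim ?_ id, h12⟩
  rintro rfl
  exact (((Nat.Prime.dvd_mul hr).1 (h10 ▸ h12)).resolve_right h2).trans h11

theorem near_of_linear {a b : ℕ} {θ : N → ℂ} (h : IsIrrCharacter N θ) (h1 : charDegree θ = 1)
    (hne : θ ≠ fun _ => 1) (ha : Lies N a θ) (hb : b ∈ relCharDegrees N)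
    (ha' : a.Coprime (commutator N).index) (hb' : b.Coprime (commutator N).index) : Near N a b := by
  obtain ⟨q, θ₀, σ, hq, h2, h3, h4, h5, rfl, -⟩ := exists_decomp_linear h h1 hne
  have h6 : ∀ c : ℕ, c.Coprime (commutator N).index → ¬ q ∣ c := fun c hc h =>
    hq.one_lt.ne' (Nat.eq_one_of_dvd_coprimes hc h h2)
  obtain ⟨θ', ρ', h1', h2', h3', h4'⟩ := exists_witness hq hb (h6 b hb')
  by_cases e' : θ' = fun _ => 1
  swap
  · exact near_of hG hq h3 h1' h4 h2' h5 e' ha h4'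
  by_cases e : θ₀ = fun _ => 1
  · exact near_lin hG hq h4 h2' h5 (h3' e') (e ▸ ha) (e' ▸ h4') (h6 a ha') (h6 b hb')
  · exact (near_of hG hq h1' h3 h2' h4 (h3' e') e h4' ha).symm

end Cfsg.Agent.Char.RG
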