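import Cfsg.Agent.Char.DegreeP
import Cfsg.Agent.Char.PermChar
import Cfsg.Agent.Char.Burnside
import Cfsg.Agent.FGS.ClassSize

/-!
# Groups with small character degrees (Isaacs 12.23, 12.29)
-/

set_option autoImplicit false
set_option linter.dupNamespace false
set_option linter.unusedSectionVars false

open scoped ComplexConjugate commutatorElement IsMulCommutative
open Subgroup MulAction

namespace Cfsg.Agent.Char
open Cfsg.Agent.Char

universe u

variable {G : Type*} [Group G] [Finite G]

/-- Every constituent of a transitive permutation character contains the trivial character of a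
subgroup fixing a point. -/
theorem card_add_le_of_orbits {b : ℕ} (hb : ∀ χ : IrrCharacter G, charDegree (χ : G → ℂ) ≤ b)
    (X : Type*) [MulAction G X] [Finite X] [IsPretransitive G X] (x : X) (P : Subgroup G)
    (hP : P ≤ stabilizer G x) :
    Nat.card X + b ≤ b * Nat.card (orbitRel.Quotient P X) + 1 := by
  have := Fintype.ofFinite G
  have := Fintype.ofFinite P
  have := Fintype.ofFinite (stabilizer G x)
  have : Nonempty X := ⟨x⟩
  obtain ⟨c, hc, e⟩ := (isCharacter_permChar_sub_one (G := G) X).exists_coeff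
  have hm : ∀ χ : IrrCharacter G, ∃ m : ℕ, classInner (fun g : P => χ.1 g) (fun _ => 1) = m :=
    fun χ => (χ.2.isCharacter.restrict P).exists_nat_inner isCharacter_one
  choose m hm using hm
  have h1 : ∀ χ, c χ ≠ 0 → 1 ≤ m χ := fun χ h => Nat.pos_of_ne_zero fun h0 => by
    by_cases h1 : χ.1 = fun _ => 1
    · have := hm χ
      rw [h1, h0, isIrrCharacter_one.inner_self] at this
      simp at this
    have h2 := hc χ
    rw [classInner_sub_left, isIrrCharacter_one.inner_eq_zero χ.2 (Ne.symm h1), sub_zero,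
      show permChar G X = indFun (stabilizer G x) (fun _ => 1) from
        funext fun g => (PermChar.indFun_stabilizer_one_of_pretransitive x g).symm,
      classInner_indFun_left _ _ χ.2.isClassFunction,
      isCharacter_one.inner_symm (χ.2.isCharacter.restrict _)] at h2
    have h3 := inner_comp_re_le_of_sub (inclusion hP) ((χ.2.isCharacter.restrict _).sub_irr
      isIrrCharacter_one (h2 ▸ Nat.cast_ne_zero.mpr h)) isCharacter_one
    rw [isIrrCharacter_one.inner_self] at h3
    change _ ≤ (classInner (fun g : P => χ.1 g) (fun _ => 1)).re at h3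
    rw [hm, h0] at h3
    norm_num at h3
  have h2 : (Nat.card X : ℂ) = 1 + ∑ χ, c χ * charDegree χ.1 := by
    have := congrFun e 1
    rw [Pi.sub_apply, permChar_one, sub_eq_iff_eq_add', Finset.sum_apply] at this
    simpa [coe_charDegree_irr] using this
  have h3 : (Nat.card (orbitRel.Quotient P X) : ℂ) = 1 + ∑ χ, c χ * m χ := by
    rw [← classInner_permChar_one, show permChar P X = (fun _ => 1) +
      ∑ χ : IrrCharacter G, (c χ : ℂ) • fun g : P => χ.1 g from funext fun g => by
        have := congrFun e g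
        rw [Pi.sub_apply, sub_eq_iff_eq_add', Finset.sum_apply] at this
        rw [Pi.add_apply, Finset.sum_apply]
        exact this, classInner_add_left, isIrrCharacter_one.inner_self, classInner_sum_left]
    simp [classInner_smul_left, hm]
  norm_cast at h2 h3
  have h4 : ∑ χ, c χ * charDegree χ.1 ≤ ∑ χ, b * (c χ * m χ) := Finset.sum_le_sum fun χ _ => by
    by_cases h : c χ = 0
    · simp [h]
    · have := Nat.mul_le_mul (hb χ) (h1 χ h)
      nlinarith [Nat.mul_le_mul_left (c χ) this]
  rw [← Finset.mul_sum] at h4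
  rw [h2, h3, mul_add]
  omega

/-- Isaacs 12.29. -/
theorem not_dvd_index_pCore_of_lt {p : ℕ} [hp : Fact p.Prime]
    (hb : ∀ χ : IrrCharacter G, charDegree (χ : G → ℂ) < p) : ¬ p ∣ (pCore p G).index := by
  classical
  obtain ⟨P⟩ : Nonempty (Sylow p G) := inferInstance
  obtain ⟨b, rfl⟩ : ∃ b, p = b + 1 := ⟨p - 1, (Nat.sub_add_cancel hp.out.pos).symm⟩
  have h1 := card_add_le_of_orbits (fun χ => Nat.lt_succ_iff.mp (hb χ)) _ P P
    (P.stabilizer_eq_normalizer ▸ le_normalizer)
  have := Fintype.ofFinite (orbitRel.Quotient (P : Subgroup G) (Sylow (b + 1) G))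
  have h2 : ∑ ω : orbitRel.Quotient (P : Subgroup G) (Sylow (b + 1) G), (b + 1) ≤
      ∑ ω : orbitRel.Quotient (P : Subgroup G) (Sylow (b + 1) G),
        (Nat.card (orbit (P : Subgroup G) ω.out) + if ω = Quotient.mk'' P then b else 0) := by
    refine Finset.sum_le_sum fun ω _ => ?_
    obtain ⟨k, hk⟩ := P.2.card_orbit ω.out
    obtain _ | k := k
    · have h3 : ω.out ∈ fixedPoints (P : Subgroup G) (Sylow (b + 1) G) := by
        have := Fintype.ofFinite (orbit (P : Subgroup G) ω.out)
        rw [mem_fixedPoints_iff_card_orbit_eq_one, ← Nat.card_eq_fintype_card, hk, pow_zero]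
      rw [P.2.sylow_mem_fixedPoints_iff] at h3
      rw [if_pos (ω.out_eq'.symm.trans (congrArg _ (Sylow.ext (P.3 ω.out.2 h3)))), hk, pow_zero,
        add_comm]
    · rw [hk, pow_succ']
      exact (Nat.le_mul_of_pos_right _ (pow_pos hp.out.pos _)).trans (Nat.le_add_right _ _)
  rw [Finset.sum_const, Finset.sum_add_distrib, Finset.sum_ite_eq', if_pos (Finset.mem_univ _),
    ← Nat.card_sigma, ← Nat.card_congr (selfEquivSigmaOrbits _ _), Finset.card_univ,
    ← Nat.card_eq_fintype_card, smul_eq_mul] at h2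
  have h3 : Nat.card (Sylow (b + 1) G) ≤ 1 := by
    have h4 : Nat.card (orbitRel.Quotient (P : Subgroup G) (Sylow (b + 1) G)) ≤ 1 := by nlinarith
    nlinarith
  have : Subsingleton (Sylow (b + 1) G) := Finite.card_le_one_iff_subsingleton.mp h3
  rw [Grp.pCore_eq_sylow_of_normal P P.normal_of_subsingleton]
  exact P.not_dvd_index

theorem index_dvd_sq_of_vanish (N : Subgroup G) [N.Normal] {θ : G → ℂ} (hθ : IsIrrCharacter G θ)
    (h : ∀ x, x ∉ N → θ x = 0) : N.index ∣ charDegree θ ^ 2 := by
  have := Fintype.ofFinite G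
  have := Fintype.ofFinite N
  obtain ⟨φ, hφ, h1⟩ := exists_irr_inner_restrict_ne_zero N hθ
  obtain ⟨e, -, h2, h3⟩ := exists_charDegree_eq_of_over N hθ hφ h1
  have h4 := (vanish_off_iff_inner_restrict N θ).mp h
  rw [clifford_inner_self N hθ hφ h1, h2, hθ.inner_self, mul_one] at h4
  norm_cast at h4
  exact ⟨(inertia N φ).index * charDegree φ ^ 2, by rw [h3, ← h4]; ring⟩

theorem inertia_eq_top_of_forall_le (N : Subgroup G) [N.Normal] {θ : N → ℂ}
    (hθ : IsIrrCharacter N θ) (h : ∀ χ : IrrCharacter G, charDegree χ.1 ≤ charDegree θ) :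
    inertia N θ = ⊤ := by
  obtain ⟨χ, hχ⟩ := exists_irr_mul_dvd_charDegree N ⟨θ, hθ⟩
  have h1 := (Nat.le_of_dvd (charDegree_irr_pos χ) hχ).trans (h χ)
  have h2 := charDegree_pos_of_isIrr hθ
  have h3 := Nat.pos_of_ne_zero (index_ne_zero_of_finite (H := inertia N θ))
  exact index_eq_one.mp (by nlinarith)

section Bound
variable {b : ℕ} (hb : ∀ χ : IrrCharacter G, charDegree (χ : G → ℂ) ≤ b)
include hb

theorem two_mul_charDegree_le (K : Subgroup G) [K.Normal] (hab : ∃ a b : G ⧸ K, a * b ≠ b * a)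
    (θ : IrrCharacter K) : 2 * charDegree θ.1 ≤ b := by
  have := Fintype.ofFinite G
  have := Fintype.ofFinite K
  obtain ⟨χ, hχ, h1⟩ := exists_irr_over K θ.2
  obtain ⟨e, -, -, h3⟩ := exists_charDegree_eq_of_over K hχ θ.2 h1
  have h4 := charDegree_pos_of_isIrr hχ
  by_cases h : 2 ≤ e * (inertia K θ.1).index
  · exact (Nat.mul_le_mul_right _ h).trans (h3 ▸ hb ⟨χ, hχ⟩)
  have h5 : charDegree χ ≤ charDegree θ.1 := by
    rw [h3]
    exact (Nat.mul_le_mul_right _ (show _ ≤ 1 by omega)).trans (one_mul _).le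
  have h6 := restrict_eq_of_over_of_le K hχ.isCharacter θ.2 h1 h5
  obtain ⟨β, hβ⟩ := exists_charDegree_ne_one hab
  obtain ⟨ψ, hψ⟩ := exists_charDegree_eq_of_extends K θ.2 le_top le_top
    (hχ.isCharacter.restrict ⊤) (congrFun h6) (irrCongr (QuotientGroup.congr (K.subgroupOf ⊤) K
      topEquiv (by ext; simp [mem_subgroupOf])) β)
  have h7 := hb ψ
  rw [hψ, index_top, one_mul, charDegree_congr_one (ψ := β.1) (by simp)] at h7
  have h8 := charDegree_irr_pos β
  exact (Nat.mul_le_mul_right _ (by omega)).trans h7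

theorem exists_index_centralizer_le [Nontrivial G] :
    ∃ x : G, x ≠ 1 ∧ (centralizer {x}).index ≤ b ^ 2 := by
  classical
  by_contra h
  push Not at h
  have := Fintype.ofFinite (ConjClasses G)
  have h1 : ∑ C : ConjClasses G, (b ^ 2 + 1) ≤
      ∑ C : ConjClasses G, (C.carrier.ncard + if C = ConjClasses.mk 1 then b ^ 2 else 0) := by
    refine Finset.sum_le_sum fun C _ => ?_
    obtain ⟨x, rfl⟩ := ConjClasses.mk_surjective C
    rw [FGS.ncard_carrier_mk]
    by_cases hx : x = 1
    · have := Nat.pos_of_ne_zero (index_ne_zero_of_finite (H := centralizer {x}))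
      rw [if_pos (by rw [hx])]
      omega
    · exact le_add_right (h x hx)
  have h2 : ∑ χ : IrrCharacter G, (charDegree χ.1 ^ 2 + if χ = irrOne G then b ^ 2 else 0) ≤
      ∑ χ : IrrCharacter G, (b ^ 2 + if χ = irrOne G then 1 else 0) := by
    refine Finset.sum_le_sum fun χ _ => ?_
    by_cases hχ : χ = irrOne G
    · rw [if_pos hχ, if_pos hχ, hχ, charDegree_irrOne, one_pow, add_comm]
    · rw [if_neg hχ, if_neg hχ]
      exact Nat.add_le_add_right (Nat.pow_le_pow_left (hb χ) 2) 0
  rw [Finset.sum_const, Finset.sum_add_distrib, Finset.sum_ite_eq', if_pos (Finset.mem_univ _),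
    ← finsum_eq_sum_of_fintype, Group.sum_card_conj_classes_eq_card, Finset.card_univ,
    ← Nat.card_eq_fintype_card, ← card_irr, smul_eq_mul] at h1
  rw [Finset.sum_add_distrib, Finset.sum_add_distrib, Finset.sum_ite_eq', Finset.sum_ite_eq',
    if_pos (Finset.mem_univ _), if_pos (Finset.mem_univ _), sum_charDegree_sq, Finset.sum_const,
    Finset.card_univ, ← Nat.card_eq_fintype_card, smul_eq_mul] at h2
  have h3 := Finite.one_lt_card (α := G)
  have h4 : Nat.card (IrrCharacter G) ≤ 1 := by nlinarith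
  nlinarith

theorem lt_or_relIndex_normalCore_dvd (H : Subgroup G) :
    (∀ θ : IrrCharacter H, charDegree θ.1 < b) ∨ H.normalCore.relIndex H ∣ b ^ 2 := by
  refine or_iff_not_imp_left.mpr fun h => ?_
  push Not at h
  obtain ⟨θ, hθ⟩ := h
  obtain ⟨χ, hχ⟩ := exists_irr_charDegree_ge H θ
  rw [le_antisymm hθ (hχ.trans (hb χ))]
  exact index_dvd_sq_of_vanish _ θ.2 fun x hx => by_contra fun h =>
    hx (mem_normalCore_of_forall_le H θ.2 (fun χ => (hb χ).trans hθ) h)

theorem comm_commutator_of_le_four (hb4 : b ≤ 4)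
    (hmin : ∀ N : Subgroup G, N.Normal → N ≠ ⊥ → commutator G ≤ N) :
    ∀ x ∈ commutator G, ∀ y ∈ commutator G, x * y = y * x := by
  by_contra hc
  have h1 : ∀ p : ℕ, p.Prime → p ∣ Nat.card G → p = 2 ∨ p = 3 := fun p hp hd => by
    by_contra h
    have := Fact.mk hp
    have h5 : 5 ≤ p := hp.five_le_of_ne_two_of_ne_three (fun e => h (Or.inl e)) fun e => h (Or.inr e)
    have h2 : ∀ χ : IrrCharacter G, charDegree χ.1 < p := fun χ => by have := hb χ; omega
    by_cases h3 : pCore p G = ⊥
    · exact not_dvd_index_pCore_of_lt h2 (by rwa [h3, index_bot])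
    · have h4 := hmin _ inferInstance h3
      exact hc fun x hx y hy => comm_pCore_of_not_dvd (fun χ => Nat.not_dvd_of_pos_of_lt
        (charDegree_irr_pos χ) (h2 χ)) x (h4 hx) y (h4 hy)
  have : Group.IsSolvable G := isSolvable_of_card_dvd_pow_mul_pow (a := Nat.card G)
      (b := Nat.card G) Nat.prime_two Nat.prime_three G
      ((Nat.dvd_iff_prime_pow_dvd_dvd _ _).mpr fun p k hp hd => by
    obtain _ | k := k
    · simp
    have h2 : k + 1 ≤ Nat.card G :=
      (Nat.lt_pow_self hp.one_lt).le.trans (Nat.le_of_dvd Nat.card_pos hd)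
    rcases h1 p hp ((dvd_pow_self p k.succ_ne_zero).trans hd) with rfl | rfl
    · exact (pow_dvd_pow _ h2).mul_right _
    · exact (pow_dvd_pow _ h2).mul_left _)
  have h2 : ⁅commutator G, commutator G⁆ = ⊥ := by_contra fun h =>
    (Grp.commutator_lt_of_isSolvable fun e => h (by rw [e, commutator_bot_left])).not_ge
      (hmin _ inferInstance h)
  exact hc fun x hx y hy => commutatorElement_eq_one_iff_mul_comm.mp
    (mem_bot.mp (h2 ▸ commutator_mem_commutator hx hy))

theorem index_centralizer_commutator_le (hab : ∃ a b : G, a * b ≠ b * a)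
    (hmin : ∀ N : Subgroup G, N.Normal → N ≠ ⊥ → commutator G ≤ N)
    (hc : ∀ x ∈ commutator G, ∀ y ∈ commutator G, x * y = y * x) :
    (centralizer (commutator G : Set G)).index ≤ b := by
  have : IsMulCommutative (commutator G) := ⟨⟨fun a b => Subtype.ext (hc _ a.2 _ b.2)⟩⟩
  obtain ⟨x, y, hxy⟩ := hab
  obtain ⟨lam, hlam⟩ := CommGroup.exists_apply_ne_one_of_hasEnoughRootsOfUnity (commutator G) ℂ
    (a := ⟨_, commutator_mem_commutator (mem_top x) (mem_top y)⟩) fun h =>
      hxy (commutatorElement_eq_one_iff_mul_comm.mp (congrArg Subtype.val h))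
  obtain ⟨χ, hχ⟩ := exists_irr_mul_dvd_charDegree _ ⟨_, isIrrCharacter_hom lam⟩
  refine le_trans (index_antitone ?_) ((Nat.le_of_dvd (charDegree_irr_pos χ)
    ((dvd_mul_right _ _).trans hχ)).trans (hb χ))
  set I := inertia (commutator G) fun a => (lam a : ℂ)
  have : I.Normal := Normal.of_commutator_le G (le_inertia _ (isCharacter_hom lam).isClassFunction)
  rw [← commutator_eq_bot_iff_le_centralizer]
  by_contra h
  have h1 : ⁅I, commutator G⁆ ≤ lam.ker.map (commutator G).subtype := by
    rw [commutator_le]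
    intro t ht a ha
    refine ⟨⟨t * a * t⁻¹, Normal.conj_mem inferInstance _ ha t⟩ * (⟨a, ha⟩ : commutator G)⁻¹, ?_,
      by simp [commutatorElement_def]⟩
    have h' : lam ⟨t * a * t⁻¹, Normal.conj_mem inferInstance _ ha t⟩ = lam ⟨a, ha⟩ :=
      Units.ext ((mem_inertia' _).mp ht ⟨a, ha⟩)
    rw [SetLike.mem_coe, MonoidHom.mem_ker, map_mul, h', map_inv, mul_inv_cancel]
  obtain ⟨z, hz, e⟩ := h1 (hmin _ inferInstance h (commutator_mem_commutator (mem_top x) (mem_top y)))
  obtain rfl : z = ⟨_, commutator_mem_commutator (mem_top x) (mem_top y)⟩ := Subtype.ext e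
  exact hlam hz

end Bound

omit [Finite G] in
theorem comm_centralizer_commutator (hZ : center G = ⊥)
    (hc : ∀ x ∈ commutator G, ∀ y ∈ commutator G, x * y = y * x) :
    ∀ x ∈ centralizer (commutator G : Set G), ∀ y ∈ centralizer (commutator G : Set G),
      x * y = y * x := by
  intro x hx y hy
  rw [← commutatorElement_eq_one_iff_mul_comm, ← mem_bot, ← hZ, mem_center_iff]
  intro g
  have hu := commutator_mem_commutator (mem_top g) (mem_top x)
  have hv := commutator_mem_commutator (mem_top g) (mem_top y)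
  have e1 : g * x * g⁻¹ = ⁅g, x⁆ * x := by simp [commutatorElement_def]
  have e2 : g * y * g⁻¹ = ⁅g, y⁆ * y := by simp [commutatorElement_def]
  rw [← mul_inv_eq_iff_eq_mul, conjugate_commutatorElement, e1, e2]
  generalize ⁅g, x⁆ = u at hu
  generalize ⁅g, y⁆ = v at hv
  have h1 : Commute u v := hc u hu v hv
  have h2 : Commute u x := hx u hu
  have h3 : Commute u y := hy u hu
  have h4 : Commute v x := hx v hv
  have h5 : Commute v y := hy v hv
  calc ⁅u * x, v * y⁆ = u * (x * (v * y) * x⁻¹) * u⁻¹ * (y⁻¹ * v⁻¹) := by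
        simp only [commutatorElement_def]; group
    _ = v * (x * y * x⁻¹ * y⁻¹) * v⁻¹ := by
        rw [((h2.mul_right (h1.mul_right h3)).mul_right h2.inv_right).mul_inv_cancel, ← mul_assoc x,
          ← h4.eq]
        group
    _ = ⁅x, y⁆ := (((h4.mul_right h5).mul_right h4.inv_right).mul_right h5.inv_right).mul_inv_cancel

theorem pow_four_mul_factorial_le {b : ℕ} (h : 5 ≤ b) :
    b ^ 4 * (b / 2).factorial ^ 2 ≤ b.factorial ^ 2 := by
  obtain ⟨c, rfl⟩ : ∃ c, b = c + 3 := ⟨b - 3, by omega⟩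
  rw [show (c + 3) ^ 4 = ((c + 3) ^ 2) ^ 2 by ring, ← mul_pow]
  refine Nat.pow_le_pow_left ?_ 2
  have h1 := Nat.factorial_le (show (c + 3) / 2 ≤ c by omega)
  rw [Nat.factorial_succ, Nat.factorial_succ, Nat.factorial_succ, ← mul_assoc, ← mul_assoc]
  exact Nat.mul_le_mul (by nlinarith) h1

/-- Isaacs 12.23. -/
theorem exists_comm_index_le_factorial_sq (b : ℕ) : ∀ (G : Type u) [Group G] [Finite G],
    (∀ χ : IrrCharacter G, charDegree (χ : G → ℂ) ≤ b) →
    ∃ A : Subgroup G, (∀ x ∈ A, ∀ y ∈ A, x * y = y * x) ∧ A.index ≤ b.factorial ^ 2 := by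
  induction b using Nat.strong_induction_on with | _ b ih => ?_
  intro G _ _ hb
  have := Fintype.ofFinite G
  by_cases hG : ∀ x y : G, x * y = y * x
  · exact ⟨⊤, fun x _ y _ => hG x y, index_top.le.trans (Nat.one_le_pow _ _ b.factorial_pos)⟩
  push Not at hG
  obtain ⟨K, hK, hab, hmin⟩ := exists_max_nonabelian_quotient hG
  have hKb := two_mul_charDegree_le hb K hab
  have hb2 : 2 ≤ b := by simpa [charDegree_irrOne] using hKb (irrOne K)
  have step : ∀ (H : Subgroup G) (c : ℕ), c < b → (∀ θ : IrrCharacter H, charDegree θ.1 ≤ c) →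
      H.index * c.factorial ^ 2 ≤ b.factorial ^ 2 → ∃ A : Subgroup G,
        (∀ x ∈ A, ∀ y ∈ A, x * y = y * x) ∧ A.index ≤ b.factorial ^ 2 := fun H c hc h1 h2 => by
    obtain ⟨A, hA, hi⟩ := ih c hc H h1
    refine ⟨A.map H.subtype, ?_, ?_⟩
    · rintro _ ⟨x, hx, rfl⟩ _ ⟨y, hy, rfl⟩
      rw [← map_mul, hA x hx y hy, map_mul]
    · rw [index_map_subtype, mul_comm]
      exact (Nat.mul_le_mul_left _ hi).trans h2
  have step1 : ∀ H : Subgroup G, (∀ θ : IrrCharacter H, charDegree θ.1 < b) → H.index ≤ b ^ 2 →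
      ∃ A : Subgroup G, (∀ x ∈ A, ∀ y ∈ A, x * y = y * x) ∧ A.index ≤ b.factorial ^ 2 :=
    fun H h1 h2 => step H (b - 1) (by omega) (fun θ => Nat.le_sub_one_of_lt (h1 θ)) (by
      rw [← Nat.mul_factorial_pred (by omega : b ≠ 0), mul_pow]
      exact Nat.mul_le_mul_right _ h2)
  have step2 := step K (b / 2) (by omega) fun θ => by have := hKb θ; omega
  have hπ := QuotientGroup.mk'_surjective K
  have hbQ : ∀ ψ : IrrCharacter (G ⧸ K), charDegree ψ.1 ≤ b := fun ψ => by
    obtain ⟨χ, hχ⟩ := exists_irr_charDegree_eq_of_surjective _ hπ ψ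
    exact hχ ▸ hb χ
  have : Nontrivial (G ⧸ K) := by
    obtain ⟨x, y, h⟩ := hab
    exact ⟨_, _, h⟩
  have hbb : b ≤ b ^ 2 := Nat.le_self_pow two_ne_zero b
  by_cases hZ : center (G ⧸ K) = ⊥; swap
  · have hc := hmin _ inferInstance hZ
    obtain ⟨ψ, hψ⟩ := exists_charDegree_ne_one hab
    have hker := charKer_eq_bot_of_min_nonabelian hmin ψ hψ
    let Z := (center (G ⧸ K)).comap (QuotientGroup.mk' K)
    have := Fintype.ofFinite Z
    have hZi : Z.index = charDegree ψ.1 ^ 2 := by
      rw [index_comap_of_surjective _ hπ, ← charDegree_sq_eq_index_center hc ψ hker]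
    refine step1 Z (fun η => lt_of_not_ge fun hη => ?_) (hZi ▸ Nat.pow_le_pow_left (hbQ ψ) 2)
    obtain ⟨θ, hθ, h1⟩ := exists_irr_over Z η.2
    have h6 := restrict_eq_of_over_of_le Z hθ.isCharacter η.2 h1 ((hb ⟨θ, hθ⟩).trans hη)
    have h7 := isIrr_mul_of_vanish Z (inflateIrr _ hπ ψ).2.isCharacter
      (fun x hx => eq_zero_of_commutator_le_center hc ψ hker hx) (fun z hz => by
        rw [hZi, inflateIrr_apply, norm_eq_of_mem_center ψ.2 hz,
          norm_one_eq_charDegree ψ.2.isCharacter, Nat.cast_pow]) hθ.isCharacter (h6 ▸ η.2)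
    have h8 : charDegree ((inflateIrr _ hπ ψ).1 * θ) = charDegree ψ.1 * charDegree η.1 :=
      charDegree_eq_of_one_eq (by
        rw [Pi.mul_apply, show θ 1 = η.1 1 from congrFun h6 1, ← coe_charDegree_irr η,
          ← coe_charDegree_irr (inflateIrr _ hπ ψ), charDegree_inflateIrr, Nat.cast_mul])
    have h9 := hb ⟨_, h7⟩
    have h10 := charDegree_irr_pos ψ
    rw [h8] at h9
    have : 2 ≤ charDegree ψ.1 := by omega
    nlinarith
  by_cases hc : ∀ x ∈ commutator (G ⧸ K), ∀ y ∈ commutator (G ⧸ K), x * y = y * x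
  · have h1 := comm_centralizer_commutator hZ hc
    have h2 := index_centralizer_commutator_le hbQ hab hmin hc
    set M := centralizer (commutator (G ⧸ K) : Set (G ⧸ K))
    have : IsMulCommutative M := ⟨⟨fun a b => Subtype.ext (h1 _ a.2 _ b.2)⟩⟩
    let N := M.comap (QuotientGroup.mk' K)
    have hN : N.index ≤ b := (index_comap_of_surjective _ hπ).trans_le h2
    by_cases h3 : ∀ θ : IrrCharacter N, charDegree θ.1 < b
    · exact step1 N h3 (hN.trans hbb)
    push Not at h3
    obtain ⟨θ, hθ⟩ := h3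
    obtain ⟨χ, hχ⟩ := exists_irr_charDegree_ge N θ
    have h4 : K.relIndex N ∣ b ^ 2 := by
      rw [le_antisymm hθ (hχ.trans (hb χ))]
      refine index_dvd_sq_of_vanish _ θ.2 fun x hx => by_contra fun h => hx ?_
      rw [mem_subgroupOf, ← QuotientGroup.eq_one_iff, ← mem_bot, ← hZ, mem_center_iff]
      intro g
      obtain ⟨g, rfl⟩ := QuotientGroup.mk_surjective g
      let f := (QuotientGroup.mk' K).subgroupComap M
      have h5 : f ⟨g * x * g⁻¹, Normal.conj_mem inferInstance _ x.2 g⟩ = f x := by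
        refine (CommGroup.forall_apply_eq_apply_iff (M := ℂ) M).mp fun lam => ?_
        have h6 := (inertia_eq_top_iff N).mp (inertia_eq_top_of_forall_le N θ.2
          fun χ => (hb χ).trans hθ) g x
        have h7 := (inertia_eq_top_iff N).mp (inertia_eq_top_of_forall_le N
          (θ.2.mul_linear (lam.comp f)) fun χ => (hb χ).trans (hθ.trans
            (charDegree_congr_one (by simp)).le)) g x
        rw [h6] at h7
        exact Units.ext (mul_left_cancel₀ h h7)
      exact mul_inv_eq_iff_eq_mul.mp (congrArg Subtype.val h5)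
    have h5 := relIndex_mul_index (QuotientGroup.le_comap_mk' K M)
    have h6 : K.index ≤ b ^ 3 := by
      rw [← h5, pow_succ]
      exact Nat.mul_le_mul (Nat.le_of_dvd (by positivity) h4) hN
    refine step2 (le_trans (Nat.mul_le_mul_right _ h6) ?_)
    by_cases h7 : 5 ≤ b
    · exact le_trans (Nat.mul_le_mul_right _ (Nat.pow_le_pow_right (by omega) (by omega)))
        (pow_four_mul_factorial_le h7)
    obtain rfl | rfl | rfl : b = 2 ∨ b = 3 ∨ b = 4 := by omega
    · have h8 : N.index ∣ 2 := by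
        have := Nat.pos_of_ne_zero (index_ne_zero_of_finite (H := N))
        obtain h | h : N.index = 1 ∨ N.index = 2 := by omega
        all_goals simp [h]
      have h9 : IsPGroup 2 (G ⧸ K) := IsPGroup.of_card_dvd_pow (n := 3)
        (by rw [← index_eq_card, ← h5]; exact Nat.mul_dvd_mul h4 h8)
      exact absurd hZ ((nontrivial_iff_ne_bot _).mp h9.center_nontrivial)
    · decide
    · decide
  have h5 : 5 ≤ b := by_contra fun h => hc (comm_commutator_of_le_four hbQ (by omega) hmin)
  obtain ⟨x, hx, hxi⟩ := exists_index_centralizer_le hbQ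
  let H := (centralizer {x}).comap (QuotientGroup.mk' K)
  have hH : H.index ≤ b ^ 2 := (index_comap_of_surjective _ hπ).trans_le hxi
  rcases lt_or_relIndex_normalCore_dvd hb H with h | h
  · exact step1 H h hH
  have h1 : H.normalCore.map (QuotientGroup.mk' K) = ⊥ := by_contra fun h1 => by
    have h2 := (hmin _ (Normal.map inferInstance _ hπ) h1).trans
      ((map_mono H.normalCore_le).trans (map_comap_le _ _))
    have h3 : x ∈ centralizer (commutator (G ⧸ K) : Set (G ⧸ K)) := fun y hy =>
      mem_centralizer_singleton_iff.mp (h2 hy)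
    have h4 := hmin _ inferInstance fun e => hx (mem_bot.mp (e ▸ h3))
    exact hc fun a ha c hc => h4 hc a ha
  rw [Subgroup.map_eq_bot_iff, QuotientGroup.ker_mk'] at h1
  refine step2 (le_trans (Nat.mul_le_mul_right _ ?_) (pow_four_mul_factorial_le h5))
  refine (index_antitone h1).trans ?_
  rw [← relIndex_mul_index H.normalCore_le, show b ^ 4 = b ^ 2 * b ^ 2 by ring]
  exact Nat.mul_le_mul (Nat.le_of_dvd (by positivity) h) hH

end Cfsg.Agent.Char
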