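import Mathlib
import Cfsg.Agent.Char.RelDeg
import Cfsg.Agent.Char.Zeros
import Cfsg.Agent.Char.Codeg

/-! Groups with at most three character degrees have derived length at most three
(Isaacs 12.15). -/

set_option autoImplicit false
set_option linter.unusedSectionVars false
set_option linter.style.haveILetI false

open Cfsg Cfsg.Agent.Char Subgroup
open scoped commutatorElement ComplexConjugate

namespace Cfsg.Agent.Char

universe u

variable {G : Type*} [Group G] [Finite G]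

theorem exists_compl_top {p : ℕ} [hp : Fact p.Prime]
    (h : ∀ χ : IrrCharacter G, charDegree χ.1 ≠ 1 → p ∣ charDegree χ.1) :
    ∃ (M : Subgroup G) (_ : M.Normal), ¬ p ∣ Nat.card M ∧ ∃ k, M.index = p ^ k :=
  ⟨pResidual p G, inferInstance, hp.out.coprime_iff_not_dvd.1
    (Transfer.hasNormalPComplement_iff_coprime.1 (hasNormalPComplement_of_dvd_charDegree h)).symm,
    Transfer.index_pResidual⟩

theorem exists_degree_split [Fintype G] {φ : G → ℂ} (hφ : IsCharacter G φ) {m n : ℕ}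
    (h : ∀ ψ : IrrCharacter G, classInner φ ψ.1 ≠ 0 → charDegree ψ.1 = m ∨ charDegree ψ.1 = n) :
    ∃ a b, charDegree φ = m * a + n * b ∧
      (a = 0 → ∀ ψ : IrrCharacter G, classInner φ ψ.1 ≠ 0 → charDegree ψ.1 ≠ m) ∧
      (b = 0 → ∀ ψ : IrrCharacter G, classInner φ ψ.1 ≠ 0 → charDegree ψ.1 = m) := by
  classical
  choose c hc using fun ψ : IrrCharacter G => hφ.exists_nat_inner ψ.2.isCharacter
  have h0 : ∀ ψ, classInner φ ψ.1 ≠ 0 ↔ c ψ ≠ 0 := fun ψ => by rw [hc, Nat.cast_ne_zero]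
  have : charDegree φ = ∑ ψ : IrrCharacter G, c ψ * charDegree ψ.1 :=
    charDegree_eq_of_one_eq (by
      rw [hφ.isClassFunction.apply_eq_sum_irr]
      push_cast
      exact Finset.sum_congr rfl fun ψ _ => by rw [hc, coe_charDegree_irr])
  refine ⟨∑ ψ ∈ Finset.univ.filter (fun ψ : IrrCharacter G => charDegree ψ.1 = m), c ψ,
    ∑ ψ ∈ Finset.univ.filter (fun ψ : IrrCharacter G => ¬ charDegree ψ.1 = m), c ψ, ?_, ?_, ?_⟩
  · rw [this, ← Finset.sum_filter_add_sum_filter_not _ (fun ψ => charDegree ψ.1 = m),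
      Finset.mul_sum, Finset.mul_sum]
    congr 1 <;> refine Finset.sum_congr rfl fun ψ hψ => ?_
    · rw [(Finset.mem_filter.1 hψ).2, mul_comm]
    · by_cases h1 : c ψ = 0
      · simp [h1]
      · rw [(h ψ ((h0 ψ).2 h1)).resolve_left (Finset.mem_filter.1 hψ).2, mul_comm]
  · intro ha ψ hψ e
    exact (h0 ψ).1 hψ (Finset.sum_eq_zero_iff.1 ha ψ (by simp [e]))
  · intro ha ψ hψ
    by_contra e
    exact (h0 ψ).1 hψ (Finset.sum_eq_zero_iff.1 ha ψ (by simp [e]))

theorem eq_conj_mul_of_inner [Fintype G] {χ χ' : G → ℂ} (hχ : IsIrrCharacter G χ)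
    (hχ' : IsIrrCharacter G χ') (μ : G →* ℂˣ) (h : classInner (χ' * χ) (fun g => μ g) ≠ 0) :
    χ' = fun g => conj (χ g) * μ g := by
  rw [classInner_mul_left] at h
  exact hχ'.eq_of_inner_ne_zero (hχ.conj.mul_linear μ) h

theorem charDegree_mul {χ ψ : G → ℂ} (hχ : IsCharacter G χ) (hψ : IsCharacter G ψ) :
    charDegree (χ * ψ) = charDegree χ * charDegree ψ := charDegree_eq_of_one_eq (by
  rw [Pi.mul_apply, Nat.cast_mul, coe_charDegree_of_isCharacter hχ,
    coe_charDegree_of_isCharacter hψ])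

theorem exists_hom_of_charDegree (ψ : IrrCharacter G) (h : charDegree ψ.1 = 1) :
    ∃ μ : G →* ℂˣ, ψ.1 = fun g => (μ g : ℂ) :=
  exists_hom_of_isCharacter_one ψ.2.isCharacter ((charDegree_eq_one_iff ψ.2.isCharacter).1 h)

theorem charDegree_conj {χ : G → ℂ} (hχ : IsCharacter G χ) :
    charDegree (fun g => conj (χ g)) = charDegree χ := charDegree_congr_one hχ.conj_one

/-- If the indicator-type argument applies, a set of characters closed under multiplication by
`χ` contains all characters of `G / ker χ`. -/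
theorem inner_ne_zero_closure [Fintype G] (χ ψ : IrrCharacter G) (S : IrrCharacter G → Prop)
    (h1 : S (irrOne G)) (hS : ∀ η ξ, S η → classInner (χ.1 * η.1) ξ.1 ≠ 0 → S ξ)
    (hk : charKer χ.1 ≤ charKer ψ.1) : S ψ := by
  classical
  have key : ∀ s : Finset ℂ, IsClassFunction G (fun g => ∏ a ∈ s, (χ.1 g - a)) ∧
      ∀ ξ : IrrCharacter G, ¬ S ξ → classInner (fun g => ∏ a ∈ s, (χ.1 g - a)) ξ.1 = 0 := by
    intro s
    refine ⟨fun g x => Finset.prod_congr rfl fun a _ => by rw [χ.2.isClassFunction g x], ?_⟩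
    induction s using Finset.induction_on with
    | empty =>
      intro ξ hξ
      exact isIrrCharacter_one.inner_eq_zero ξ.2 fun e => hξ
        ((Subtype.ext e : irrOne G = ξ) ▸ h1)
    | insert a s ha ih =>
      intro ξ hξ
      have hc : IsClassFunction G (fun g => ∏ a ∈ s, (χ.1 g - a)) :=
        fun g x => Finset.prod_congr rfl fun a _ => by rw [χ.2.isClassFunction g x]
      generalize hF : (fun g => ∏ a ∈ s, (χ.1 g - a)) = F at ih hc
      have : (fun g => ∏ b ∈ insert a s, (χ.1 g - b)) = χ.1 * F - a • F := funext fun g => by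
        rw [Finset.prod_insert ha, ← hF]; simp [sub_mul]
      rw [this, classInner_sub_left, classInner_smul_left, ih ξ hξ, mul_zero, sub_zero,
        hc.eq_sum_irr, Finset.mul_sum, classInner_sum_left]
      refine Finset.sum_eq_zero fun η _ => ?_
      rw [mul_smul_comm, classInner_smul_left]
      by_cases h : S η
      · rw [by_contra fun h2 => hξ (hS η ξ h h2), mul_zero]
      · rw [ih η h, zero_mul]
  by_contra hψ
  have := (key ((Finset.univ.image χ.1).erase (χ.1 1))).2 ψ hψ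
  rw [classInner_def, mul_eq_zero, inv_eq_zero,
    ← Finset.sum_filter_of_ne (p := fun g => χ.1 g = χ.1 1) fun g _ hg => by_contra fun e =>
      hg (by rw [Finset.prod_eq_zero (i := χ.1 g) (by simp [e]) (sub_self _), zero_mul]),
    Finset.sum_congr rfl fun g hg => by
      rw [(mem_charKer_irr ψ).1 (hk ((mem_charKer_irr χ).2 (Finset.mem_filter.1 hg).2)),
        (Finset.mem_filter.1 hg).2],
    Finset.sum_const, nsmul_eq_mul, mul_eq_zero, mul_eq_zero, Finset.prod_eq_zero_iff] at this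
  rcases this with h | h | ⟨a, ha, h⟩ | h
  · exact card_ne_zero G h
  · exact (Finset.card_pos.2 ⟨1, by simp⟩).ne' (Nat.cast_eq_zero.1 h)
  · exact (Finset.mem_erase.1 ha).1 (sub_eq_zero.1 h).symm
  · exact ψ.2.one_ne_zero (by simpa using h)

section
variable {m n : ℕ} (hcd : ∀ χ : IrrCharacter G,
  charDegree χ.1 = 1 ∨ charDegree χ.1 = m ∨ charDegree χ.1 = n)
include hcd

theorem three_caseA {p a : ℕ} [hp : Fact p.Prime] (hm : m = p ^ a)
    (h : ∀ χ : IrrCharacter G, charDegree χ.1 ≠ 1 → p ∣ charDegree χ.1) :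
    ∀ x ∈ ⁅commutator G, commutator G⁆, ∀ y ∈ ⁅commutator G, commutator G⁆, x * y = y * x := by
  obtain ⟨M, _, h1, k, hk⟩ := exists_compl_top h
  have h2 : ∀ χ : IrrCharacter G, ¬ ⁅M, M⁆ ≤ charKer χ.1 → ∀ j, ¬ charDegree χ.1 ∣ p ^ j := by
    intro χ hχ j hj
    obtain ⟨θ, ⟨e, he, -⟩, h3, -⟩ := exists_under M χ
    exact hχ (h3.1 (Nat.eq_one_of_dvd_coprimes ((hp.out.coprime_iff_not_dvd.2 h1).pow_left j)
      ((he ▸ Dvd.intro_left e rfl : _ ∣ charDegree χ.1).trans hj) (charDegree_irr_dvd_card θ)))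
  have h3 : ∀ χ : IrrCharacter G, ¬ ⁅M, M⁆ ≤ charKer χ.1 → charDegree χ.1 = n := by
    intro χ hχ
    rcases hcd χ with e | e | e
    · exact (h2 χ hχ 0 (by rw [e]; simp)).elim
    · exact (h2 χ hχ a (by rw [e, hm])).elim
    · exact e
  by_cases hM : ∀ χ : IrrCharacter G, ⁅M, M⁆ ≤ charKer χ.1
  · refine comm_commutator_of_rel_two (p := p) (m := m) (n := n) _ M
      (comm_iff_commutator_le.2 hM) ((IsPGroup.of_card (G := G ⧸ M) hk).to_subgroup _)
      fun χ hχ => (hcd χ).resolve_left fun e => hχ ((commutator_le_charKer_iff χ).2 e)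
  push Not at hM
  obtain ⟨ψ, hψ⟩ := hM
  have h4 : ⁅commutator G, commutator G⁆ ≤ ⁅M, M⁆ :=
    commutator_le_of_rel_one (n := m) _ _ fun χ h5 h6 => by
      obtain ⟨θ, ⟨e, he, hed⟩, h7, -⟩ := exists_under M χ
      rw [h7.2 h5, mul_one] at he
      rcases hcd χ with e | e | e
      · exact (h6 ((commutator_le_charKer_iff χ).2 e)).elim
      · exact e
      · exact (h2 ψ hψ k (by rw [h3 ψ hψ, ← e, he, ← hk]; exact hed)).elim
  exact fun x hx y hy => comm_of_rel_one _ h3 x (h4 hx) y (h4 hy)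

theorem three_caseB {r : ℕ} (hr : r.Prime) (L : Subgroup G) [L.Normal] (hm : L.index = m)
    (h1 : m ≠ 1) (h2 : ¬ r ∣ m)
    (h : ∀ ψ : IrrCharacter L, m * charDegree ψ.1 ∈ cdSet G ∨ r ∣ charDegree ψ.1) :
    ∀ x ∈ ⁅L, L⁆, ∀ y ∈ ⁅L, L⁆, x * y = y * x := by
  have hm0 : 0 < m := hm ▸ Nat.pos_of_ne_zero index_ne_zero_of_finite
  have h3 : ∀ ψ : IrrCharacter L, charDegree ψ.1 ≠ 1 →
      m * charDegree ψ.1 = n ∨ r ∣ charDegree ψ.1 := by
    intro ψ hψ
    refine (h ψ).imp_left ?_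
    rintro ⟨χ, hχ⟩
    rcases hcd χ with e | e | e
    · exact (h1 (Nat.eq_one_of_mul_eq_one_right (hχ ▸ e))).elim
    · exact (hψ (Nat.eq_of_mul_eq_mul_left hm0 (by rw [← hχ, e, mul_one]))).elim
    · exact hχ ▸ e
  have h4 : ∀ χ : IrrCharacter G, r ∣ charDegree χ.1 → charDegree χ.1 = n := by
    intro χ hχ
    rcases hcd χ with e | e | e
    · exact (hr.one_lt.ne' (Nat.dvd_one.1 (e ▸ hχ))).elim
    · exact (h2 (e ▸ hχ)).elim
    · exact e
  by_cases hn : r ∣ n
  · refine comm_of_rel_one (n := n) _ fun χ hχ => h4 χ ?_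
    obtain ⟨θ, ⟨e, he, -⟩, h5, -⟩ := exists_under L χ
    refine he ▸ Dvd.dvd.mul_left ?_ e
    rcases h3 θ fun h6 => hχ (h5.1 h6) with h6 | h6
    · exact ((Nat.Prime.dvd_mul hr).1 (h6 ▸ hn)).resolve_left h2
    · exact h6
  · have := comm_of_rel_one (n := n / m) (commutator L) fun θ hθ => by
      rcases h3 θ fun h6 => hθ ((commutator_le_charKer_iff θ).2 h6) with h6 | h6
      · rw [← h6, Nat.mul_div_cancel_left _ hm0]
      · obtain ⟨χ, ⟨e, he, -⟩, -⟩ := exists_over L θ
        have h7 : r ∣ charDegree χ.1 := he ▸ h6.mul_left e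
        exact (hn (h4 χ h7 ▸ h7)).elim
    rw [← map_subtype_commutator]
    rintro _ ⟨x, hx, rfl⟩ _ ⟨y, hy, rfl⟩
    exact congrArg Subtype.val (this x hx y hy)

theorem three_prod [Fintype G] (hc : m.Coprime n) (hmn : m < n) (χ χ' ψ : IrrCharacter G)
    (hχ : charDegree χ.1 = m) (hχ' : charDegree χ'.1 = m) (hψ : charDegree ψ.1 = n)
    (h : classInner (χ'.1 * χ.1) ψ.1 ≠ 0) : ∀ g ∈ commutator G, χ'.1 g = conj (χ.1 g) := by
  have hφ := χ'.2.isCharacter.mul χ.2.isCharacter
  by_cases h1 : ∃ η : IrrCharacter G, classInner (χ'.1 * χ.1) η.1 ≠ 0 ∧ charDegree η.1 = 1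
  · obtain ⟨η, h2, h3⟩ := h1
    obtain ⟨μ, hμ⟩ := exists_hom_of_charDegree η h3
    intro g hg
    rw [eq_conj_mul_of_inner χ.2 χ'.2 μ (hμ ▸ h2)]
    simp [MonoidHom.mem_ker.1 (Abelianization.commutator_subset_ker μ hg)]
  push Not at h1
  obtain ⟨a, b, h2, -, h3⟩ := exists_degree_split hφ fun η hη => (hcd η).resolve_left (h1 η hη)
  rw [charDegree_mul χ'.2.isCharacter χ.2.isCharacter, hχ, hχ'] at h2
  have hb : b ≠ 0 := fun e => hmn.ne' (hψ ▸ h3 e ψ h)
  have h4 : m ∣ b := hc.dvd_of_dvd_mul_left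
    ((Nat.dvd_add_right (dvd_mul_right m a)).1 (h2 ▸ dvd_mul_right m m))
  have h5 := Nat.le_of_dvd (Nat.pos_of_ne_zero hb) h4
  have h6 : 0 < m := hχ ▸ charDegree_irr_pos χ
  nlinarith

theorem three_prod_eq_zero [Fintype G] (hc : m.Coprime n) (hmn : m < n)
    (hG : commutator G ≤ ⁅commutator G, commutator G⁆) (χ χ' ψ : IrrCharacter G)
    (hχ : charDegree χ.1 = m) (hχ' : charDegree χ'.1 = m) (hψ : charDegree ψ.1 = n) :
    classInner (χ'.1 * χ.1) ψ.1 = 0 := by
  classical
  by_contra h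
  have hm0 : 0 < m := hχ ▸ charDegree_irr_pos χ
  have hφ : IsCharacter G ((fun g => conj (χ.1 g)) * ψ.1) :=
    χ.2.conj.isCharacter.mul ψ.2.isCharacter
  have hsw : ∀ η : IrrCharacter G, classInner ((fun g => conj (χ.1 g)) * ψ.1) η.1 ≠ 0 ↔
      classInner (η.1 * χ.1) ψ.1 ≠ 0 := fun η => by
    rw [classInner_mul_left η.1, hφ.inner_symm η.2.isCharacter]
    rfl
  obtain ⟨a, b, h2, h3, h4⟩ := exists_degree_split hφ fun η hη => (hcd η).resolve_left fun e => by
    obtain ⟨μ, hμ⟩ := exists_hom_of_charDegree η e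
    rw [hsw, mul_comm, hμ] at hη
    have := congrFun ((χ.2.mul_linear μ).eq_of_inner_ne_zero ψ.2 hη) 1
    rw [map_one, Units.val_one, mul_one] at this
    exact hmn.ne (hχ ▸ hψ ▸ charDegree_congr_one this)
  rw [charDegree_mul χ.2.conj.isCharacter ψ.2.isCharacter, charDegree_conj χ.2.isCharacter,
    hχ, hψ] at h2
  have ha : a ≠ 0 := fun e => h3 e χ' ((hsw _).2 h) hχ'
  have h5 : n ∣ a := hc.symm.dvd_of_dvd_mul_left
    ((Nat.dvd_add_left (dvd_mul_right n b)).1 (h2 ▸ dvd_mul_left n m))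
  have h6 := Nat.le_of_dvd (Nat.pos_of_ne_zero ha) h5
  have hb : b = 0 := by
    by_contra hb
    have := Nat.pos_of_ne_zero hb
    nlinarith
  have h7 : ∀ g ∈ commutator G, χ.1 g ≠ 0 → ψ.1 g = ψ.1 1 := by
    intro g hg h0
    have : ((fun g => conj (χ.1 g)) * ψ.1) g * conj (χ.1 1) =
        ((fun g => conj (χ.1 g)) * ψ.1) 1 * conj (χ.1 g) := by
      rw [hφ.isClassFunction.apply_eq_sum_irr, hφ.isClassFunction.apply_eq_sum_irr 1,
        Finset.sum_mul, Finset.sum_mul]
      refine Finset.sum_congr rfl fun η _ => ?_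
      by_cases hη : classInner ((fun g => conj (χ.1 g)) * ψ.1) η.1 = 0
      · simp [hη]
      have := three_prod hcd hc hmn χ η ψ hχ (h4 hb η hη) hψ ((hsw η).1 hη)
      rw [this g hg, this 1 (one_mem _)]
      ring
    have h8 : conj (χ.1 g) * conj (χ.1 1) ≠ 0 := by simp [h0, χ.2.one_ne_zero]
    apply mul_left_cancel₀ h8
    simp only [Pi.mul_apply] at this
    linear_combination this
  obtain ⟨θ, ⟨e, he, -⟩, h8, h9⟩ := exists_under (commutator G) ψ
  obtain ⟨q, hq, hqd⟩ := Nat.exists_prime_and_dvd (n := charDegree θ.1) fun e => by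
    have := (commutator_le_charKer_iff ψ).1 (hG.trans (h8.1 e))
    omega
  have := Fact.mk hq
  obtain ⟨Q⟩ : Nonempty (Sylow q (commutator G)) := inferInstance
  have hQ : (Q : Subgroup (commutator G)) ≤ charKer θ.1 := by
    intro x hx
    obtain ⟨k, hk⟩ := Q.2 ⟨x, hx⟩
    refine h9 x ((mem_charKer_irr ψ).2 (h7 x x.2 (χ.2.isCharacter.ne_zero_of_not_dvd hq
      (coe_charDegree_irr χ).symm (fun hd => ?_) (k := k)
      (congrArg (fun y => (y.1 : G)) hk))))
    exact hq.one_lt.ne' (Nat.eq_one_of_dvd_coprimes hc (hχ ▸ hd) (hψ ▸ he ▸ hqd.mul_left e))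
  refine Q.not_dvd_index (Nat.dvd_of_mul_dvd_mul_left (Nat.card_pos (α := Q.1)) ?_)
  rw [card_mul_index]
  exact (mul_dvd_mul (card_dvd_of_le hQ) hqd).trans (Codeg.card_ker_mul_charDegree_dvd θ.2)

theorem three_perfect (hc : m.Coprime n) (hG : commutator G ≤ ⁅commutator G, commutator G⁆) :
    commutator G = ⊥ := by
  classical
  letI := Fintype.ofFinite G
  have key : ∀ k, (∀ χ : IrrCharacter G, charDegree χ.1 = 1 ∨ charDegree χ.1 = k) →
      commutator G = ⊥ := fun k h => le_bot_iff.1 (hG.trans (commutator_le_of_rel_one (n := k) ⊥ _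
        fun χ _ hχ => (h χ).resolve_left fun e => hχ ((commutator_le_charKer_iff χ).2 e)))
  wlog hmn : m ≤ n generalizing m n
  · exact this (fun χ => (hcd χ).imp_right Or.symm) hc.symm (le_of_not_ge hmn)
  by_contra hne
  obtain ⟨χ, h1, h2⟩ : ∃ χ : IrrCharacter G, charDegree χ.1 ≠ 1 ∧ charDegree χ.1 ≠ n := by
    by_contra h
    push Not at h
    exact hne (key n fun χ => or_iff_not_imp_left.2 (h χ))
  have hχ := ((hcd χ).resolve_left h1).resolve_right h2
  have hlt : m < n := lt_of_le_of_ne hmn (hχ ▸ h2)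
  refine h1 ((commutator_le_charKer_iff χ).1 (hG.trans (commutator_le_of_rel_one (n := m) _ _
    fun ψ h3 h4 => ((hcd ψ).resolve_left fun e =>
      h4 ((commutator_le_charKer_iff ψ).2 e)).resolve_right ?_)))
  refine inner_ne_zero_closure χ ψ (fun η => charDegree η.1 ≠ n) ?_ (fun η ξ h5 h6 h7 => ?_) h3
  · have := charDegree_irr_pos χ
    rw [charDegree_irrOne]
    omega
  rcases hcd η with e | e | e
  · obtain ⟨μ, hμ⟩ := exists_hom_of_charDegree η e
    rw [hμ] at h6
    have := congrFun ((χ.2.mul_linear μ).eq_of_inner_ne_zero ξ.2 h6) 1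
    rw [map_one, Units.val_one, mul_one] at this
    exact h2 (h7 ▸ charDegree_congr_one this)
  · exact h6 (three_prod_eq_zero hcd hc hlt hG η χ ξ e hχ h7)
  · exact h5 e

end

theorem derivedSeries_three_eq_bot (G : Type u) [Group G] [Finite G] : ∀ m n : ℕ,
    (∀ χ : IrrCharacter G, charDegree χ.1 = 1 ∨ charDegree χ.1 = m ∨ charDegree χ.1 = n) →
      derivedSeries G 3 = ⊥ := by
  induction hk : Nat.card G using Nat.strong_induction_on generalizing G with
  | _ k ih =>
    intro m n hcd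
    have hcd' := fun χ => (hcd χ).imp_right Or.symm
    suffices h : ∀ x ∈ ⁅commutator G, commutator G⁆, ∀ y ∈ ⁅commutator G, commutator G⁆,
        x * y = y * x by
      rw [eq_bot_iff, derivedSeries_succ, commutator_le]
      exact fun x hx y hy => commutatorElement_eq_one_iff_mul_comm.2 (h x hx y hy)
    by_cases hG : commutator G ≤ ⁅commutator G, commutator G⁆
    · suffices h : commutator G = ⊥ by simp [h]
      by_cases hc : m.Coprime n
      · exact three_perfect hcd hc hG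
      by_contra hne
      obtain ⟨p, hp, h1, h2⟩ := Nat.Prime.not_coprime_iff_dvd.1 hc
      have := Fact.mk hp
      have h3 : ∀ χ : IrrCharacter G, charDegree χ.1 ≠ 1 → p ∣ charDegree χ.1 := fun χ hχ => by
        rcases (hcd χ).resolve_left hχ with e | e <;> rwa [e]
      obtain ⟨M, _, h4, j, hj⟩ := exists_compl_top h3
      obtain ⟨χ, hχ⟩ : ∃ χ : IrrCharacter G, charDegree χ.1 ≠ 1 := by
        by_contra h
        push Not at h
        exact hne (eq_bot_iff.2 fun x hx => eq_one_of_forall_irr fun χ =>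
          (mem_charKer_irr χ).1 ((commutator_le_charKer_iff χ).2 (h χ) hx))
      have hlt : Nat.card M < k := by
        rw [← hk, ← card_top (G := G)]
        refine Grp.card_lt_of_lt (lt_top_iff_ne_top.2 fun e => h4 ?_)
        rw [e, card_top]
        exact (h3 χ hχ).trans (charDegree_irr_dvd_card χ)
      have : Group.IsSolvable M := ⟨3, ih _ hlt M rfl (ordCompl[p] m) (ordCompl[p] n) fun θ => by
        obtain ⟨ψ, ⟨e, he, hed⟩, -⟩ := exists_over M θ
        obtain ⟨i, -, rfl⟩ := (Nat.dvd_prime_pow hp).1 (hj ▸ hed)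
        have h5 := Nat.ordCompl_pow_mul_of_not_dvd i hp
          fun h => h4 (h.trans (charDegree_irr_dvd_card θ))
        rw [← he] at h5
        rw [← h5]
        rcases hcd ψ with e | e | e <;> simp [e]⟩
      have := (IsPGroup.of_card (G := G ⧸ M) hj).isNilpotent
      have : Group.IsSolvable G := (Group.isSolvable_iff_subgroup_quotient M).2
        ⟨inferInstance, inferInstance⟩
      exact (Group.IsSolvable.commutator_lt_of_ne_bot hne).not_ge hG
    rcases degree_dichotomy hG with ⟨p, K, _, hp, hP, hab⟩ | ⟨r, L, _, hr, hL, h1, h2, h3, h4⟩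
    · have := Fact.mk hp
      obtain ⟨β, hβ⟩ := exists_charDegree_ne_one hab
      obtain ⟨j, hj⟩ := hP.exists_card_eq
      obtain ⟨a, -, ha⟩ := (Nat.dvd_prime_pow hp).1 (hj ▸ charDegree_irr_dvd_card β)
      obtain ⟨ψ, hψ⟩ := cdSet_subset_of_surjective _ (QuotientGroup.mk'_surjective K) ⟨β, rfl⟩
      have h : ∀ χ : IrrCharacter G, charDegree χ.1 ≠ 1 → p ∣ charDegree χ.1 := by
        intro χ hχ
        by_contra hd
        obtain ⟨ξ, hξ⟩ := exists_mul_degree_of_coprime K β χ (by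
          rw [K.index_eq_card, hj]
          exact ((Nat.Prime.coprime_iff_not_dvd hp).2 hd).symm.pow_right _)
        have h1 := charDegree_irr_pos β
        have h2 := charDegree_irr_pos χ
        have h3 : charDegree β.1 ≠ charDegree χ.1 := fun e =>
          hd (e ▸ ha ▸ dvd_pow_self p fun h => hβ (by rw [ha, h, pow_zero]))
        have h4 : charDegree β.1 < charDegree ξ.1 := hξ ▸ lt_mul_of_one_lt_right h1 (by omega)
        have h5 : charDegree χ.1 < charDegree ξ.1 := hξ ▸ lt_mul_of_one_lt_left h2 (by omega)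
        have h6 := hcd ψ
        have h7 := hcd χ
        have h8 := hcd ξ
        omega
      rcases (hcd ψ).resolve_left (hψ ▸ hβ) with e | e
      · exact three_caseA hcd (e ▸ hψ ▸ ha) h
      · exact three_caseA hcd' (e ▸ hψ ▸ ha) h
    · have h5 := commutator_mono hL hL
      obtain ⟨ψ, hψ⟩ := h2
      rcases (hcd ψ).resolve_left (hψ ▸ h1) with e | e
      · rw [hψ] at e
        exact fun x hx y hy => three_caseB hcd hr L e (e ▸ h1) (e ▸ h3) (e ▸ h4) x (h5 hx) y (h5 hy)
      · rw [hψ] at e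
        exact fun x hx y hy => three_caseB hcd' hr L e (e ▸ h1) (e ▸ h3) (e ▸ h4) x (h5 hx) y (h5 hy)

end Cfsg.Agent.Char
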