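import Cfsg.Agent.Char.Clifford
import Cfsg.Agent.Char.Quot
import Cfsg.Agent.Char.CycCoset

/-!
Characters of finite direct products `Π i, G i`; regular wreath products `D ≀ᵣ Q`: base group,
Kaloujnine–Krasner embedding; a wreath product of an M-group with a group of prime order is an
M-group (Dade).
-/

set_option linter.dupNamespace false
set_option linter.unusedSectionVars false
set_option linter.style.haveILetI false
open scoped ComplexConjugate
open Cfsg

namespace Cfsg.Agent.Char
open Cfsg.Agent.Char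

section Pi
variable {ι : Type*} [Fintype ι] [DecidableEq ι] {G : ι → Type*} [∀ i, Group (G i)]

/-- outer product of functions on the factors -/
noncomputable def piFun (θ : ∀ i, G i → ℂ) : (∀ i, G i) → ℂ := fun f => ∏ i, θ i (f i)

theorem isCharacter_piFun {θ : ∀ i, G i → ℂ} (h : ∀ i, IsCharacter (G i) (θ i)) :
    IsCharacter (∀ i, G i) (piFun θ) := by
  have : piFun θ = ∏ i, fun f : (∀ i, G i) => θ i (f i) := by
    ext f; simp [piFun]
  rw [this]
  exact Finset.prod_induction _ (IsCharacter _) (fun _ _ a b => a.mul b) isCharacter_one'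
    fun i _ => (h i).comp (Pi.evalMonoidHom G i)

variable [∀ i, Fintype (G i)]

theorem classInner_piFun (θ θ' : ∀ i, G i → ℂ) :
    classInner (piFun θ) (piFun θ') = ∏ i, classInner (θ i) (θ' i) := by
  simp only [classInner_def, piFun, Nat.card_pi, Nat.cast_prod, Finset.prod_mul_distrib,
    Finset.prod_inv_distrib, map_prod]
  rw [Finset.prod_univ_sum, Fintype.piFinset_univ]
  simp only [Finset.prod_mul_distrib]

theorem isIrr_piFun {θ : ∀ i, G i → ℂ} (h : ∀ i, IsIrrCharacter (G i) (θ i)) :
    IsIrrCharacter (∀ i, G i) (piFun θ) :=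
  (isCharacter_piFun fun i => (h i).isCharacter).isIrr_of_inner_self (by
    rw [classInner_piFun]
    exact Finset.prod_eq_one fun i _ => (h i).inner_self)

theorem exists_piFun {χ : (∀ i, G i) → ℂ} (hχ : IsIrrCharacter _ χ) :
    ∃ θ : ∀ i, G i → ℂ, (∀ i, IsIrrCharacter (G i) (θ i)) ∧ χ = piFun θ := by
  classical
  have h1 : regChar (∀ i, G i) = ∑ θ : (∀ i, IrrCharacter (G i)),
      (∏ i, (θ i).1 1) • piFun fun i => (θ i).1 := by
    have : regChar (∀ i, G i) = piFun fun i => regChar (G i) := by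
      ext f
      by_cases hf : f = 1
      · subst hf
        simp [piFun, regChar_one, Nat.card_pi]
      · obtain ⟨i, hi⟩ := Function.ne_iff.1 hf
        rw [regChar_of_ne_one hf]
        exact (Finset.prod_eq_zero (Finset.mem_univ i) (regChar_of_ne_one (g := f i) hi)).symm
    rw [this]
    ext f
    simp only [piFun, regChar_eq_sum, Finset.sum_apply, Pi.smul_apply, smul_eq_mul]
    rw [Finset.prod_univ_sum, Fintype.piFinset_univ]
    simp only [Finset.prod_mul_distrib]
  have h2 := classInner_regChar_right χ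
  rw [h1, classInner_sum_right] at h2
  obtain ⟨θ, -, hθ⟩ := Finset.exists_ne_zero_of_sum_ne_zero (h2 ▸ hχ.one_ne_zero)
  rw [classInner_smul_right] at hθ
  exact ⟨_, fun i => (θ i).2, hχ.eq_of_inner_ne_zero (isIrr_piFun fun i => (θ i).2)
    (right_ne_zero_of_mul hθ)⟩

theorem piFun_injective {θ θ' : ∀ i, G i → ℂ} (h : ∀ i, IsIrrCharacter (G i) (θ i))
    (h' : ∀ i, IsIrrCharacter (G i) (θ' i)) (e : piFun θ = piFun θ') : θ = θ' := by
  have h1 := (isIrr_piFun h).inner_self
  nth_rewrite 2 [e] at h1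
  rw [classInner_piFun] at h1
  funext i
  exact (h i).eq_of_inner_ne_zero (h' i) fun h0 =>
    zero_ne_one ((Finset.prod_eq_zero (Finset.mem_univ i) h0).symm.trans h1)

end Pi

section Mono
variable {G : Type*} [Group G] [Fintype G]

/-- `χ` is monomial -/
def IsMono (χ : G → ℂ) : Prop :=
  ∃ (H : Subgroup G) (lam : H →* ℂˣ), χ = indFun H (fun h => (lam h : ℂ))

theorem isMono_of_hom {K : Type*} [Group K] [Fintype K] {χ : G → ℂ} (hχ : IsIrrCharacter G χ)
    (j : K →* G) (hj : Function.Injective j) (μ : K →* ℂˣ)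
    (h : classInner (fun k => χ (j k)) (fun k => (μ k : ℂ)) ≠ 0)
    (hd : Nat.card G ≤ charDegree χ * Nat.card K) : IsMono χ := by
  classical
  let e := MonoidHom.ofInjective hj
  let lam : j.range →* ℂˣ := μ.comp e.symm.toMonoidHom
  have hc := (isIrrCharacter_linear lam).isCharacter
  have h1 : classInner (indFun j.range fun x => (lam x : ℂ)) χ ≠ 0 := by
    rw [classInner_indFun_eq_restrict _ hc.isGen hχ.isGen,
      ← classInner_comp_mulEquiv e]
    have : (fun k => (lam (e k) : ℂ)) = fun k => (μ k : ℂ) := by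
      ext k
      simp [lam]
    rw [this]
    exact h
  refine ⟨j.range, lam, ((isCharacter_indFun _ hc).eq_of_inner_ne_zero_of_one_eq hχ h1 ?_).symm⟩
  have h2 := (isCharacter_indFun _ hc).one_le_of_inner_ne_zero hχ h1
  rw [indFun_one, map_one, Units.val_one, mul_one, ← coe_charDegree_of_isCharacter hχ.isCharacter]
    at *
  have h3 : charDegree χ ≤ j.range.index := by exact_mod_cast h2
  rw [← j.range.index_mul_card, ← Nat.card_congr e.toEquiv] at hd
  rw [le_antisymm (Nat.le_of_mul_le_mul_right hd Nat.card_pos) h3]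

theorem exists_irr_between_hom {K : Type*} [Group K] [Fintype K] (i : K →* G) {χ : G → ℂ}
    (hχ : IsClassFunction G χ) {θ : K → ℂ} (h : classInner (fun k => χ (i k)) θ ≠ 0) :
    ∃ ψ : G → ℂ, IsIrrCharacter G ψ ∧ classInner χ ψ ≠ 0 ∧
      classInner (fun k => ψ (i k)) θ ≠ 0 := by
  have h1 : (fun k => χ (i k)) = ∑ ψ : IrrCharacter G, classInner χ ψ • fun k => ψ.1 (i k) := by
    ext k
    rw [hχ.apply_eq_sum_irr]
    simp
  rw [h1, classInner_sum_left] at h
  obtain ⟨ψ, -, hψ⟩ := Finset.exists_ne_zero_of_sum_ne_zero h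
  rw [classInner_smul_left] at hψ
  exact ⟨ψ.1, ψ.2, left_ne_zero_of_mul hψ, right_ne_zero_of_mul hψ⟩

theorem exists_linear_over {K : Type*} [Group K] [Fintype K] (i : K →* G)
    (hi : Function.Injective i) (hc : commutator G ≤ i.range) (lam : G →* ℂˣ) {χ : G → ℂ}
    (hχ : IsClassFunction G χ)
    (h : classInner (fun k => χ (i k)) (fun k => (lam (i k) : ℂ)) ≠ 0) :
    ∃ μ : G →* ℂˣ, classInner χ (fun g => (μ g : ℂ)) ≠ 0 := by
  obtain ⟨ψ, hψ, h1, h2⟩ := exists_irr_between_hom i hχ h
  have hψ' := hψ.mul_linear lam⁻¹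
  have hk : ∀ k, ψ (i k) * (lam⁻¹ (i k) : ℂˣ) = ψ 1 * (lam⁻¹ 1 : ℂˣ) := by
    by_contra hk
    have := cavg_irr_of_not_ker i hi (Subgroup.Normal.of_commutator_le _ hc) hψ' hk 1
    apply h2
    rw [classInner_def, ← this, cavg]
    congr 1
    refine Finset.sum_congr rfl fun k _ => ?_
    rw [mul_one, ← (isIrrCharacter_linear lam).map_inv]
    simp
  have h3 := one_eq_one_of_commutator_le hψ' (hc.trans (by
    rintro _ ⟨k, rfl⟩
    exact (mem_charKer_iff hψ'.isCharacter).2 (hk k)))
  obtain ⟨μ, hμ⟩ := hψ.isCharacter.exists_linear (by simpa using h3)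
  exact ⟨μ, hμ ▸ h1⟩

end Mono

section Wr
open RegularWreathProduct
variable {D Q : Type*} [Group D] [Group Q]

/-- the base group of a regular wreath product -/
def wrBase (D Q : Type*) [Group D] [Group Q] : (Q → D) →* D ≀ᵣ Q where
  toFun f := ⟨f, 1⟩
  map_one' := rfl
  map_mul' a b := by ext <;> simp

theorem wrBase_injective : Function.Injective (wrBase D Q) := fun _ _ h =>
  congrArg RegularWreathProduct.left h

theorem wrBase_range : (wrBase D Q).range = (rightHom : D ≀ᵣ Q →* Q).ker := by
  ext w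
  constructor
  · rintro ⟨f, rfl⟩; rfl
  · intro h
    exact ⟨w.left, RegularWreathProduct.ext rfl (MonoidHom.mem_ker.1 h).symm⟩

instance wrBase_normal : (wrBase D Q).range.Normal := by
  rw [wrBase_range]; infer_instance

theorem wrBase_index : (wrBase D Q).range.index = Nat.card Q := by
  rw [wrBase_range, Subgroup.index_ker, MonoidHom.range_eq_top.2 fun q => ⟨inl q, rfl⟩,
    Subgroup.card_top]

theorem conj_wrBase (w : D ≀ᵣ Q) (f : Q → D) : w * wrBase D Q f * w⁻¹ =
    wrBase D Q (w.left * (fun x => f (w.right⁻¹ * x)) * w.left⁻¹) := by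
  ext <;> simp [wrBase]

/-- functoriality in the first variable -/
def wrMap {D' : Type*} [Group D'] (φ : D →* D') (Q : Type*) [Group Q] : D ≀ᵣ Q →* D' ≀ᵣ Q where
  toFun w := ⟨fun x => φ (w.left x), w.right⟩
  map_one' := by ext <;> simp
  map_mul' a b := by ext <;> simp

theorem wrMap_injective {D' : Type*} [Group D'] {φ : D →* D'} (h : Function.Injective φ) :
    Function.Injective (wrMap φ Q) := fun a b e =>
  RegularWreathProduct.ext (funext fun x => h (congrFun (congrArg RegularWreathProduct.left e) x))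
    (congrArg (RegularWreathProduct.right (D := D')) e)

/-- product of the coordinates -/
noncomputable def wrProd {A : Type*} [CommGroup A] [Fintype Q] (φ : D →* A) : D ≀ᵣ Q →* A where
  toFun w := ∏ x, φ (w.left x)
  map_one' := by simp
  map_mul' a b := by
    simp only [mul_left, Pi.mul_apply, map_mul, Finset.prod_mul_distrib]
    congr 1
    exact Fintype.prod_equiv (Equiv.mulLeft a.right⁻¹) _ _ fun _ => rfl

/-- Kaloujnine–Krasner -/
theorem exists_wr_embed {G : Type*} [Group G] (N : Subgroup G) [N.Normal] :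
    ∃ f : G →* N ≀ᵣ (G ⧸ N), Function.Injective f := by
  have hm : ∀ (g : G) (x : G ⧸ N), x.out⁻¹ * g * ((g : G ⧸ N)⁻¹ * x).out ∈ N := fun g x => by
    rw [← QuotientGroup.eq_one_iff]
    simp
  refine ⟨MonoidHom.mk' (fun g => ⟨fun x => ⟨_, hm g x⟩, g⟩) fun a b => ?_, ?_⟩
  · ext x
    · simp [mul_assoc]
    · simp
  · rw [injective_iff_map_eq_one]
    intro g hg
    have h1 : (g : G ⧸ N) = 1 := congrArg RegularWreathProduct.right hg
    have h2 : (1 : G ⧸ N).out⁻¹ * g * ((g : G ⧸ N)⁻¹ * 1).out = 1 :=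
      congrArg Subtype.val (congrFun (congrArg RegularWreathProduct.left hg) 1)
    rw [h1, inv_one, one_mul] at h2
    calc g = (1 : G ⧸ N).out * ((1 : G ⧸ N).out⁻¹ * g * (1 : G ⧸ N).out) * (1 : G ⧸ N).out⁻¹ := by
          group
      _ = 1 := by rw [h2]; group

variable [Fintype D] [Fintype Q] [DecidableEq Q]

theorem piFun_conj {θ : Q → D → ℂ} (h : ∀ x, IsClassFunction D (θ x)) (w : D ≀ᵣ Q) (f : Q → D) :
    piFun θ (w.left * (fun x => f (w.right⁻¹ * x)) * w.left⁻¹) =
      piFun (fun x => θ (w.right * x)) f := by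
  simp only [piFun, Pi.mul_apply, Pi.inv_apply]
  refine Fintype.prod_equiv (Equiv.mulLeft w.right⁻¹) _ _ fun x => ?_
  rw [h x]
  simp

/-- a function on `Q → D` viewed on the base group -/
noncomputable def onBase (Θ : (Q → D) → ℂ) : (wrBase D Q).range → ℂ := fun b => Θ b.1.left

theorem onBase_eq (Θ : (Q → D) → ℂ) :
    onBase Θ = fun b => Θ ((MonoidHom.ofInjective (wrBase_injective (D := D) (Q := Q))).symm b) := by
  ext ⟨_, f, rfl⟩
  exact congrArg Θ ((MonoidHom.ofInjective wrBase_injective).symm_apply_apply f).symm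

theorem mem_inertia_onBase {θ : Q → D → ℂ} (h : ∀ x, IsIrrCharacter D (θ x)) (w : D ≀ᵣ Q) :
    w ∈ inertia (wrBase D Q).range (onBase (piFun θ)) ↔ ∀ x, θ (w.right * x) = θ x := by
  have key : ∀ b : (wrBase D Q).range, conjChar _ (onBase (piFun θ)) w b =
      onBase (piFun fun x => θ (w.right * x)) b := by
    rintro ⟨_, f, rfl⟩
    rw [conjChar_apply]
    simp only [onBase, conj_wrBase]
    exact piFun_conj (fun x => (h x).isClassFunction) w f
  rw [mem_inertia, funext key]
  constructor
  · intro e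
    have : (piFun fun x => θ (w.right * x)) = piFun θ := funext fun f => congrFun e ⟨_, f, rfl⟩
    exact congrFun (piFun_injective (fun x => h _) h this)
  · intro e
    rw [funext e]

theorem isMono_wr [Fintype (D ≀ᵣ Q)] (hQ : (Nat.card Q).Prime)
    (hD : ∀ θ : D → ℂ, IsIrrCharacter D θ → IsMono θ) {χ : D ≀ᵣ Q → ℂ}
    (hχ : IsIrrCharacter _ χ) : IsMono χ := by
  classical
  set B := (wrBase D Q).range
  let e := MonoidHom.ofInjective (wrBase_injective (D := D) (Q := Q))
  obtain ⟨Θ, hΘ, h0⟩ := exists_irr_inner_restrict_ne_zero B hχ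
  obtain ⟨θ, hθ, e1⟩ := exists_piFun (hΘ.comp_mulEquiv e)
  obtain rfl : Θ = onBase (piFun θ) := by
    rw [onBase_eq, ← e1]
    ext b
    exact congrArg Θ (e.apply_symm_apply b).symm
  have hdeg := clifford_degree B hχ hΘ h0
  obtain ⟨m, hm⟩ := (hχ.isCharacter.restrict B).exists_nat_inner hΘ.isCharacter
  have hm0 : 0 < m := Nat.pos_of_ne_zero fun h => h0 (by rw [hm, h, Nat.cast_zero])
  have h1 : classInner (fun f => χ (wrBase D Q f)) (piFun θ) ≠ 0 := by
    rw [← classInner_comp_mulEquiv e] at h0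
    exact h0
  choose! H lam hH using hD
  have hidx : ∀ x, θ x 1 = (H (θ x)).index := fun x => by
    conv_lhs => rw [hH _ (hθ x), indFun_one]
    simp
  have hd : (inertia B (onBase (piFun θ))).index * ∏ x, (H (θ x)).index ≤ charDegree χ := by
    rw [hm, ← coe_charDegree_of_isCharacter hχ.isCharacter] at hdeg
    have : onBase (piFun θ) 1 = (∏ x, (H (θ x)).index : ℕ) := by
      push_cast
      exact Finset.prod_congr rfl fun x _ => hidx x
    rw [this] at hdeg
    have h2 : charDegree χ = m * (inertia B (onBase (piFun θ))).index * ∏ x, (H (θ x)).index := by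
      exact_mod_cast hdeg
    rw [h2, mul_assoc]
    exact Nat.le_mul_of_pos_left _ hm0
  let j : (∀ x : Q, H (θ x)) →* (Q → D) :=
    MonoidHom.pi fun x => (H (θ x)).subtype.comp (Pi.evalMonoidHom _ x)
  have h2 : classInner (fun k => χ (wrBase D Q (j k)))
      (piFun fun x (k : H (θ x)) => (lam (θ x) k : ℂ)) ≠ 0 := by
    have hc := hχ.isCharacter.comp (wrBase D Q)
    refine inner_comp_ne_zero_of_sub j (isIrr_piFun hθ).isCharacter
      (hc.sub_irr (isIrr_piFun hθ) h1)
      (isCharacter_piFun fun x => (isIrrCharacter_linear _).isCharacter) ?_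
    have : (fun k => piFun θ (j k)) = piFun fun x (k : H (θ x)) => θ x k := rfl
    rw [this, classInner_piFun, Finset.prod_ne_zero_iff]
    intro x _
    rw [← classInner_indFun_eq_restrict _ (isIrrCharacter_linear _).isGen (hθ x).isGen,
      ← hH _ (hθ x), (hθ x).inner_self]
    exact one_ne_zero
  have hcard : Nat.card (D ≀ᵣ Q) = Nat.card Q * (∏ x, (H (θ x)).index) *
      ∏ x, Nat.card (H (θ x)) := by
    rw [mul_assoc, ← Finset.prod_mul_distrib, RegularWreathProduct.card, mul_comm]
    simp only [Subgroup.index_mul_card, Finset.prod_const, Finset.card_univ,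
      Fintype.card_eq_nat_card]
  have hle : B ≤ inertia B (onBase (piFun θ)) := le_inertia B hΘ.isClassFunction
  have hdv := Subgroup.index_dvd_of_le hle
  rw [wrBase_index] at hdv
  rcases (Nat.dvd_prime hQ).1 hdv with h3 | h3
  · rw [Subgroup.index_eq_one] at h3
    have h4 : ∀ x, θ x = θ 1 := fun x => by
      have := (mem_inertia_onBase hθ (inl x)).1 (h3 ▸ Subgroup.mem_top _) 1
      simpa using this
    obtain ⟨t, rfl⟩ : ∃ t, θ = fun _ => t := ⟨_, funext h4⟩
    haveI : Fact (Nat.card Q).Prime := ⟨hQ⟩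
    haveI : IsCyclic Q := isCyclic_of_prime_card rfl
    letI : Fintype (H t ≀ᵣ Q) := Fintype.ofFinite _
    obtain ⟨μ, hμ⟩ := exists_linear_over (wrBase (H t) Q) wrBase_injective (by
      rw [wrBase_range]
      letI : CommGroup Q := IsCyclic.commGroup
      exact Abelianization.commutator_subset_ker _) (wrProd (lam t))
      (hχ.isClassFunction.comp (wrMap (H t).subtype Q)) (by
        have : (fun k => ((wrProd (lam t)) ((wrBase (H t) Q) k) : ℂ)) =
            piFun fun (_ : Q) (k : H t) => (lam t k : ℂ) := by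
          ext k
          simp [wrProd, wrBase, piFun]
        rw [this]
        exact h2)
    refine isMono_of_hom hχ (wrMap (H t).subtype Q) (wrMap_injective (H t).subtype_injective) μ
      hμ ?_
    rw [h3, Subgroup.index_top, one_mul] at hd
    rw [hcard, RegularWreathProduct.card]
    simp only [Finset.prod_const, Finset.card_univ, Fintype.card_eq_nat_card] at hd ⊢
    nlinarith [Nat.mul_le_mul_right (Nat.card (H t) ^ Nat.card Q * Nat.card Q) hd]
  · refine isMono_of_hom hχ ((wrBase D Q).comp j) (wrBase_injective.comp fun a b h =>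
      funext fun x => Subtype.ext (congrFun h x))
      (∏ x, (lam (θ x)).comp (Pi.evalMonoidHom _ x)) ?_ ?_
    · have : (fun k => ((∏ x, (lam (θ x)).comp (Pi.evalMonoidHom (fun x => H (θ x)) x)) k : ℂ)) =
          piFun fun x (k : H (θ x)) => (lam (θ x) k : ℂ) := by
        ext k
        simp [piFun]
      rw [this]
      exact h2
    · rw [hcard, Nat.card_pi, ← h3]
      exact Nat.mul_le_mul_right _ hd

end Wr

end Cfsg.Agent.Char
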